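import Cfsg.Agent.Lib.RootSub.OddPartner.Pairs
import Mathlib.Algebra.Group.Subgroup.Finite
import Mathlib.SetTheory.Cardinal.Finite
import Mathlib.Tactic.Ring

/-!
# Everything is `Q K ∪ Q K t Q`

If `E` and `t` generate, the group is `Q K ∪ Q K t Q`: either `r ∈ E`, or `Q` has order the square of
that of `E` and the pairs fill the coset of `r`, or an element of order three of `K` gives a contradiction.
-/

set_option autoImplicit false

namespace CfsgLib.RootInvol.OddPartner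

variable {X : Type*} [Group X]

/-- Membership in `P K ∪ P K t P`. -/
def Big (P K : Subgroup X) (t x : X) : Prop :=
  (∃ p ∈ P, ∃ k ∈ K, x = p * k) ∨ ∃ p ∈ P, ∃ k ∈ K, ∃ q ∈ P, x = p * k * t * q

theorem Big.mono {P P' K : Subgroup X} {t x : X} (hP : P ≤ P') (h : Big P K t x) : Big P' K t x := by
  rcases h with ⟨p, hp, k, hk, e⟩ | ⟨p, hp, k, hk, q, hq, e⟩
  · exact Or.inl ⟨p, hP hp, k, hk, e⟩
  · exact Or.inr ⟨p, hP hp, k, hk, q, hP hq, e⟩

namespace Setting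

variable {Q E K : Subgroup X} {t s r : X} (S : Setting Q E K t s r)
include S

theorem big_of_closed {P : Subgroup X} (hPk : ∀ k ∈ K, ∀ y ∈ P, cj k y ∈ P)
    (hP : ∀ y ∈ P, y ≠ 1 → ∃ g h f, g ∈ P ∧ f ∈ P ∧ Tri Q K t y g h f) :
    ∀ x ∈ Subgroup.closure ((P : Set X) ∪ {t}), Big P K t x := by
  intro x hx
  have hleft : ∀ y, y ∈ P → ∀ {x}, Big P K t x → Big P K t (y * x) := by
    rintro y hy x (⟨p, hp, k, hk, rfl⟩ | ⟨p, hp, k, hk, q, hq, rfl⟩)
    · exact Or.inl ⟨y * p, mul_mem hy hp, k, hk, by simp only [mul_assoc]⟩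
    · exact Or.inr ⟨y * p, mul_mem hy hp, k, hk, q, hq, by simp only [mul_assoc]⟩
  have ht : ∀ {x}, Big P K t x → Big P K t (t * x) := by
    rintro x (⟨p, hp, k, hk, rfl⟩ | ⟨p, hp, k, hk, q, hq, rfl⟩)
    · refine Or.inr ⟨1, one_mem _, k⁻¹, inv_mem hk, cj k⁻¹ p, hPk _ (inv_mem hk) _ hp, ?_⟩
      rw [one_mul, ← S.t_mul_k hk, cj]
      simp [mul_assoc]
    · by_cases hp1 : p = 1
      · subst hp1
        refine Or.inl ⟨cj k⁻¹ q, hPk _ (inv_mem hk) _ hq, k⁻¹, inv_mem hk, ?_⟩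
        calc t * (1 * k * t * q) = t * k * t * q := by simp only [one_mul, mul_assoc]
          _ = cj k⁻¹ q * k⁻¹ := by rw [S.inv k hk]; simp [cj, mul_assoc]
      · obtain ⟨g, h, f, hg, hf, -, hh, -, e⟩ := hP p hp hp1
        refine Or.inr ⟨g, hg, h * k, mul_mem hh hk, cj k f * q, mul_mem (hPk k hk f hf) hq, ?_⟩
        calc t * (p * k * t * q) = t * p * t * (t * k * t) * q := by
              rw [show t * p * t * (t * k * t) * q = t * p * (t * t) * k * t * q by simp only [mul_assoc],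
                S.t_sq]
              simp only [mul_one, mul_assoc]
          _ = g * h * (t * k⁻¹) * (cj k f) * q := by rw [e, S.inv k hk]; simp [cj, mul_assoc]
          _ = g * (h * k) * t * (cj k f * q) := by
              rw [S.t_mul_k (inv_mem hk), inv_inv]; simp only [mul_assoc]
  induction hx using Subgroup.closure_induction_left with
  | one => exact Or.inl ⟨1, one_mem _, 1, one_mem _, (mul_one 1).symm⟩
  | mul_left y hy x _ ih =>
    rcases hy with hy | hy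
    · exact hleft y hy ih
    · rw [Set.mem_singleton_iff.1 hy]; exact ht ih
  | inv_mul_cancel y hy x _ ih =>
    rcases hy with hy | hy
    · exact hleft y⁻¹ (inv_mem hy) ih
    · rw [Set.mem_singleton_iff.1 hy, S.t_inv]; exact ht ih

theorem big_E (hr : r ∈ E) (hgen : Subgroup.closure ((E : Set X) ∪ {t}) = ⊤) (x : X) : Big E K t x := by
  refine S.big_of_closed (fun k hk y hy => S.cj_memE hk hy) (fun y hy hy1 => ?_) x (hgen ▸ Subgroup.mem_top x)
  obtain ⟨k, ⟨hk, hke⟩, -⟩ := S.reg y hy hy1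
  exact ⟨_, _, _, inv_mem (S.cj_memE (inv_mem hk) hr), S.cj_memE (inv_mem hk) hr,
    (show cj k s = y from hke) ▸ S.tri_cj_s hk⟩

theorem eq_E (hr : r ∈ E) (hgen : Subgroup.closure ((E : Set X) ∪ {t}) = ⊤) : Q = E := by
  refine le_antisymm (fun y hy => ?_) S.le
  rcases S.big_E hr hgen y with ⟨p, hp, k, hk, e⟩ | ⟨p, hp, k, hk, q, hq, e⟩
  · have hkQ : k ∈ Q := by
      rw [show k = p⁻¹ * y by rw [e, inv_mul_cancel_left]]
      exact mul_mem (inv_mem (S.le hp)) hy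
    obtain ⟨-, hk1⟩ := S.uniq k⁻¹ (inv_mem hkQ) k hk (by rw [inv_mul_cancel, mul_one, S.t_sq]; exact one_mem Q)
    rw [e, hk1, mul_one]; exact hp
  · refine absurd ?_ (S.not_t (cj k⁻¹ (p⁻¹ * (y * q⁻¹))) (S.cj_memQ (inv_mem hk)
      (mul_mem (inv_mem (S.le hp)) (mul_mem hy (inv_mem (S.le hq))))) k⁻¹ (inv_mem hk))
    rw [e]; simp [cj, mul_assoc]

theorem card_E [Finite X] : Nat.card K + 1 = Nat.card E := by
  classical
  have h : Nat.card K = Nat.card {e : E // e ≠ 1} := by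
    refine Nat.card_eq_of_bijective (fun k => ⟨⟨cj k.1 s, S.cj_memE k.2 S.s_mem⟩,
      fun e => S.cj_s_ne (congrArg Subtype.val e)⟩) ⟨fun a b e => Subtype.ext (S.cj_s_inj a.2 b.2
        (congrArg (fun u : {e : E // e ≠ 1} => (u.1 : X)) e)), fun ⟨⟨e, he⟩, hne⟩ => ?_⟩
    obtain ⟨k, ⟨hk, hke⟩, -⟩ := S.reg e he (fun e1 => hne (Subtype.ext e1))
    exact ⟨⟨k, hk⟩, Subtype.ext (Subtype.ext hke)⟩
  rw [h, ← Finite.card_option]
  exact Nat.card_congr (Equiv.optionSubtypeNe 1)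

/-- The classes of a pair. -/
theorem pair_class {c d : X} (hc : c ∈ K) (hd : d ∈ K) (hy : Eqv E (cj c r * (cj d r)⁻¹) r) :
    Eqv E (cj c r * r) (cj d r) := by
  have hcQ := S.cj_memQ hc S.r_mem
  have hdQ := S.cj_memQ hd S.r_mem
  have hdc : Eqv E (cj c r) (r * cj d r) := by
    have h1 := S.eqv_mul S.r_mem hy (eqv_refl (cj d r))
    rwa [inv_mul_cancel_right] at h1
  refine eqv_trans (S.eqv_mul (mul_mem S.r_mem hdQ) hdc (eqv_refl r)) ?_
  have h2 := S.eqv_mul S.r_mem (eqv_refl r) (S.eqv_comm hdQ S.r_mem)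
  rw [← mul_assoc] at h2
  refine eqv_trans h2 ?_
  have h3 := S.eqv_mul (one_mem Q) (S.eqv_self_mul S.r_mem) (eqv_refl (cj d r))
  rwa [one_mul, mul_assoc] at h3

/-- Pairs of one class with the same parameters coincide. -/
theorem pair_inj (hr : r ∉ E) {c d c' d' σ : X} (hc : c ∈ K) (hd : d ∈ K) (hc' : c' ∈ K) (hd' : d' ∈ K)
    (hσ : σ ∈ K) (hσ1 : σ ≠ 1) (h1 : Eqv E (cj c r * (cj d r)⁻¹) r) (h2 : Eqv E (cj c' r * (cj d' r)⁻¹) r)
    (hf : cj d⁻¹ (cj (c * σ⁻¹) r * r⁻¹) = cj d'⁻¹ (cj (c' * σ⁻¹) r * r⁻¹)) : c = c' := by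
  have hQ : ∀ {k : X}, k ∈ K → cj k r ∈ Q := fun hk => S.cj_memQ hk S.r_mem
  have hcm : ∀ {a b : X}, a ∈ K → b ∈ K → a * b = b * a := fun ha hb => (S.k_comm _ ha _ hb).eq
  have hτ := inv_mem hσ
  -- one side
  have side : ∀ {c d c' d' : X}, c ∈ K → d ∈ K → c' ∈ K → d' ∈ K → Eqv E (cj c' r * (cj d' r)⁻¹) r →
      Eqv E (cj (d * d') (cj d⁻¹ (cj (c * σ⁻¹) r * r⁻¹)))
        (cj (c * σ⁻¹ * c') r * (cj (c * σ⁻¹) r * cj c' r) * r) := by
    intro c d c' d' hc hd hc' hd' h2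
    have hu := mul_mem hc hτ
    rw [cj_cj, show d * d' * d⁻¹ = d' by rw [hcm hd hd', mul_inv_cancel_right], cj_mul, cj_cj, cj_inv,
      hcm hd' hu, ← cj_cj]
    have hp := S.pair_class hc' hd' h2
    have hA : Eqv E (cj (c * σ⁻¹) (cj d' r)) (cj (c * σ⁻¹) (cj c' r * r)) := S.eqv_cj hu (eqv_symm hp)
    have hB : Eqv E (cj d' r)⁻¹ (cj c' r * r) := eqv_trans (S.eqv_inv (hQ hd')) (eqv_symm hp)
    have h := S.eqv_mul (S.cj_memQ hu (mul_mem (hQ hc') S.r_mem)) hA hB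
    simp only [cj_mul, cj_cj, mul_assoc] at h ⊢
    exact h
  have hL := side hc hd hc' hd' h2
  have hR := side hc' hd' hc hd h1
  rw [← hcm hd hd'] at hR
  rw [hf] at hL
  have h := eqv_trans (eqv_symm hL) hR
  rw [show c' * σ⁻¹ * c = c * σ⁻¹ * c' by
    rw [hcm hc' hτ, mul_assoc, hcm hc' hc, ← mul_assoc, ← hcm hc hτ]] at h
  -- cancel
  set p := cj (c * σ⁻¹ * c') r
  set u := cj (c * σ⁻¹) r
  set v := cj c' r
  set u' := cj (c' * σ⁻¹) r
  set v' := cj c r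
  have hp : p ∈ Q := hQ (mul_mem (mul_mem hc hτ) hc')
  have hu : u ∈ Q := hQ (mul_mem hc hτ)
  have hu' : u' ∈ Q := hQ (mul_mem hc' hτ)
  have hv : v ∈ Q := hQ hc'
  have hv' : v' ∈ Q := hQ hc
  have h3 := S.eqv_mul (mul_mem (mul_mem hp (mul_mem hu' hv')) S.r_mem) h (eqv_refl r⁻¹)
  rw [mul_inv_cancel_right, mul_inv_cancel_right] at h3
  have h4 := S.eqv_mul (inv_mem hp) (eqv_refl p⁻¹) h3
  rw [inv_mul_cancel_left, inv_mul_cancel_left] at h4
  have h5 : Eqv E u (u' * v' * v) := by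
    have := S.eqv_mul (mul_mem hu' hv') h4 (eqv_refl v⁻¹)
    rw [mul_inv_cancel_right] at this
    exact eqv_trans this (S.eqv_mul (mul_mem hu' hv') (eqv_refl _) (S.eqv_inv hv))
  have h6 : Eqv E (u * u') (v' * v) := by
    refine eqv_trans (S.eqv_mul (mul_mem (mul_mem hu' hv') hv) h5 (eqv_refl u')) ?_
    refine eqv_trans (S.eqv_comm (mul_mem (mul_mem hu' hv') hv) hu') ?_
    have := S.eqv_mul (one_mem Q) (S.eqv_self_mul hu') (eqv_refl (v' * v))
    rw [one_mul] at this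
    simpa only [mul_assoc] using this
  by_contra hne
  have hw : v' * v ∈ E := by
    by_contra hwE
    refine hσ1 (inv_eq_one.1 (S.eqv_fpf hτ (mul_mem hv' hv) ?_ hwE))
    rw [cj_mul, cj_cj, cj_cj, hcm hτ hc, hcm hτ hc']
    exact h6
  have h7 : Eqv E v' v := by
    have := S.eqv_mul (one_mem Q) (eqv_one.2 hw) (eqv_refl v⁻¹)
    rw [mul_inv_cancel_right, one_mul] at this
    exact eqv_trans this (S.eqv_inv hv)
  refine hne ?_
  have h8 := S.eqv_cj (inv_mem hc') h7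
  rw [cj_cj, cj_cj, inv_mul_cancel, cj_one] at h8
  exact (inv_mul_eq_one.1 (S.eqv_fpf (mul_mem (inv_mem hc') hc) S.r_mem h8 hr)).symm

/-- For `|Q| = |E| ^ 2` every class outside `E` is that of a conjugate of `r`. -/
theorem exists_class [Finite X] (hr : r ∉ E) (hcard : Nat.card Q = Nat.card E ^ 2) :
    ∀ y ∈ Q, y ∉ E → ∃ k ∈ K, ∃ e ∈ E, y = cj k r * e := by
  classical
  have hK := S.card_E
  let F : (K × E) ⊕ E → Q := Sum.elim (fun p => ⟨cj p.1.1 r * p.2.1,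
    mul_mem (S.cj_memQ p.1.2 S.r_mem) (S.le p.2.2)⟩) fun e => ⟨e.1, S.le e.2⟩
  have hnot : ∀ (k : K) (e : E), cj k.1 r * e.1 ∉ E := fun k e h => hr (by
    have := S.cj_memE (inv_mem k.2) ((Subgroup.mul_mem_cancel_right E e.2).1 h)
    rwa [cj_cj, inv_mul_cancel, cj_one] at this)
  have hinj : Function.Injective F := by
    rintro (⟨k, e⟩ | e) (⟨k', e'⟩ | e') h <;> have h' := congrArg Subtype.val h <;>
      simp only [F, Sum.elim_inl, Sum.elim_inr] at h'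
    · have h1 : Eqv E (cj k.1 r) (cj k'.1 r) := by
        show _ ∈ E
        rw [show cj k.1 r = cj k'.1 r * (e'.1 * e.1⁻¹) by rw [← mul_assoc, ← h', mul_inv_cancel_right],
          ← (S.e_comm _ (mul_mem e'.2 (inv_mem e.2)) _ (S.cj_memQ k'.2 S.r_mem)).eq, mul_inv_cancel_right]
        exact mul_mem e'.2 (inv_mem e.2)
      have h2 := S.eqv_cj (inv_mem k'.2) h1
      rw [cj_cj, cj_cj, inv_mul_cancel, cj_one] at h2
      have hk : k = k' := Subtype.ext (inv_mul_eq_one.1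
        (S.eqv_fpf (mul_mem (inv_mem k'.2) k.2) S.r_mem h2 hr)).symm
      subst hk
      simp only [mul_right_inj, SetLike.coe_eq_coe] at h'
      rw [h']
    · exact absurd (h' ▸ e'.2) (hnot k e)
    · exact absurd (h'.symm ▸ e.2) (hnot k' e')
    · rw [Subtype.ext h']
  have hb := (Nat.bijective_iff_injective_and_card F).2 ⟨hinj, by
    rw [Nat.card_sum, Nat.card_prod, hcard, ← hK]; ring⟩
  intro y hy hyE
  obtain ⟨z, hz⟩ := hb.2 ⟨y, hy⟩
  rcases z with ⟨k, e⟩ | e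
  · exact ⟨k, k.2, e, e.2, (congrArg Subtype.val hz).symm⟩
  · have he : (e : X) = y := congrArg Subtype.val hz
    exact absurd (he ▸ e.2) hyE

/-- The decomposition of every element when `|Q| = |E| ^ 2`. -/
theorem cover [Finite X] (hr : r ∉ E) (hcard : Nat.card Q = Nat.card E ^ 2) {y : X} (hy : y ∈ Q) (hy1 : y ≠ 1) :
    ∃ g h f, Tri Q K t y g h f := by
  classical
  by_cases hyE : y ∈ E
  · obtain ⟨k, ⟨hk, hke⟩, -⟩ := S.reg y hyE hy1
    exact ⟨_, _, _, (show cj k s = y from hke) ▸ S.tri_cj_s hk⟩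
  have hK := S.card_E
  -- every class is that of a conjugate of `r`
  have hcls := S.exists_class hr hcard
  -- the pairs
  have hpair : ∀ c : K, (c : X) ≠ 1 → ∃ d ∈ K, ∃ σ ∈ K, σ ≠ 1 ∧ Eqv E (cj c.1 r * (cj d r)⁻¹) r ∧
      Tri Q K t (cj c.1 r * (cj d r)⁻¹) (cj (c : X)⁻¹ (r * (cj (d * σ⁻¹) r)⁻¹)) (σ * σ)⁻¹
        (cj d⁻¹ (cj (c.1 * σ⁻¹) r * r⁻¹)) := by
    intro c hc1
    have hcQ := S.cj_memQ c.2 S.r_mem
    have hne : r⁻¹ * cj c.1 r ∉ E := fun h => hc1 (S.eqv_fpf c.2 S.r_mem (by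
      have h1 := S.eqv_mul S.r_mem (eqv_refl r) (eqv_one.2 h)
      rwa [mul_inv_cancel_left, mul_one] at h1) hr)
    obtain ⟨d, hd, e, he, hde⟩ := hcls _ (mul_mem (inv_mem S.r_mem) hcQ) hne
    have h1 : Eqv E (cj d r) (r⁻¹ * cj c.1 r) := by
      rw [hde]
      show _ * (_ * e)⁻¹ ∈ E
      rw [mul_inv_rev, ← (S.e_comm e he _ (S.cj_memQ hd S.r_mem)).inv_inv.eq.symm, mul_inv_cancel_left]
      exact inv_mem he
    have hy : Eqv E (cj c.1 r * (cj d r)⁻¹) r := by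
      have h2 := S.eqv_mul hcQ (eqv_refl (cj c.1 r))
        (S.eqv_inv_congr (mul_mem (inv_mem S.r_mem) hcQ) (S.cj_memQ hd S.r_mem) h1)
      rwa [mul_inv_rev, inv_inv, mul_inv_cancel_left] at h2
    have hcd : (c : X) ≠ d := fun e1 => hr (by
      rw [← e1, mul_inv_cancel] at hy
      simpa [Eqv] using eqv_one.1 (eqv_symm hy))
    obtain ⟨σ, hσ, hσe⟩ := S.exists_sum c.2 hd hcd
    refine ⟨d, hd, σ, hσ, fun e1 => ?_, hy, S.tri_pair c.2 hd hσ hσe⟩
    rw [e1, cj_one] at hσe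
    exact S.no_pair hr c.2 hd hσe hy
  choose D hD σ hσ hσ1 hcl htri using hpair
  let Y : K ⊕ Unit → X := Sum.elim (fun c => if hc : (c : X) = 1 then r else cj c.1 r * (cj (D c hc) r)⁻¹)
    fun _ => r⁻¹
  have hY : ∀ z, Y z * r⁻¹ ∈ E ∧ ∃ g h f, Tri Q K t (Y z) g h f := by
    rintro (c | _)
    · simp only [Y, Sum.elim_inl]
      split_ifs with hc
      · exact ⟨by simp, _, _, _, S.tri_r⟩
      · exact ⟨hcl c hc, _, _, _, htri c hc⟩
    · exact ⟨S.q_sq _ (inv_mem S.r_mem), _, _, _, S.tri_r_inv⟩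
  have hh : ∀ (c : K) (hc : (c : X) ≠ 1) (g f : X),
      ¬ Tri Q K t (cj c.1 r * (cj (D c hc) r)⁻¹) g 1 f := fun c hc g f hT => hσ1 c hc
    (S.sq_eq_one (hσ c hc) (inv_eq_one.1 (S.tri_unique (htri c hc) hT).2.1))
  have hr2 : r ≠ r⁻¹ := fun e => hr (S.q_invol r S.r_mem (by nth_rw 2 [e]; exact mul_inv_cancel r))
  have hinj : Function.Injective Y := by
    rintro (c | _) (c' | _) h <;> simp only [Y, Sum.elim_inl, Sum.elim_inr] at h
    · split_ifs at h with hc hc' hc'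
      · exact congrArg Sum.inl (Subtype.ext (hc.trans hc'.symm))
      · exact absurd (h ▸ S.tri_r) (hh c' hc' _ _)
      · exact absurd (h.symm ▸ S.tri_r) (hh c hc _ _)
      · have hT := htri c hc
        rw [h] at hT
        obtain ⟨-, e2, e3⟩ := S.tri_unique hT (htri c' hc')
        have hσe : σ c hc = σ c' hc' := S.sq_inj (hσ c hc) (hσ c' hc') (inv_injective e2)
        rw [← hσe] at e3
        exact congrArg Sum.inl (Subtype.ext (S.pair_inj hr c.2 (hD c hc) c'.2 (hD c' hc') (hσ c hc)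
          (hσ1 c hc) (hcl c hc) (hcl c' hc') e3))
    · split_ifs at h with hc
      · exact absurd h hr2
      · exact absurd (h.symm ▸ S.tri_r_inv) (hh c hc _ _)
    · split_ifs at h with hc
      · exact absurd h.symm hr2
      · exact absurd (h ▸ S.tri_r_inv) (hh c' hc _ _)
    · rfl
  let G : K ⊕ Unit → E := fun z => ⟨Y z * r⁻¹, (hY z).1⟩
  have hG := (Nat.bijective_iff_injective_and_card G).2 ⟨fun a b e => hinj
    (mul_right_cancel (congrArg Subtype.val e)), by rw [Nat.card_sum, Nat.card_unique (α := Unit), hK]⟩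
  obtain ⟨k, hk, e, he, rfl⟩ := hcls y hy hyE
  obtain ⟨z, hz⟩ := hG.2 ⟨cj k⁻¹ e, S.cj_memE (inv_mem hk) he⟩
  have hz' : Y z = cj k⁻¹ e * r := mul_inv_eq_iff_eq_mul.1 (congrArg Subtype.val hz)
  obtain ⟨g, h, f, hT⟩ := (hY z).2
  have hT' := S.tri_conj hk hT
  rw [show k * Y z * k⁻¹ = cj k r * e by
    rw [hz', (S.e_comm _ (S.cj_memE (inv_mem hk) he) r S.r_mem).eq]
    simp [cj, mul_assoc]] at hT'
  exact ⟨_, _, _, hT'⟩

/-- With `r` outside `E` the torus has no element of order three. -/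
theorem no_three (hr : r ∉ E) {ω : X} (hω : ω ∈ K) (hω1 : ω ≠ 1) (hω3 : ω * ω * ω = 1) : False := by
  have hω2 := mul_mem hω hω
  have hr1 := S.cj_memQ hω S.r_mem
  have hr2 := S.cj_memQ hω2 S.r_mem
  have hω3' : ω * (ω * ω) = 1 := by rw [← mul_assoc, hω3]
  refine S.no_pair hr hω hω2 ?_ ?_
  · have hs1 := S.cj_memE hω S.s_mem
    have hs2 := S.cj_memE hω2 S.s_mem
    by_cases hz : s * (cj ω s * cj (ω * ω) s) = 1
    · rw [eq_inv_of_mul_eq_one_right hz, S.s_inv]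
    · obtain ⟨a, ⟨ha, hae⟩, -⟩ := S.reg _ (mul_mem S.s_mem (mul_mem hs1 hs2)) hz
      refine absurd ?_ hω1
      have h1 : cj (ω * a) s = cj a s := by
        rw [← cj_cj, show cj a s = s * (cj ω s * cj (ω * ω) s) from hae, cj_mul, cj_mul, cj_cj, cj_cj, hω3',
          cj_one, ← mul_assoc]
        exact ((S.e_comm s S.s_mem _ (S.le (mul_mem hs1 hs2))).eq).symm
      simpa using S.cj_s_inj (mul_mem hω ha) ha h1
  · set w := r * (cj ω r * cj (ω * ω) r) with hw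
    have hwQ : w ∈ Q := mul_mem S.r_mem (mul_mem hr1 hr2)
    have hwE : w ∈ E := by
      by_contra hwE
      refine hω1 (S.eqv_fpf hω hwQ ?_ hwE)
      rw [hw, cj_mul, cj_mul, cj_cj, cj_cj, hω3', cj_one, ← mul_assoc]
      exact S.eqv_comm (mul_mem hr1 hr2) S.r_mem
    have h1 := S.eqv_mul (inv_mem S.r_mem) (eqv_refl r⁻¹) (eqv_one.2 hwE)
    rw [hw, inv_mul_cancel_left, mul_one] at h1
    exact eqv_trans (S.eqv_mul hr1 (eqv_refl _) (S.eqv_inv hr2)) (eqv_trans h1 (S.eqv_inv S.r_mem))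

/-- **The decomposition.** -/
theorem big [Finite X] (hgen : Subgroup.closure ((E : Set X) ∪ {t}) = ⊤)
    (hcard : Nat.card Q = Nat.card E ∨ Nat.card Q = Nat.card E ^ 2 ∨ Nat.card Q = Nat.card E ^ 3)
    (hω : r ∉ E → Nat.card Q = Nat.card E ^ 3 → ∃ ω ∈ K, ω ≠ 1 ∧ ω * ω * ω = 1) (x : X) :
    Big Q K t x ∧ (Nat.card Q = Nat.card E ∨ Nat.card Q = Nat.card E ^ 2) := by
  by_cases hr : r ∈ E
  · exact ⟨(S.big_E hr hgen x).mono S.le, Or.inl (by rw [S.eq_E hr hgen])⟩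
  rcases hcard with h1 | h2 | h3
  · exact absurd ((Subgroup.eq_of_le_of_card_ge S.le h1.le) ▸ S.r_mem) hr
  · refine ⟨S.big_of_closed (fun k hk y hy => S.cj_memQ hk hy) (fun y hy hy1 => ?_) x ?_, Or.inr h2⟩
    · obtain ⟨g, h, f, hT⟩ := S.cover hr h2 hy hy1
      exact ⟨g, h, f, hT.1, hT.2.2.1, hT⟩
    · exact Subgroup.closure_mono (Set.union_subset_union_left _ S.le) (hgen ▸ Subgroup.mem_top x)
  · obtain ⟨ω, hω, hω1, hω3⟩ := hω hr h3
    exact (S.no_three hr hω hω1 hω3).elim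

end Setting

end CfsgLib.RootInvol.OddPartner
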