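import Cfsg.Agent.Lib.RootSub.OddPartner.RankOne
import Cfsg.Agent.S1124

/-!
# An element of order three in the torus

If `t s t = r⁻¹ t r` with `r` of order four, `s t` has order five.  So five divides the number of points or
the order of the torus, and three divides the latter when `Q` has order the cube of `q`.
-/

set_option autoImplicit false
set_option linter.style.haveILetI false

namespace CfsgLib.RootInvol.OddPartner

open Subgroup CfsgLib.Invol MulAction CfsgLib.SECrit.Shape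

universe u

theorem two_pow_odd_mod_five (j : ℕ) : 2 ^ (2 * j + 1) % 5 = 2 ∨ 2 ^ (2 * j + 1) % 5 = 3 := by
  induction j with
  | zero => exact Or.inl rfl
  | succ j ih =>
    rw [show 2 * (j + 1) + 1 = 2 * j + 1 + 2 by ring, pow_add, Nat.mul_mod]
    rcases ih with h | h <;> rw [h] <;> decide

theorem three_dvd_of_five {β : ℕ} (h : 5 ∣ 2 ^ β - 1 ∨ 5 ∣ (2 ^ β) ^ 3 + 1) : 3 ∣ 2 ^ β - 1 := by
  rcases Nat.even_or_odd' β with ⟨j, rfl | rfl⟩
  · rw [pow_mul]
    have h4 := Nat.sub_dvd_pow_sub_pow 4 1 j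
    rw [one_pow] at h4
    simpa using h4
  · exfalso
    have h5 := two_pow_odd_mod_five j
    have h3 : (2 ^ (2 * j + 1)) ^ 3 % 5 = (2 ^ (2 * j + 1) % 5) ^ 3 % 5 := Nat.pow_mod _ _ _
    have h1 : 1 ≤ 2 ^ (2 * j + 1) := Nat.one_le_two_pow
    rcases h5 with h5 | h5 <;> rw [h5] at h3 <;> norm_num at h3 <;> omega

variable {G : Type u} [Group G] [Finite G] {H Q : Subgroup G} (h : Data H Q)
include h

/-- The order of `s t` is five. -/
theorem pow_five {t s r : G} (hto : orderOf t = 2) (hsH : s ∈ H) (hso : orderOf s = 2) (hr : r ∈ Q)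
    (hrel : t * s * t = r⁻¹ * t * r) (hsr : Commute s r) (he : orderOf (r * r) = 2) : (s * t) ^ 5 = 1 := by
  have hs2 := invol_mul_self hso
  have ht2 := invol_mul_self hto
  have hsQ : s ∈ Q := h.mem_of_invol hsH hs2
  set u := s * t
  have h1 : r⁻¹ * u * r = u * u := by
    calc r⁻¹ * (s * t) * r = (r⁻¹ * s * r) * (r⁻¹ * t * r) := by group
      _ = s * (t * s * t) := by rw [← hrel, mul_assoc r⁻¹, hsr.eq, inv_mul_cancel_left]
      _ = u * u := by simp only [u, mul_assoc]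
  have hconj : ∀ n : ℕ, r⁻¹ * u ^ n * r = u ^ (2 * n) := fun n => by
    rw [show r⁻¹ * u ^ n * r = (r⁻¹ * u * r) ^ n by
      simpa using (conj_pow (i := n) (a := r⁻¹) (b := u)).symm, h1, ← pow_two, ← pow_mul]
  have he4 : ∀ n : ℕ, (r * r)⁻¹ * u ^ n * (r * r) = u ^ (4 * n) := fun n => by
    rw [show (r * r)⁻¹ * u ^ n * (r * r) = r⁻¹ * (r⁻¹ * u ^ n * r) * r by group, hconj, hconj]
    congr 1; ring
  have h15 : u ^ 15 = 1 := by
    have e := invol_mul_self he
    have h16 : u ^ (4 * (4 * 1)) = u ^ 1 := by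
      rw [← he4, ← he4, show (r * r)⁻¹ * ((r * r)⁻¹ * u ^ 1 * (r * r)) * (r * r)
        = ((r * r) * (r * r))⁻¹ * u ^ 1 * ((r * r) * (r * r)) by group, e, inv_one, one_mul, mul_one]
    rw [pow_one, show (4 * (4 * 1) : ℕ) = 15 + 1 by norm_num, pow_succ] at h16
    exact mul_eq_right.1 h16
  set w := u ^ 5
  have hw3 : w ^ 3 = 1 := by rw [← pow_mul]; exact h15
  have hwe : w * (r * r) * w⁻¹ = r * r := by
    have h20 := he4 5
    rw [show (4 * 5 : ℕ) = 5 + 15 by norm_num, pow_add, h15, mul_one] at h20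
    rw [mul_inv_eq_iff_eq_mul]
    conv_rhs => rw [show w = (r * r)⁻¹ * w * (r * r) from h20.symm]
    group
  have hwH : w ∈ H := mem_of_conj_mem h.se (h.le (mul_mem hr hr)) he (by rw [hwe]; exact h.le (mul_mem hr hr))
  have hsw : s * w⁻¹ * s = w := by
    have h2 : s * u⁻¹ * s = u := by
      rw [mul_inv_rev, invol_inv hso, invol_inv hto,
        show s * (t * s) * s = s * t * (s * s) by simp only [mul_assoc], hs2, mul_one]
    have h3 := conj_pow (i := 5) (a := s) (b := u⁻¹)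
    rw [invol_inv hso, h2, inv_pow] at h3
    exact h3.symm
  have hw2 : w * w ∈ Q := by
    rw [show w * w = (w * s * w⁻¹) * s by conv_lhs => arg 2; rw [← hsw]
                                          simp only [mul_assoc]]
    exact mul_mem ((mem_normalizer_iff.1 (h.norm hwH) s).1 hsQ) hsQ
  obtain ⟨k, hk⟩ := h.two ⟨w * w, hw2⟩
  have h6 : w * w = 1 := eq_one_of_odd_of_pow_two (k := k)
    (Odd.of_dvd_nat (by decide : Odd 3) (orderOf_dvd_of_pow_eq_one (by rw [← pow_two, ← pow_mul, mul_comm, pow_mul, hw3, one_pow])))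
    (congrArg Subtype.val hk)
  rw [pow_succ, pow_two, h6, one_mul] at hw3
  exact hw3

/-- **Three divides the order of the torus.** -/
theorem three_dvd {t s r : G} (hto : orderOf t = 2) (htH : t ∉ H) (hsH : s ∈ H) (hso : orderOf s = 2)
    (hr : r ∈ Q) (hrel : t * s * t = r⁻¹ * t * r) (hsr : Commute s r) (he : orderOf (r * r) = 2)
    {β : ℕ} (hq : Nat.card (Cfsg.involutionsIn (stabilizer G ((1 : G) : G ⧸ H) : Set G)) = 2 ^ β - 1)
    (hQ : Nat.card Q = (2 ^ β) ^ 3) : 3 ∣ 2 ^ β - 1 := by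
  haveI := faithfulSMul h
  haveI : Fact (Nat.Prime 5) := ⟨Nat.prime_five⟩
  set a : G ⧸ H := ((1 : G) : G ⧸ H) with ha
  have hS := setup_of h hto htH
  set u := s * t with hu
  have hu5 := pow_five h hto hsH hso hr hrel hsr he
  have hstab : stabilizer G a = H := MulAction.stabilizer_quotient H
  have huH : u ∉ H := fun e => htH ((mul_mem_cancel_left hsH).1 e)
  have hu1 : u ≠ 1 := fun e => huH (e ▸ one_mem H)
  by_cases h5 : 5 ∣ Nat.card (G ⧸ H)
  · rw [h.card_points, hQ] at h5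
    exact three_dvd_of_five (Or.inr h5)
  refine three_dvd_of_five (Or.inl ?_)
  have hP : IsPGroup 5 (zpowers u) := IsPGroup.of_card (n := 1) (by
    rw [Nat.card_zpowers, pow_one]; exact orderOf_eq_prime hu5 hu1)
  obtain ⟨b, hb⟩ := hP.nonempty_fixed_point_of_prime_not_dvd_card (G ⧸ H) h5
  have hub : u • b = b := hb ⟨u, mem_zpowers u⟩
  have hba : b ≠ a := fun e => huH (hstab ▸ (e ▸ hub : u • a = a))
  have hsQ : s ∈ Q := h.mem_of_invol hsH (invol_mul_self hso)
  have hsb : b ≠ s • b := fun e => by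
    obtain ⟨_, -, huniq⟩ := (Cfsg.Agent.S1119.result hS).1 b b hba hba
    exact invol_ne_one hso (congrArg Subtype.val ((huniq ⟨s, hsQ⟩ e.symm).trans (huniq 1 (one_smul G b)).symm))
  have hta : a ≠ t • a := fun e => htH (hstab ▸ (e.symm : t • a = a))
  obtain ⟨g, hg1, hg2⟩ := (is_two_pretransitive_iff.1 hS.two_transitive) hta hsb
  have hsu : s * u * s = u⁻¹ := by
    rw [hu, mul_inv_rev, invol_inv hso, invol_inv hto, ← mul_assoc, invol_mul_self hso, one_mul]
  have husb : u • s • b = s • b := by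
    rw [smul_smul, show u * s = s * u⁻¹ by rw [← hsu]; simp [← mul_assoc, invol_mul_self hso], mul_smul,
      inv_smul_eq_iff.2 hub.symm]
  set v := g⁻¹ * u * g with hv
  set s' := g⁻¹ * s * g with hs'
  set D := stabilizer G a ⊓ stabilizer G (t • a) with hD
  have hvD : v ∈ D := by
    refine mem_inf.2 ⟨?_, ?_⟩
    · rw [mem_stabilizer_iff, hv, mul_smul, mul_smul, hg1, hub, inv_smul_eq_iff, hg1]
    · rw [mem_stabilizer_iff, hv, mul_smul, mul_smul, hg2, husb, inv_smul_eq_iff, hg2]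
  set d := s' * t with hd
  have hs'2 : s' * s' = 1 := by
    rw [hs', show g⁻¹ * s * g * (g⁻¹ * s * g) = g⁻¹ * (s * s) * g by group, invol_mul_self hso]; group
  have hsb2 : s • s • b = b := by rw [smul_smul, invol_mul_self hso, one_smul]
  have hta2 : t • t • a = a := by rw [smul_smul, invol_mul_self hto, one_smul]
  have hdD : d ∈ D := by
    refine mem_inf.2 ⟨?_, ?_⟩
    · rw [mem_stabilizer_iff, hd, mul_smul, hs', mul_smul, mul_smul, hg2, hsb2, inv_smul_eq_iff, hg1]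
    · rw [mem_stabilizer_iff, hd, mul_smul, hta2, hs', mul_smul, mul_smul, hg1, inv_smul_eq_iff, hg2]
  obtain ⟨C, hC, -, hCn⟩ := Cfsg.Agent.S1131.result hS h.pair_mul
  have hmemC : ∀ {c : G}, c ∈ C ↔ c ∈ D ∧ t * c * t⁻¹ = c⁻¹ := fun {c} => by
    rw [← SetLike.mem_coe, hC]; rfl
  have hti : t⁻¹ = t := invol_inv hto
  have hdt : d * t = s' := by rw [hd, mul_assoc, invol_mul_self hto, mul_one]
  have hdC : d ∈ C := hmemC.2 ⟨hdD, by
    rw [hti, eq_inv_iff_mul_eq_one, mul_assoc _ t d]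
    calc t * d * (t * d) = t * (d * t * (d * t)) * t := by
          rw [show t * (d * t * (d * t)) * t = t * d * (t * d) * (t * t) by simp only [mul_assoc],
            invol_mul_self hto, mul_one]
      _ = 1 := by rw [hdt, hs'2, mul_one, invol_mul_self hto]⟩
  have hsv : s' * v * s' = v⁻¹ := by
    rw [hs', hv, show g⁻¹ * s * g * (g⁻¹ * u * g) * (g⁻¹ * s * g) = g⁻¹ * (s * u * s) * g by group, hsu]
    group
  have htv : t * v * t = d⁻¹ * v⁻¹ * d := by
    rw [← hsv, hd, mul_inv_rev, hti, inv_eq_of_mul_eq_one_right hs'2]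
    simp only [mul_assoc, ← mul_assoc s' s', hs'2, one_mul]
  have hnorm : ∀ y ∈ D, t * y * t⁻¹ ∈ D := fun y hy => by
    obtain ⟨hy1, hy2⟩ := mem_inf.1 hy
    rw [mem_stabilizer_iff] at hy1 hy2
    refine mem_inf.2 ⟨?_, ?_⟩ <;> rw [mem_stabilizer_iff, mul_smul, mul_smul, hti]
    · rw [hy2, hta2]
    · rw [hta2, hy1]
  obtain ⟨⟨y, z⟩, ⟨⟨hyD, hyt⟩, ⟨hzD, hzt⟩, hvyz⟩, -⟩ := (Cfsg.Agent.S1124.result t hto D hS.odd_card hnorm).1 v hvD
  dsimp only at hyD hyt hzD hzt hvyz
  have hzC : z ∈ C := hmemC.2 ⟨hzD, hzt⟩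
  have hyt' : t * y * t⁻¹ = y := by
    rw [← mem_centralizer_singleton_iff.1 hyt, mul_inv_cancel_right]
  have hy2 : y * y ∈ C := by
    have h1 : d⁻¹ * v⁻¹ * d * v ∈ C := by
      rw [show d⁻¹ * v⁻¹ * d * v = d⁻¹ * (v⁻¹ * d * v⁻¹⁻¹) by group]
      exact mul_mem (inv_mem hdC) (hCn v⁻¹ (inv_mem hvD) d hdC)
    have h2 : t * v * t⁻¹ = y * z⁻¹ := by
      rw [hvyz, show t * (y * z) * t⁻¹ = (t * y * t⁻¹) * (t * z * t⁻¹) by group, hyt', hzt]
    rw [← htv, show t * v * t = y * z⁻¹ by rw [← h2, hti], hvyz] at h1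
    have h3 := mul_mem (mul_mem (hCn y hyD z hzC) h1) (inv_mem hzC)
    rwa [show y * z * y⁻¹ * (y * z⁻¹ * (y * z)) * z⁻¹ = y * y by group] at h3
  have hy1 : y = 1 := by
    obtain ⟨-, h1⟩ := hmemC.1 hy2
    rw [show t * (y * y) * t⁻¹ = (t * y * t⁻¹) * (t * y * t⁻¹) by group, hyt'] at h1
    refine eq_one_of_odd_of_pow_two (k := 2) ?_ ?_
    · rw [← orderOf_mk (G := G) (H := D) y hyD]
      exact hS.odd_card.of_dvd_nat (orderOf_dvd_natCard _)
    · rw [show (2 ^ 2 : ℕ) = 2 * 2 from rfl, pow_mul, pow_two, pow_two]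
      exact eq_inv_iff_mul_eq_one.1 h1
  have hvC : v ∈ C := by rw [hvyz, hy1, one_mul]; exact hzC
  have hvo : orderOf v = 5 := by
    refine orderOf_eq_prime ?_ ?_
    · rw [hv, show g⁻¹ * u * g = g⁻¹ * u * g⁻¹⁻¹ by rw [inv_inv], conj_pow, hu5, mul_one, mul_inv_cancel]
    · intro e
      apply hu1
      calc u = g * v * g⁻¹ := by rw [hv]; group
        _ = 1 := by rw [e, mul_one, mul_inv_cancel]
  have hcard : Nat.card C = 2 ^ β - 1 := by
    have e := (Cfsg.Agent.S1122.result hS).1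
    rw [← hC] at e
    exact e.trans hq
  rw [← hcard, ← hvo, ← orderOf_mk (G := G) (H := C) v hvC]
  exact orderOf_dvd_natCard _

end CfsgLib.RootInvol.OddPartner
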