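import Cfsg.Agent.Lib.RootSub.OddPartner.Setup
import Cfsg.Agent.Lib.Invol.TI
import Cfsg.Agent.Lib.PGroup.Basic

/-!
# A member with an odd partner and no line

Let `a`, `x` be members that do not commute, let `E` be the members commuting with the same members as
`a`, and let `E ∪ {x}` generate a group without normal two-subgroup.  If `a` is on no line then
`E = {a}` and the group is dihedral: the members commuting with `axa` are the translates `hxh` of the
members `h` commuting with `a`, so `axa` and `bxb` (`b ∈ E`) have the same commuting members, and the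
products within the classes of `a` and of `x` generate a normal two-subgroup.
-/

set_option autoImplicit false

namespace CfsgLib.RootInvol.OddPartner

open CfsgLib.RootInvol.OddTr

variable {G : Type*} [Group G] {D : Set G}

/-- The members commuting with the same members as `a`. -/
def sameSet (D : Set G) (a : G) : Set G := {b | b ∈ D ∧ Same D a b}

theorem commute_of_same {a b : G} (ha : a ∈ D) (hb : b ∈ sameSet D a) : Commute a b :=
  ((hb.2.iff ha).1 (Commute.refl a)).symm

theorem commute_sameSet {a b c : G} (ha : a ∈ D) (hb : b ∈ sameSet D a) (hc : c ∈ sameSet D a) :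
    Commute b c :=
  (hb.2.iff hc.1).1 (commute_of_same ha hc)

theorem not_commute_conj_mid [Finite G] (hD : Cfsg.IsOddTranspositionSet D) {a x : G} (ha : a ∈ D) (hx : x ∈ D)
    (hax : ¬ Commute a x) : ¬ Commute x (a * x * a) := by
  intro h
  have sa := mul_self hD.1 ha
  have sx := mul_self hD.1 hx
  have hodd := (oddAdj_of_not_commute hD hx ha (fun e => hax e.symm)).2.2.2
  have h4 : (x * a) ^ 2 ^ 2 = 1 := by
    have h2 : (x * a) ^ 2 = x * (a * x * a) := by rw [pow_two]; simp only [mul_assoc]
    rw [show 2 ^ 2 = 2 * 2 from rfl, pow_mul, h2, h.mul_pow, pow_two x, sx, one_mul, pow_two,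
      show a * x * a * (a * x * a) = a * (x * (a * a) * x) * a by simp only [mul_assoc],
      sa, mul_one, sx, mul_one, sa]
  have h1 := CfsgLib.Invol.eq_one_of_odd_of_pow_two (k := 2) hodd h4
  have he : a = x := by
    rw [← inv_eq hD.1 hx]
    exact eq_inv_of_mul_eq_one_right h1
  exact hax (he ▸ Commute.refl a)

theorem central_eq_one [Finite G] (hO : Cfsg.pCore 2 G = ⊥) {S : Set G}
    (hgen : Subgroup.closure S = ⊤) {u : G} (hu : u * u = 1) (hc : ∀ s ∈ S, Commute u s) : u = 1 := by
  have hcen : ∀ g : G, Commute u g := fun g => by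
    have hg : g ∈ Subgroup.closure S := hgen ▸ Subgroup.mem_top g
    induction hg using Subgroup.closure_induction with
    | mem s hs => exact hc s hs
    | one => exact Commute.one_right u
    | mul p q _ _ hp hq => exact hp.mul_right hq
    | inv p _ hp => exact hp.inv_right
  have hn : (Subgroup.zpowers u).Normal := ⟨fun n hn g => by
    obtain ⟨i, rfl⟩ := hn
    show g * u ^ i * g⁻¹ ∈ Subgroup.zpowers u
    rw [← ((hcen g).zpow_left i).eq, mul_inv_cancel_right]
    exact ⟨i, rfl⟩⟩
  have hp : IsPGroup 2 ↥(Subgroup.zpowers u) := by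
    rintro ⟨_, i, rfl⟩
    exact ⟨1, Subtype.ext (by
      show (u ^ i) ^ 2 ^ 1 = 1
      rw [← zpow_natCast, zpow_comm, zpow_natCast, pow_one, pow_two, hu, one_zpow])⟩
  have := CfsgLib.PGroup.le_pCore hn hp (Subgroup.mem_zpowers u)
  rwa [hO, Subgroup.mem_bot] at this

/-- The hypotheses: `E(a)` and `x` generate, no normal two-subgroup, `a` on no line. -/
structure Lineless (D : Set G) (a x : G) : Prop where
  ot : Cfsg.IsOddTranspositionSet D
  memA : a ∈ D
  memX : x ∈ D
  apart : ¬ Commute a x
  gen : Subgroup.closure (sameSet D a ∪ {x}) = ⊤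
  core : Cfsg.pCore 2 G = ⊥
  noLine : ¬ Lined D a

namespace Lineless

variable [Finite G] {a x : G}

theorem translate_commute (h : Lineless D a x) {f : G} (hf : f ∈ D) (haf : Commute a f) :
    Commute (a * x * a) (f * x * f) := by
  by_cases hfa : f = a
  · rw [hfa]
  have sa := mul_self h.ot.1 h.memA
  have sf := mul_self h.ot.1 hf
  have hinv : (a * f)⁻¹ = a * f := by
    rw [mul_inv_rev, inv_eq h.ot.1 h.memA, inv_eq h.ot.1 hf, haf.eq]
  have key : Commute x (a * f * x * (a * f)⁻¹) := by
    by_contra hn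
    obtain ⟨w, hw, hwx, hwn⟩ := exists_mid h.ot h.memX (h.ot.1.conj_mem x h.memX _) hn
    obtain ⟨haw, hfw⟩ := middle_commute h.ot h.memA hf hw (Ne.symm hfa) haf
      (oddAdj_of_not_commute h.ot hw h.memX hwn).2.2.2 hwx
    have sw := mul_self h.ot.1 hw
    have hu2 : a * f * w * (a * f * w) = 1 := by
      rw [(haw.mul_left hfw).eq, show w * (a * f) * (w * (a * f)) = w * ((a * f) * w) * (a * f) by
        simp only [mul_assoc], (haw.mul_left hfw).eq, ← mul_assoc w w, sw, one_mul]
      nth_rewrite 1 [← hinv]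
      exact inv_mul_cancel _
    have hux : Commute (a * f * w) x := by
      rw [← conj_eq_self_iff, mul_inv_rev, inv_eq h.ot.1 hw,
        show a * f * w * x * (w * (a * f)⁻¹) = a * f * (w * x * w) * (a * f)⁻¹ by simp only [mul_assoc],
        hwx, hinv, show a * f * (a * f * x * (a * f)) * (a * f)
          = (a * f * (a * f)) * x * (a * f * (a * f)) by simp only [mul_assoc],
        show a * f * (a * f) = 1 by nth_rewrite 1 [← hinv]; exact inv_mul_cancel _, one_mul, mul_one]
    have hu : a * f * w = 1 := by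
      refine central_eq_one h.core h.gen hu2 ?_
      rintro s (hs | hs)
      · exact (((commute_of_same h.memA hs).mul_left ((hs.2.iff hf).1 haf).symm).mul_left
          ((hs.2.iff hw).1 haw).symm)
      · rw [Set.mem_singleton_iff] at hs
        rw [hs]
        exact hux
    refine h.noLine ⟨f, hf, hfa, haf, ?_⟩
    rw [eq_inv_of_mul_eq_one_left hu, inv_eq h.ot.1 hw]
    exact hw
  have h2 := (commute_conj_iff a).2 key
  rw [hinv, inv_eq h.ot.1 h.memA, show a * (a * f * x * (a * f)) * a = (a * a) * f * x * (a * f * a) by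
    simp only [mul_assoc], sa, one_mul,
    show a * f * a = f by rw [haf.eq, mul_assoc, sa, mul_one]] at h2
  exact h2

theorem cls_apart (h : Lineless D a x) {f : G} (hf : f ∈ D) (haf : Commute a f) : ¬ Commute f x := by
  intro hfx
  have h1 := h.translate_commute hf haf
  rw [hfx.eq, mul_assoc x f f, mul_self h.ot.1 hf, mul_one] at h1
  exact not_commute_conj_mid h.ot h.memA h.memX h.apart h1.symm

/-- The members commuting with `axa`. -/
theorem cls_translate (h : Lineless D a x) :
    (fun f => f * x * f) '' cls D a = cls D (a * x * a) := by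
  have hconjD : ∀ {f : G}, f ∈ D → f * x * f ∈ D := fun {f} hf => by
    have := h.ot.1.conj_mem x h.memX f
    rwa [inv_eq h.ot.1 hf] at this
  refine Set.eq_of_subset_of_ncard_le ?_ ?_ (Set.toFinite _)
  · rintro _ ⟨f, hf, rfl⟩
    exact ⟨hconjD hf.1, h.translate_commute hf.1 hf.2⟩
  · have hinj : Set.InjOn (fun f => f * x * f) (cls D a) := fun f hf k hk e =>
      mid_unique h.ot h.memX hk.1 hf.1 (h.cls_apart hk.1 hk.2) (h.cls_apart hf.1 hf.2) e
    rw [Set.InjOn.ncard_image hinj]
    obtain ⟨g, -, hg⟩ := exists_conj h.ot h.memA h.memX h.apart (Subgroup.mem_top a)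
      (Subgroup.mem_top x)
    have e : a * x * a = a * g * a * (a * g)⁻¹ := by
      rw [← hg, mul_inv_rev, inv_eq h.ot.1 h.memA]; simp only [mul_assoc]
    rw [e, cls_conj h.ot.1, Set.ncard_image_of_injective _ fun p q e =>
      mul_left_cancel (mul_right_cancel e)]

omit [Finite G] in
theorem of_same (h : Lineless D a x) {b : G} (hb : b ∈ sameSet D a) : Lineless D b x := by
  have hs : sameSet D b = sameSet D a := by
    ext c
    exact ⟨fun hc => ⟨hc.1, hb.2.trans hc.2⟩, fun hc => ⟨hc.1, hb.2.symm.trans hc.2⟩⟩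
  have hbx : ¬ Commute b x := fun e => h.apart ((hb.2.iff h.memX).2 e)
  refine ⟨h.ot, hb.1, h.memX, hbx, by rw [hs]; exact h.gen, h.core, fun hl => h.noLine ?_⟩
  obtain ⟨g, -, hg⟩ := exists_conj h.ot hb.1 h.memX hbx (Subgroup.mem_top b) (Subgroup.mem_top x)
  obtain ⟨k, -, hk⟩ := exists_conj h.ot h.memX h.memA (fun e => h.apart e.symm) (Subgroup.mem_top x)
    (Subgroup.mem_top a)
  rw [← hk, ← hg]
  exact lined_conj h.ot.1 (lined_conj h.ot.1 hl g) k

/-- A product of two members of the class of `a` fixes the class of `x`. -/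
theorem same_move (h : Lineless D a x) {b : G} (hb : b ∈ sameSet D a) :
    Same D x (a * b * x * (a * b)⁻¹) := by
  have e1 : Same D (a * x * a) (b * x * b) := by
    show cls D (a * x * a) = cls D (b * x * b)
    rw [← h.cls_translate, ← (h.of_same hb).cls_translate, show cls D b = cls D a from hb.2.symm]
  have e2 := e1.conj h.ot.1 a
  rw [inv_eq h.ot.1 h.memA, show a * (a * x * a) * a = (a * a) * x * (a * a) by simp only [mul_assoc],
    mul_self h.ot.1 h.memA, one_mul, mul_one] at e2
  rwa [mul_inv_rev, inv_eq h.ot.1 h.memA, inv_eq h.ot.1 hb.1,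
    show a * b * x * (b * a) = a * (b * x * b) * a by simp only [mul_assoc]]

/-- The middle exchanges the two classes. -/
theorem swap (h : Lineless D a x) : Lineless D x a := by
  obtain ⟨w, hw, hwa, -⟩ := exists_mid h.ot h.memA h.memX h.apart
  have sw := mul_self h.ot.1 hw
  have iw := inv_eq h.ot.1 hw
  have hwx : w * x * w = a := by
    rw [← hwa, show w * (w * a * w) * w = (w * w) * a * (w * w) by simp only [mul_assoc], sw, one_mul,
      mul_one]
  refine ⟨h.ot, h.memX, h.memA, fun e => h.apart e.symm, ?_, h.core, fun hl => h.noLine ?_⟩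
  · have himg : (MulAut.conj w).toMonoidHom '' (sameSet D a ∪ {x}) ⊆ sameSet D x ∪ {a} := by
      rintro _ ⟨s, hs | hs, rfl⟩
      · refine Or.inl ⟨h.ot.1.conj_mem s hs.1 w, ?_⟩
        have := hs.2.conj h.ot.1 w
        rw [iw, hwa] at this
        show Same D x (w * s * w⁻¹)
        rwa [iw]
      · rw [Set.mem_singleton_iff] at hs
        refine Or.inr ?_
        show w * s * w⁻¹ = a
        rw [hs, iw, hwx]
    rw [eq_top_iff, ← Subgroup.map_top_of_surjective (MulAut.conj w).toMonoidHom
      (MulAut.conj w).surjective, ← h.gen, MonoidHom.map_closure]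
    exact Subgroup.closure_mono himg
  · rw [← hwx]
    have := lined_conj h.ot.1 hl w
    rwa [iw] at this

/-- Products of two members of the class of `a`. -/
def pairs (D : Set G) (a : G) : Set G := (fun b => a * b) '' sameSet D a

omit [Finite G] in
theorem two_group_pairs (h : Lineless D a x) : IsPGroup 2 ↥(Subgroup.closure (pairs D a)) := by
  have hcomm : ∀ p ∈ pairs D a, ∀ q ∈ pairs D a, Commute p q := by
    rintro _ ⟨b, hb, rfl⟩ _ ⟨c, hc, rfl⟩
    exact ((Commute.refl a).mul_right (commute_of_same h.memA hc)).mul_left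
      ((commute_of_same h.memA hb).symm.mul_right (commute_sameSet h.memA hb hc))
  have hsq : ∀ n ∈ Subgroup.closure (pairs D a),
      (∀ p ∈ pairs D a, Commute n p) ∧ n * n = 1 := by
    intro n hn
    induction hn using Subgroup.closure_induction with
    | mem p hp =>
      refine ⟨hcomm p hp, ?_⟩
      obtain ⟨b, hb, rfl⟩ := hp
      rw [← pow_two, (commute_of_same h.memA hb).mul_pow, pow_two, pow_two,
        mul_self h.ot.1 h.memA, mul_self h.ot.1 hb.1, one_mul]
    | one => exact ⟨fun p _ => Commute.one_left p, one_mul 1⟩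
    | mul p q hp hq ihp ihq =>
      refine ⟨fun r hr => (ihp.1 r hr).mul_left (ihq.1 r hr), ?_⟩
      have hpq : Commute p q := by
        clear ihq
        induction hq using Subgroup.closure_induction with
        | mem r hr => exact ihp.1 r hr
        | one => exact Commute.one_right p
        | mul r s _ _ hr hs => exact hr.mul_right hs
        | inv r _ hr => exact hr.inv_right
      rw [← pow_two, hpq.mul_pow, pow_two, pow_two, ihp.2, ihq.2, one_mul]
    | inv p _ ihp =>
      exact ⟨fun r hr => (ihp.1 r hr).inv_left, by rw [← mul_inv_rev, ihp.2, inv_one]⟩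
  intro n
  refine ⟨1, Subtype.ext ?_⟩
  show (n : G) ^ 2 ^ 1 = 1
  rw [pow_one, pow_two]
  exact (hsq _ n.2).2

theorem pairs_mem_normalizer (h : Lineless D a x) {b : G} (hb : b ∈ sameSet D a) :
    a * b ∈ Subgroup.normalizer ((Subgroup.closure (pairs D x) : Subgroup G) : Set G) := by
  refine CfsgLib.Invol.mem_normalizer_of_conj_map_eq ?_
  refine Subgroup.eq_of_le_of_card_ge ?_ (CfsgLib.Invol.card_conj_map _ _).ge
  rw [MonoidHom.map_closure, Subgroup.closure_le]
  rintro _ ⟨_, ⟨c, hc, rfl⟩, rfl⟩
  show a * b * (x * c) * (a * b)⁻¹ ∈ Subgroup.closure (pairs D x)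
  set v := a * b
  have h1 : v * x * v⁻¹ ∈ sameSet D x := ⟨h.ot.1.conj_mem x h.memX v, h.same_move hb⟩
  have h2 : v * c * v⁻¹ ∈ sameSet D x :=
    ⟨h.ot.1.conj_mem c hc.1 v, h1.2.trans (hc.2.conj h.ot.1 v)⟩
  have e : v * (x * c) * v⁻¹ = x * (v * x * v⁻¹) * (x * (v * c * v⁻¹)) := by
    rw [show x * (v * x * v⁻¹) * (x * (v * c * v⁻¹)) = x * ((v * x * v⁻¹) * x) * (v * c * v⁻¹) by
      simp only [mul_assoc], ← (commute_of_same h.memX h1).eq, ← mul_assoc x x,
      mul_self h.ot.1 h.memX, one_mul]
    group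
  rw [e]
  exact mul_mem (Subgroup.subset_closure ⟨_, h1, rfl⟩) (Subgroup.subset_closure ⟨_, h2, rfl⟩)

theorem gen_mem_normalizer (h : Lineless D a x) {b : G} (hb : b ∈ sameSet D a) :
    b ∈ Subgroup.normalizer
      ((Subgroup.closure (pairs D a) ⊔ Subgroup.closure (pairs D x) : Subgroup G) : Set G) := by
  set N := Subgroup.closure (pairs D a) ⊔ Subgroup.closure (pairs D x)
  have hA : ∀ c ∈ sameSet D a, a * c ∈ N := fun c hc =>
    Subgroup.mem_sup_left (Subgroup.subset_closure ⟨c, hc, rfl⟩)
  have haN : a ∈ Subgroup.normalizer (N : Set G) := by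
    refine CfsgLib.Invol.mem_normalizer_of_conj_map_eq ?_
    refine Subgroup.eq_of_le_of_card_ge ?_ (CfsgLib.Invol.card_conj_map _ _).ge
    rw [Subgroup.map_sup, MonoidHom.map_closure, MonoidHom.map_closure, sup_le_iff,
      Subgroup.closure_le, Subgroup.closure_le]
    refine ⟨?_, ?_⟩
    · rintro _ ⟨_, ⟨c, hc, rfl⟩, rfl⟩
      show a * (a * c) * a⁻¹ ∈ N
      rw [← ((Commute.refl a).mul_left (commute_of_same h.memA hc).symm).eq, mul_inv_cancel_right]
      exact hA c hc
    · rintro _ ⟨_, ⟨c, hc, rfl⟩, rfl⟩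
      show a * (x * c) * a⁻¹ ∈ N
      set t := x * c
      have ht : t ∈ N := Subgroup.mem_sup_right (Subgroup.subset_closure ⟨c, hc, rfl⟩)
      have hm : t * a * t⁻¹ ∈ sameSet D a :=
        ⟨h.ot.1.conj_mem a h.memA t, h.swap.same_move hc⟩
      rw [show a * t * a⁻¹ = a * (t * a * t⁻¹) * t by
        rw [inv_eq h.ot.1 h.memA]; group]
      exact mul_mem (hA _ hm) ht
  have e : b = a * (a * b) := by rw [← mul_assoc, mul_self h.ot.1 h.memA, one_mul]
  rw [e]
  exact mul_mem haN (Subgroup.le_normalizer (hA b hb))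

/-- Without a line the class of `a` is `{a}`. -/
theorem eq_of_same (h : Lineless D a x) {b : G} (hb : b ∈ sameSet D a) : b = a := by
  have hp : IsPGroup 2
      ↥(Subgroup.closure (pairs D a) ⊔ Subgroup.closure (pairs D x) : Subgroup G) :=
    h.two_group_pairs.to_sup_of_normal_right' h.swap.two_group_pairs ((Subgroup.closure_le _).2 (by
      rintro _ ⟨c, hc, rfl⟩
      exact h.pairs_mem_normalizer hc))
  have hn : (Subgroup.closure (pairs D a) ⊔ Subgroup.closure (pairs D x)).Normal := by
    rw [← Subgroup.normalizer_eq_top_iff, eq_top_iff, ← h.gen, Subgroup.closure_le]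
    rintro s (hs | hs)
    · exact h.gen_mem_normalizer hs
    · rw [Set.mem_singleton_iff] at hs
      rw [hs, sup_comm]
      exact h.swap.gen_mem_normalizer ⟨h.memX, rfl⟩
  have h1 := CfsgLib.PGroup.le_pCore hn hp
    (Subgroup.mem_sup_left (Subgroup.subset_closure ⟨b, hb, rfl⟩))
  rw [h.core, Subgroup.mem_bot] at h1
  have h2 := eq_inv_of_mul_eq_one_right h1
  rwa [inv_eq h.ot.1 h.memA] at h2

/-- Without a line the group is dihedral. -/
theorem dihedral (h : Lineless D a x) : ∃ n : ℕ, Nonempty (G ≃* DihedralGroup n) := by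
  have hs : sameSet D a ∪ {x} = {a, x} := by
    ext s
    refine ⟨?_, ?_⟩
    · rintro (hs | hs)
      · exact Or.inl (h.eq_of_same hs)
      · exact Or.inr hs
    · rintro (rfl | hs)
      · exact Or.inl ⟨h.memA, rfl⟩
      · exact Or.inr hs
  have hg := h.gen
  rw [hs] at hg
  exact ⟨_, ⟨(Subgroup.topEquiv.symm.trans (MulEquiv.subgroupCongr hg.symm)).trans
    (CfsgLib.Invol.dihedralEquiv (h.ot.1.orderOf_eq a h.memA) (h.ot.1.orderOf_eq x h.memX))⟩⟩

end Lineless

/-- The reduced situation without lines is dihedral. -/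
theorem Reduced.dihedral {X : Type*} [Group X] [Finite X] {D A : Set X} {d x : X}
    (h : Reduced D A d x) (hn : NoLine D) : ∃ n : ℕ, Nonempty (X ≃* DihedralGroup n) := by
  have hd : d ∈ D := h.sub h.mem
  refine Lineless.dihedral (D := D) (a := d) (x := x) ⟨h.ot, hd, h.mem_x, h.odd, ?_, h.core, ?_⟩
  · rw [eq_top_iff, ← h.gen]
    exact Subgroup.closure_mono (Set.union_subset_union_left _ fun a ha => ⟨h.sub ha, (h.same a ha).symm⟩)
  · rintro ⟨b, hb, -, hc, hp⟩
    exact hn d hd b hb hc hp

end CfsgLib.RootInvol.OddPartner
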