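import Cfsg.Agent.Lib.RootSub.OddPartner.Setup
import Cfsg.Agent.Lib.Coprime.Core
import Cfsg.Agent.Lib.Invol.TI

/-!
# Reduction to a group without normal two-subgroup

Let `d` be a member, `x` an odd partner and `X` the group generated by `x` and the members with the same
commuting members as `d`.  All these generators are conjugate in `X`; the quotient by the two-core
reflects commuting of the members of this class, so its image gives the reduced situation.
-/

set_option autoImplicit false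
set_option linter.style.haveILetI false

namespace CfsgLib.RootInvol.OddPartner

open CfsgLib.RootInvol.OddTr Subgroup CfsgLib.Invol

variable {G : Type*} [Group G] {D : Set G}

/-- The group generated by an odd partner `x` and the class `E_d`. -/
abbrev genGroup (D : Set G) (d x : G) : Subgroup G := closure (Cfsg.sameCommutingClass D d ∪ {x})

theorem same_iff {d a f : G} (ha : a ∈ Cfsg.sameCommutingClass D d) (hf : f ∈ D) :
    Commute a f ↔ Commute d f :=
  ⟨fun h => (((Set.ext_iff.1 ha.2 f).2 ⟨hf, h.symm.eq⟩).2 : Commute f d).symm,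
    fun h => (((Set.ext_iff.1 ha.2 f).1 ⟨hf, h.symm.eq⟩).2 : Commute f a).symm⟩

theorem not_commute_of_oddPartner (hD : Cfsg.IsOddTranspositionSet D) {d x : G} (hd : d ∈ D)
    (hx : x ∈ Cfsg.oddPartners D d) : ¬ Commute d x :=
  fun h => commute_not_odd hD.1 hd hx.1 (Ne.symm hx.2.1) h.eq hx.2.2

/-- Members `A` that commute with the same conjugates of `d` in the group they generate with `x`. -/
structure Seed (D A : Set G) (d x : G) : Prop where
  ot : Cfsg.IsOddTranspositionSet D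
  mem : d ∈ A
  sub : A ⊆ D
  mem_x : x ∈ D
  apart : ¬ Commute d x
  same : ∀ a ∈ A, ∀ g ∈ closure (A ∪ {x}), Commute a (g * d * g⁻¹) ↔ Commute d (g * d * g⁻¹)

/-- The image of the class of `d` modulo the two-core. -/
def quotD (A : Set G) (d x : G) (hd : d ∈ closure (A ∪ {x})) :
    Set (closure (A ∪ {x}) ⧸ Cfsg.pCore 2 (closure (A ∪ {x}))) :=
  {y | ∃ g : closure (A ∪ {x}), QuotientGroup.mk' _ (g * ⟨d, hd⟩ * g⁻¹) = y}

/-- The image of `A` modulo the two-core. -/
def quotA (A : Set G) (x : G) : Set (closure (A ∪ {x}) ⧸ Cfsg.pCore 2 (closure (A ∪ {x}))) :=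
  {y | ∃ a : closure (A ∪ {x}), (a : G) ∈ A ∧ QuotientGroup.mk' _ a = y}

namespace Seed

variable {A : Set G} {d x : G} (S : Seed D A d x)
include S

theorem memd : d ∈ closure (A ∪ {x}) := subset_closure (Or.inl S.mem)

theorem memx : x ∈ closure (A ∪ {x}) := subset_closure (Or.inr rfl)

theorem conj_mem_D (g : G) : g * d * g⁻¹ ∈ D := S.ot.1.conj_mem d (S.sub S.mem) g

variable [Finite G]

theorem exists_conj_x : ∃ k ∈ closure (A ∪ {x}), k * d * k⁻¹ = x :=
  exists_conj S.ot (S.sub S.mem) S.mem_x S.apart S.memd S.memx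

theorem not_commute_x {a : G} (ha : a ∈ A) : ¬ Commute a x := by
  obtain ⟨k, hk, hke⟩ := S.exists_conj_x
  intro h
  have := S.same a ha k hk
  rw [hke] at this
  exact S.apart (this.1 h)

theorem exists_conj_A {a : G} (ha : a ∈ A) : ∃ k ∈ closure (A ∪ {x}), k * d * k⁻¹ = a := by
  obtain ⟨k, hk, hke⟩ := S.exists_conj_x
  obtain ⟨j, hj, hje⟩ := exists_conj S.ot S.mem_x (S.sub ha) (fun h => S.not_commute_x ha h.symm) S.memx
    (subset_closure (Or.inl ha))
  refine ⟨j * k, mul_mem hj hk, ?_⟩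
  rw [← hje, ← hke]
  group

/-- Commuting is reflected. -/
theorem reflect {g k : closure (A ∪ {x})}
    (h : Commute (QuotientGroup.mk' (Cfsg.pCore 2 (closure (A ∪ {x}))) (g * ⟨d, S.memd⟩ * g⁻¹))
      (QuotientGroup.mk' (Cfsg.pCore 2 (closure (A ∪ {x}))) (k * ⟨d, S.memd⟩ * k⁻¹))) :
    Commute ((g : G) * d * (g : G)⁻¹) ((k : G) * d * (k : G)⁻¹) := by
  haveI : Fact (Nat.Prime 2) := ⟨Nat.prime_two⟩
  set π := QuotientGroup.mk' (Cfsg.pCore 2 (closure (A ∪ {x})))
  set d0 : closure (A ∪ {x}) := ⟨d, S.memd⟩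
  set a := g * d0 * g⁻¹ with ha
  set b := k * d0 * k⁻¹ with hb
  have haD : (a : G) ∈ D := S.conj_mem_D g
  have hbD : (b : G) ∈ D := S.conj_mem_D k
  by_contra hab
  have hodd : Odd (orderOf (a * b)) := by
    rw [← orderOf_coe]
    exact (oddAdj_of_not_commute S.ot haD hbD hab).2.2.2
  have h2 : π (a * b) ^ 2 ^ 1 = 1 := by
    rw [pow_one, map_mul, h.mul_pow, pow_two, pow_two, ← map_mul, ← map_mul,
      show a * a = 1 from Subtype.ext (mul_self S.ot.1 haD),
      show b * b = 1 from Subtype.ext (mul_self S.ot.1 hbD), map_one, one_mul]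
  have h1 : a * b ∈ Cfsg.pCore 2 (closure (A ∪ {x})) := (QuotientGroup.eq_one_iff _).1
    (eq_one_of_odd_of_pow_two (hodd.of_dvd_nat (orderOf_map_dvd π (a * b))) h2)
  obtain ⟨j, hj⟩ := (CfsgLib.Coprime.pCore_isPGroup (G := closure (A ∪ {x})) 2) ⟨a * b, h1⟩
  have h3 : a * b = 1 := eq_one_of_odd_of_pow_two hodd (congrArg Subtype.val hj)
  exact hab (congrArg Subtype.val
    (show a * b = b * a by rw [eq_inv_of_mul_eq_one_left h3, inv_mul_cancel, mul_inv_cancel]))

theorem mk_ne_one (g : closure (A ∪ {x})) :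
    QuotientGroup.mk' (Cfsg.pCore 2 (closure (A ∪ {x}))) (g * ⟨d, S.memd⟩ * g⁻¹) ≠ 1 := by
  intro h
  obtain ⟨k, hk, hke⟩ := S.exists_conj_x
  have h1 : QuotientGroup.mk' (Cfsg.pCore 2 (closure (A ∪ {x}))) ⟨d, S.memd⟩ = 1 := by
    rw [map_mul, map_mul, map_inv, mul_inv_eq_one, mul_eq_left] at h
    exact h
  have := S.reflect (g := 1) (k := ⟨k, hk⟩) (by
    rw [one_mul, inv_one, mul_one, h1]; exact Commute.one_left _)
  simp only [OneMemClass.coe_one, one_mul, inv_one, mul_one, hke] at this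
  exact S.apart this

/-- The reduced situation in the quotient by the two-core. -/
theorem reduced :
    Reduced (quotD A d x S.memd) (quotA A x) (QuotientGroup.mk' _ (⟨d, S.memd⟩ : closure (A ∪ {x})))
      (QuotientGroup.mk' _ (⟨x, S.memx⟩ : closure (A ∪ {x}))) := by
  haveI : Fact (Nat.Prime 2) := ⟨Nat.prime_two⟩
  set π := QuotientGroup.mk' (Cfsg.pCore 2 (closure (A ∪ {x}))) with hπ
  set d0 : closure (A ∪ {x}) := ⟨d, S.memd⟩
  have hsub : ∀ {a b : closure (A ∪ {x})}, Commute (a : G) b → Commute a b := fun h => Subtype.ext h.eq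
  have h2sq : ∀ g : closure (A ∪ {x}), (g * d0 * g⁻¹) * (g * d0 * g⁻¹) = 1 := fun g =>
    Subtype.ext (mul_self S.ot.1 (S.conj_mem_D g))
  obtain ⟨kx, hkx, hkxe⟩ := S.exists_conj_x
  have hAD : quotA A x ⊆ quotD A d x S.memd := by
    rintro _ ⟨a, ha, rfl⟩
    obtain ⟨g, hg, hge⟩ := S.exists_conj_A ha
    exact ⟨⟨g, hg⟩, congrArg π (Subtype.ext hge)⟩
  have hxD : π ⟨x, S.memx⟩ ∈ quotD A d x S.memd := ⟨⟨kx, hkx⟩, congrArg π (Subtype.ext hkxe)⟩
  have hgen : closure (quotA A x ∪ {π ⟨x, S.memx⟩}) = ⊤ := by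
    have h0 : closure ({a : closure (A ∪ {x}) | (a : G) ∈ A ∪ {x}}) = ⊤ := closure_closure_coe_preimage
    rw [eq_top_iff, ← map_top_of_surjective π (QuotientGroup.mk'_surjective _), ← h0,
      MonoidHom.map_closure]
    refine closure_mono ?_
    rintro _ ⟨a, ha | ha, rfl⟩
    · exact Or.inl ⟨a, ha, rfl⟩
    · exact Or.inr (congrArg π (Subtype.ext ha))
  refine ⟨⟨⟨?_, ?_, ?_, ?_⟩, ?_⟩, ?_, ?_, ⟨d0, S.mem, rfl⟩, hAD, ?_, hxD, ?_, hgen⟩
  · rintro _ ⟨g, rfl⟩
    exact orderOf_eq_prime (by rw [pow_two, ← map_mul, h2sq, map_one]) (S.mk_ne_one g)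
  · refine eq_top_iff.2 (hgen ▸ closure_mono (Set.union_subset hAD ?_))
    exact Set.singleton_subset_iff.2 hxD
  · rintro _ ⟨g, rfl⟩ y
    obtain ⟨y, rfl⟩ := QuotientGroup.mk'_surjective _ y
    refine ⟨y * g, ?_⟩
    rw [← map_inv, ← map_mul, ← map_mul]
    exact congrArg π (by group)
  · rintro _ ⟨g, rfl⟩ _ ⟨k, rfl⟩
    rcases commute_or_odd S.ot (S.conj_mem_D g) (S.conj_mem_D k) with h | h
    · exact Or.inl ((hsub (a := g * d0 * g⁻¹) (b := k * d0 * k⁻¹) h).map π).eq
    · refine Or.inr (Or.inl ?_)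
      rw [← map_mul]
      exact h.of_dvd_nat ((orderOf_map_dvd π _).trans (by rw [← orderOf_coe]; rfl))
  · rintro _ ⟨g, rfl⟩ _ ⟨k, rfl⟩ h4
    rcases commute_or_odd S.ot (S.conj_mem_D g) (S.conj_mem_D k) with h | h
    · have h2 : (π (g * d0 * g⁻¹) * π (k * d0 * k⁻¹)) ^ 2 = 1 := by
        rw [((hsub (a := g * d0 * g⁻¹) (b := k * d0 * k⁻¹) h).map π).mul_pow, pow_two, pow_two,
          ← map_mul, ← map_mul, h2sq, h2sq, map_one, one_mul]
      have := orderOf_dvd_of_pow_eq_one h2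
      rw [h4] at this
      exact absurd (Nat.le_of_dvd two_pos this) (by decide)
    · rw [← map_mul] at h4
      have h5 : Odd (orderOf (π (g * d0 * g⁻¹ * (k * d0 * k⁻¹)))) :=
        h.of_dvd_nat ((orderOf_map_dvd π _).trans (by rw [← orderOf_coe]; rfl))
      rw [h4] at h5
      exact absurd h5 (by decide)
  · rintro _ ⟨g, rfl⟩ _ ⟨k, rfl⟩
    refine ⟨π (k * g⁻¹), ?_⟩
    show π (k * g⁻¹) * π (g * d0 * g⁻¹) * (π (k * g⁻¹))⁻¹ = π (k * d0 * k⁻¹)
    rw [← map_inv, ← map_mul, ← map_mul]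
    exact congrArg π (by group)
  · exact CfsgLib.Coprime.pCore_quotient_eq_bot 2
  · rintro _ ⟨a, ha, rfl⟩
    refine same_of_iff ?_
    rintro _ ⟨g, rfl⟩
    obtain ⟨ga, hga, hgae⟩ := S.exists_conj_A ha
    have ea : (⟨ga, hga⟩ : closure (A ∪ {x})) * d0 * (⟨ga, hga⟩ : closure (A ∪ {x}))⁻¹ = a :=
      Subtype.ext hgae
    constructor
    · intro h
      have h1 := S.reflect (g := ⟨ga, hga⟩) (k := g) (by rw [ea]; exact h)
      rw [hgae] at h1
      exact (hsub (a := d0) ((S.same a ha g g.2).1 h1)).map π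
    · intro h
      have h1 := S.reflect (g := 1) (k := g) (by rw [one_mul, inv_one, mul_one]; exact h)
      simp only [OneMemClass.coe_one, one_mul, inv_one, mul_one] at h1
      exact (hsub (a := a) ((S.same a ha g g.2).2 h1)).map π
  · intro h
    have := S.reflect (g := 1) (k := ⟨kx, hkx⟩) (by
      rw [one_mul, inv_one, mul_one,
        show (⟨kx, hkx⟩ : closure (A ∪ {x})) * d0 * (⟨kx, hkx⟩ : closure (A ∪ {x}))⁻¹ = ⟨x, S.memx⟩ from
          Subtype.ext hkxe]
      exact h)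
    simp only [OneMemClass.coe_one, one_mul, inv_one, mul_one, hkxe] at this
    exact S.apart this

end Seed

theorem seed_sameClass (hD : Cfsg.IsOddTranspositionSet D) {d x : G} (hd : d ∈ D)
    (hx : x ∈ D) (hnc : ¬ Commute d x) : Seed D (Cfsg.sameCommutingClass D d) d x :=
  ⟨hD, ⟨hd, rfl⟩, fun _ ha => ha.1, hx, hnc, fun _ ha g _ => same_iff ha (hD.1.conj_mem d hd g)⟩

/-- The reduced situation in the quotient by the two-core. -/
theorem exists_reduced [Finite G] (hD : Cfsg.IsOddTranspositionSet D) {d x : G} (hd : d ∈ D)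
    (hx : x ∈ Cfsg.oddPartners D d) :
    ∃ (D' A : Set (genGroup D d x ⧸ Cfsg.pCore 2 (genGroup D d x)))
      (d' x' : genGroup D d x ⧸ Cfsg.pCore 2 (genGroup D d x)), Reduced D' A d' x' :=
  ⟨_, _, _, _, (seed_sameClass hD hd hx.1 (not_commute_of_oddPartner hD hd hx)).reduced⟩

end CfsgLib.RootInvol.OddPartner
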