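import Cfsg.Agent.Lib.RootSub.OddPartner.Main
import Cfsg.Agent.Lib.RootSub.OddPartner.Reduce
import Cfsg.Agent.Lib.RootSub.OddPartner.Dihedral

/-!
# A class with an odd partner: the three possibilities, given the criterion
-/

set_option autoImplicit false

namespace CfsgLib.RootInvol.OddPartner

universe u

/-- The quotient by the two-core of the group generated by an odd partner and the class of `d`. -/
theorem genGroup_quotient {G : Type u} [Group G] [Finite G] {D : Set G} (hC : CfsgLib.SECrit.CritThm.{u})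
    (hD : Cfsg.IsOddTranspositionSet D) {d x : G} (hd : d ∈ D) (hx : x ∈ Cfsg.oddPartners D d) :
    (∃ (F : Type) (_ : Field F) (_ : Fintype F), CharP F 2 ∧ 4 ≤ Fintype.card F ∧
      Nonempty ((genGroup D d x ⧸ Cfsg.pCore 2 (genGroup D d x)) ≃*
        Matrix.ProjectiveSpecialLinearGroup (Fin 2) F)) ∨
    Cfsg.Lie.IsoSuzuki (genGroup D d x ⧸ Cfsg.pCore 2 (genGroup D d x)) ∨
    (∃ n : ℕ, Nonempty ((genGroup D d x ⧸ Cfsg.pCore 2 (genGroup D d x)) ≃* DihedralGroup n)) := by
  obtain ⟨D', A, d', x', h⟩ := exists_reduced hD hd hx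
  by_cases hl : NoLine D'
  · exact Or.inr (Or.inr (h.dihedral hl))
  · obtain ⟨hq, ⟨F, i1, i2, hF, hc, he⟩ | hs⟩ := h.recognise hl hC
    · exact Or.inl ⟨F, i1, i2, hF, hc ▸ hq, he⟩
    · exact Or.inr (Or.inl hs)

end CfsgLib.RootInvol.OddPartner
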