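import Cfsg.Agent.Lib.RootSub.OddPartner.Comp

/-!
# The configuration of a pair that is not small

`g` commutes with `d` but neither with `x` nor with the same members as `d`, and `f` with `d`, `g`, `x`.
Commuting is transitive on the component of `d` at `f` and on that of `f` at `d`, and an involution fixing
`d`, `g`, `x` is a member.
-/

set_option autoImplicit false
set_option linter.style.haveILetI false
set_option linter.unusedSectionVars false

namespace CfsgLib.RootInvol.OddPartner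

open CfsgLib.RootInvol.OddTr Subgroup CfsgLib.Invol

universe u

variable {G : Type u} [Group G] {D : Set G}

theorem comp_eq {v d y : G} (hy : y ∈ comp D v d) : comp D v y = comp D v d := by
  obtain ⟨j, hj, rfl⟩ := hy
  refine Set.Subset.antisymm ?_ ?_
  · rintro _ ⟨k, hk, rfl⟩
    exact ⟨k * j, mul_mem hk hj, by group⟩
  · rintro _ ⟨k, hk, rfl⟩
    exact ⟨k * j⁻¹, mul_mem hk (inv_mem hj), by group⟩

/-- Conjugate pairs are small together. -/
theorem small_conj [Finite G] (hD : Cfsg.IsRootInvolutionSet D) {d x : G} (k : G)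
    (h : Small (genGroup D (k * d * k⁻¹) (k * x * k⁻¹))) : Small (genGroup D d x) := by
  have hle : genGroup D d x ≤ (genGroup D (k * d * k⁻¹) (k * x * k⁻¹)).comap (MulAut.conj k).toMonoidHom := by
    refine (closure_le _).2 ?_
    rintro a (ha | ha)
    · exact subset_closure (Or.inl (sameClass_conj hD ha k))
    · rw [Set.mem_singleton_iff] at ha
      subst ha
      exact subset_closure (Or.inr rfl)
  refine small_of_hom (((MulAut.conj k).toMonoidHom.comp (genGroup D d x).subtype).codRestrict _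
    (fun g => show (g : G) ∈ (genGroup D (k * d * k⁻¹) (k * x * k⁻¹)).comap _ from hle g.2)) ?_ h
  rw [(MonoidHom.ker_eq_bot_iff _).2 fun a b e =>
    Subtype.ext ((MulAut.conj k).injective (congrArg Subtype.val e))]
  exact IsPGroup.of_bot

/-- The block of `d` at `f`. -/
def blockAt (D : Set G) (f d : G) : Set G := {y | y ∈ comp D f d ∧ Commute d y}

/-- The abelian group on which everything happens. -/
def base (D : Set G) (f d : G) : Subgroup G := closure (blockAt D f d ∪ Cfsg.sameCommutingClass D f)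

variable [Finite G]

namespace Minimal

variable (M : Minimal D)
include M

theorem common_of {d e x : G} (hd : d ∈ D) (he : e ∈ D) (hx : x ∈ D) (hde : Commute d e)
    (hex : ¬ Commute e x) (hdx : ¬ Commute d x) :
    ∃ f ∈ D, Commute f d ∧ Commute f e ∧ Commute f x :=
  common₃ M.rooted.ot (goal M.rooted.ot) hd he hx (M.rooted.lined_mem hd) hde hex hdx (M.reach _ hd _ hx)

/-- Some member commuting with `d` commutes neither with `x` nor with the same members as `d`. -/
theorem exists_near {d x : G} (hd : d ∈ D) (hx : x ∈ D) (hnc : ¬ Commute d x)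
    (hbig : ¬ Small (genGroup D d x)) :
    ∃ g ∈ D, Commute d g ∧ ¬ Commute g x ∧ ¬ OddTr.Same D d g := by
  by_contra hno
  push Not at hno
  have R := M.rooted
  let rest : G → Set G := fun y => cls D y \ {a | OddTr.Same D y a}
  set Ω := rest d with hΩ
  have hcard : ∀ y ∈ D, (rest y).ncard = Ω.ncard := by
    intro y hy
    obtain ⟨k, hk⟩ := R.cls d hd y hy
    subst hk
    have : rest (k * d * k⁻¹) = (fun a => k * a * k⁻¹) '' Ω := by
      ext b
      constructor
      · rintro ⟨h1, h2⟩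
        rw [cls_conj R.ot.1] at h1
        obtain ⟨a, ha, rfl⟩ := h1
        exact ⟨a, ⟨ha, fun hs => h2 (hs.conj R.ot.1 k)⟩, rfl⟩
      · rintro ⟨a, ⟨ha, ha'⟩, rfl⟩
        refine ⟨by rw [cls_conj R.ot.1]; exact ⟨a, ha, rfl⟩, fun hs => ha' ?_⟩
        have h2 := hs.conj R.ot.1 k⁻¹
        rwa [show k⁻¹ * (k * d * k⁻¹) * k⁻¹⁻¹ = d by group,
          show k⁻¹ * (k * a * k⁻¹) * k⁻¹⁻¹ = a by group] at h2
    rw [this, Set.ncard_image_of_injective _ fun p q e => mul_left_cancel (mul_right_cancel e)]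
  have heq : ∀ y ∈ D, Ω ⊆ rest y → rest y = Ω := fun y hy h =>
    (Set.eq_of_subset_of_ncard_le h (hcard y hy).le (Set.toFinite _)).symm
  have hΩx : Ω ⊆ cls D x := fun a ha =>
    ⟨ha.1.1, by_contra fun h => ha.2 (hno a ha.1.1 ha.1.2 fun e => h e.symm)⟩
  have hZx : rest x = Ω := heq x hx fun a ha =>
    ⟨hΩx ha, fun hs => hnc ((hs.iff hd).2 ha.1.2.symm).symm⟩
  obtain ⟨c, hc, hcd, hcx⟩ := common (goal R.ot) hd (R.lined_mem hd) (M.reach d hd x hx)
  have hcΩ : c ∈ Ω := ⟨⟨hc, hcd.symm⟩, fun hs => hnc ((hs.iff hx).2 hcx)⟩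
  -- members outside both pieces
  obtain ⟨z, hz, hzΩ, hzne⟩ : ∃ z ∈ D, z ∉ Ω ∧ rest z ≠ Ω := by
    by_contra hall
    push Not at hall
    have hnot : ∀ z ∈ D, rest z = Ω → z ∉ Ω := fun z _ e h => (e ▸ h : z ∈ rest z).2 rfl
    have hgen : ∀ a ∈ D, ∀ z ∈ D, rest z = Ω → rest (a * z * a⁻¹) = Ω := by
      intro a ha z hz e
      by_cases hc' : Commute a z
      · rwa [hc'.eq, mul_inv_cancel_right]
      refine hall _ (R.ot.1.conj_mem z hz a) fun h => hc' ?_
      by_cases haΩ : a ∈ Ω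
      · rw [← e] at haΩ
        exact haΩ.1.2.symm
      · have h' : a * z * a⁻¹ ∈ rest a := (hall a ha haΩ).symm ▸ h
        exact conj_eq_self_iff.1 (mul_left_cancel (mul_right_cancel
          ((conj_eq_self_iff.2 h'.1.2 : a * (a * z * a⁻¹) * a⁻¹ = a * z * a⁻¹))))
    have : ∀ g ∈ closure D, ∀ z ∈ D, rest z = Ω → rest (g * z * g⁻¹) = Ω := by
      intro g hg
      induction hg using closure_induction_left with
      | one => intro z _ e; simpa using e
      | mul_left a ha g _ ih =>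
        intro z hz e
        rw [show a * g * z * (a * g)⁻¹ = a * (g * z * g⁻¹) * a⁻¹ by group]
        exact hgen a ha _ (R.ot.1.conj_mem z hz g) (ih z hz e)
      | inv_mul_cancel a ha g _ ih =>
        intro z hz e
        rw [inv_eq R.ot.1 ha, show a * g * z * (a * g)⁻¹ = a * (g * z * g⁻¹) * a⁻¹ by group]
        exact hgen a ha _ (R.ot.1.conj_mem z hz g) (ih z hz e)
    obtain ⟨k, hk⟩ := R.cls d hd c hc
    exact hnot c hc (hk ▸ this k (R.ot.1.generates ▸ mem_top k) d hd rfl) hcΩ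
  have hdz : ¬ Commute d z := fun h => by
    refine hzne ?_
    have hs : OddTr.Same D d z := by_contra fun hs => hzΩ ⟨⟨hz, h⟩, hs⟩
    show cls D z \ {a | OddTr.Same D z a} = cls D d \ {a | OddTr.Same D d a}
    rw [show cls D z = cls D d from hs.symm]
    congr 1
    ext a
    exact ⟨fun e => hs.trans e, fun e => hs.symm.trans e⟩
  obtain ⟨h, hh, hhz⟩ : ∃ h ∈ Ω, ¬ Commute h z := by
    by_contra hall
    push Not at hall
    exact hzne (heq z hz fun a ha =>
      ⟨⟨ha.1.1, (hall a ha).symm⟩, fun hs => hdz ((hs.iff hd).2 ha.1.2.symm).symm⟩)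
  obtain ⟨f, hf, hfd, hfh, hfz⟩ := M.common_of hd hh.1.1 hz hh.1.2 hhz hdz
  have hfΩ : f ∈ Ω := ⟨⟨hf, hfd.symm⟩, fun hs => hdz ((hs.iff hz).2 hfz)⟩
  have hfx : Commute f x := (hΩx hfΩ).2.symm
  have hB := M.comp_blocks (mul_self R.ot.1 hf) (invol_ne_one (R.ot.1.orderOf_eq f hf)) hd
    (fun a ha => ((same_iff ha hf).2 hfd.symm).symm) hx hfx hnc hbig
  have hzY := mem_comp_of_nc R.ot hd hfd hz hfz self_mem_comp hdz
  have hhY := mem_comp_of_nc R.ot hd hfd hh.1.1 hfh hzY fun e => hhz e.symm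
  exact hnc (hB.clique self_mem_comp hhY (mem_comp_of_nc R.ot hd hfd hx hfx self_mem_comp hnc) hh.1.2
    (hΩx hh).2.symm)

end Minimal

/-- The configuration. -/
structure Cfg (D : Set G) (d x f g : G) : Prop where
  hd : d ∈ D
  hx : x ∈ D
  hf : f ∈ D
  hg : g ∈ D
  nc : ¬ Commute d x
  ncg : ¬ Commute g x
  fd : Commute f d
  fx : Commute f x
  fg : Commute f g
  dg : Commute d g
  ns : ¬ OddTr.Same D d g
  big : ¬ Small (genGroup D d x)

theorem Minimal.exists_cfg (M : Minimal D) {d x : G} (hd : d ∈ D) (hx : x ∈ D) (hnc : ¬ Commute d x)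
    (hbig : ¬ Small (genGroup D d x)) : ∃ f g, Cfg D d x f g := by
  obtain ⟨g, hg, hdg, hgx, hns⟩ := M.exists_near hd hx hnc hbig
  obtain ⟨f, hf, a, b, c⟩ := M.common_of hd hg hx hdg hgx hnc
  exact ⟨f, g, hd, hx, hf, hg, hnc, hgx, a, c, b, hdg, hns, hbig⟩

namespace Cfg

variable {d x f g : G} (C : Cfg D d x f g) (M : Minimal D)
include C M

theorem f_class {a : G} (ha : a ∈ Cfsg.sameCommutingClass D d) : Commute f a :=
  ((same_iff ha C.hf).2 C.fd.symm).symm

theorem x_mem : x ∈ comp D f d := mem_comp_of_nc M.rooted.ot C.hd C.fd C.hx C.fx self_mem_comp C.nc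

theorem mem_Y {y : G} (hy : y ∈ D) (hfy : Commute f y) (hyx : ¬ Commute y x) : y ∈ comp D f d :=
  mem_comp_of_nc M.rooted.ot C.hd C.fd hy hfy (C.x_mem M) fun e => hyx e.symm

theorem class_mem {a : G} (ha : a ∈ Cfsg.sameCommutingClass D d) : a ∈ blockAt D f d :=
  ⟨C.mem_Y M ha.1 (C.f_class M ha) fun h => C.nc ((same_iff ha C.hx).1 h), commute_sameClass C.hd ha⟩

theorem g_mem : g ∈ blockAt D f d := ⟨C.mem_Y M C.hg C.fg C.ncg, C.dg⟩

theorem blocksY : IsBlocks D (comp D f d) :=
  M.comp_blocks (mul_self M.rooted.ot.1 C.hf) (invol_ne_one (M.rooted.ot.1.orderOf_eq f C.hf)) C.hd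
    (fun _ ha => C.f_class M ha) C.hx C.fx C.nc C.big

theorem block_sub {y : G} (hy : y ∈ blockAt D f d) : y ∈ D ∧ Commute f y :=
  comp_sub M.rooted.ot.1 C.hd C.fd hy.1

theorem block_nc {y : G} (hy : y ∈ blockAt D f d) : ¬ Commute y x := fun h =>
  C.nc ((C.blocksY M).clique self_mem_comp hy.1 (C.x_mem M) hy.2 h)

theorem block_comm {a b : G} (ha : a ∈ blockAt D f d) (hb : b ∈ blockAt D f d) : Commute a b :=
  (C.blocksY M).clique ha.1 self_mem_comp hb.1 ha.2.symm hb.2

theorem base_commute_f {v : G} (hv : v ∈ base D f d) : Commute f v :=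
  commute_of_mem_closure_centre (fun a ha => by
    rcases ha with ha | ha
    · exact (C.block_sub M ha).2
    · exact commute_sameClass C.hf ha) hv

theorem base_commute {v w : G} (hv : v ∈ base D f d) (hw : w ∈ base D f d) : Commute v w := by
  have h : ∀ a ∈ blockAt D f d ∪ Cfsg.sameCommutingClass D f,
      ∀ b ∈ blockAt D f d ∪ Cfsg.sameCommutingClass D f, Commute a b := by
    rintro a (ha | ha) b (hb | hb)
    · exact C.block_comm M ha hb
    · exact ((same_iff hb (C.block_sub M ha).1).2 (C.block_sub M ha).2).symm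
    · exact (same_iff ha (C.block_sub M hb).1).2 (C.block_sub M hb).2
    · exact commute_pair C.hf ha hb
  refine commute_of_mem_closure_centre (fun b hb => ?_) hw
  exact (commute_of_mem_closure_centre (fun a ha => h b hb a ha) hv).symm

theorem base_sq {v : G} (hv : v ∈ base D f d) : v * v = 1 := by
  induction hv using Subgroup.closure_induction with
  | mem a ha =>
    rcases ha with ha | ha
    · exact mul_self M.rooted.ot.1 (C.block_sub M ha).1
    · exact mul_self M.rooted.ot.1 ha.1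
  | one => exact one_mul 1
  | mul a b ha hb h₁ h₂ => rw [(C.base_commute M hb ha).mul_mul_mul_comm, h₁, h₂, one_mul]
  | inv a _ h => rw [← mul_inv_rev, h, inv_one]

theorem exists_m : ∃ m ∈ D, Commute d m ∧ ¬ Commute g m ∧ ¬ Commute f m := by
  obtain ⟨m, hm, hgm⟩ : ∃ m ∈ cls D d, m ∉ cls D g := by
    by_contra hall
    push Not at hall
    obtain ⟨k, hk⟩ := M.rooted.cls d C.hd g C.hg
    refine C.ns (Set.eq_of_subset_of_ncard_le hall ?_ (Set.toFinite _))
    rw [← hk, cls_conj M.rooted.ot.1,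
      Set.ncard_image_of_injective _ fun p q e => mul_left_cancel (mul_right_cancel e)]
  refine ⟨m, hm.1, hm.2, fun h => hgm ⟨hm.1, h⟩, fun h => hgm ⟨hm.1, ?_⟩⟩
  by_contra hg'
  exact hg' ((C.blocksY M).clique (C.g_mem M).1 self_mem_comp
    (mem_comp_of_nc M.rooted.ot C.hd C.fd hm.1 h (C.g_mem M).1 hg') C.dg.symm hm.2)

/-- What is in the block of `d` at `f`, but not in its class, is in the component of `f` at `d`. -/
theorem mem_R {c : G} (hc : c ∈ D) (hdc : Commute d c) (hfc : Commute f c) (hcx : ¬ Commute c x)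
    (hns : ¬ OddTr.Same D d c) : c ∈ comp D d f := by
  have C' : Cfg D d x f c := ⟨C.hd, C.hx, C.hf, hc, C.nc, hcx, C.fd, C.fx, hfc, hdc, hns, C.big⟩
  obtain ⟨m, hm, hdm, hcm, hfm⟩ := C'.exists_m M
  exact mem_comp_of_nc M.rooted.ot C.hf C.fd.symm hc hdc
    (mem_comp_of_nc M.rooted.ot C.hf C.fd.symm hm hdm self_mem_comp hfm) fun e => hcm e.symm

theorem class_f_mem {a : G} (ha : a ∈ Cfsg.sameCommutingClass D f) : a ∈ comp D d f := by
  obtain ⟨m, hm, hdm, -, hfm⟩ := C.exists_m M
  refine mem_comp_of_nc M.rooted.ot C.hf C.fd.symm ha.1 ((same_iff ha C.hd).2 C.fd).symm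
    (mem_comp_of_nc M.rooted.ot C.hf C.fd.symm hm hdm self_mem_comp hfm) fun e => hfm ?_
  exact (same_iff ha hm).1 e.symm

theorem blocksR : IsBlocks D (comp D d f) := by
  have R := M.rooted
  obtain ⟨k, hk⟩ := R.cls f C.hf d C.hd
  set d' := k * d * k⁻¹
  set x' := k * x * k⁻¹
  have hd' : d' ∈ D := R.ot.1.conj_mem d C.hd k
  have hx' : x' ∈ D := R.ot.1.conj_mem x C.hx k
  have hdd' : Commute d d' := hk ▸ (commute_conj_iff k).2 C.fd
  have hdx' : Commute d x' := hk ▸ (commute_conj_iff k).2 C.fx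
  have hnc' : ¬ Commute d' x' := fun h => C.nc ((commute_conj_iff k).1 h)
  have hB := M.comp_blocks (mul_self R.ot.1 C.hd) (invol_ne_one (R.ot.1.orderOf_eq d C.hd)) hd'
    (fun a ha => ((same_iff ha C.hd).2 hdd'.symm).symm) hx' hdx' hnc'
    (fun h => C.big (small_conj R.ot.1 k h))
  have hx'Y := mem_comp_of_nc R.ot hd' hdd' hx' hdx' self_mem_comp hnc'
  by_cases hmix : ∃ y ∈ comp D d d', ∃ z ∈ comp D d f, ¬ Commute z y
  · obtain ⟨y, hy, z, hz, hzy⟩ := hmix
    obtain ⟨hyD, hdy⟩ := comp_sub R.ot.1 hd' hdd' hy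
    rw [← comp_eq (mem_comp_of_nc R.ot C.hf C.fd.symm hyD hdy hz hzy), comp_eq hy]
    exact hB
  exfalso
  push Not at hmix
  obtain ⟨m, hm, hdm, hgm, hfm⟩ := C.exists_m M
  have hmR := mem_comp_of_nc R.ot C.hf C.fd.symm hm hdm self_mem_comp hfm
  have hgR := C.mem_R M C.hg C.dg C.fg C.ncg C.ns
  obtain ⟨y, hy, hyx⟩ : ∃ y ∈ comp D d d', Commute y x := by
    by_contra hall
    push Not at hall
    have h1 := C.mem_Y M hd' (hmix _ self_mem_comp _ self_mem_comp) (hall _ self_mem_comp)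
    have h2 := C.mem_Y M hx' (hmix _ hx'Y _ self_mem_comp) (hall _ hx'Y)
    exact hnc' ((C.blocksY M).clique h1 self_mem_comp h2 hdd'.symm hdx')
  obtain ⟨hyD, hdy⟩ := comp_sub R.ot.1 hd' hdd' hy
  have hY := M.comp_blocks (mul_self R.ot.1 hyD) (invol_ne_one (R.ot.1.orderOf_eq y hyD)) C.hd
    (fun a ha => ((same_iff ha hyD).2 hdy).symm) C.hx hyx C.nc C.big
  have hxY := mem_comp_of_nc R.ot C.hd hdy.symm C.hx hyx self_mem_comp C.nc
  have hgY := mem_comp_of_nc R.ot C.hd hdy.symm C.hg (hmix y hy g hgR).symm hxY fun e => C.ncg e.symm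
  have hmY := mem_comp_of_nc R.ot C.hd hdy.symm hm (hmix y hy m hmR).symm hgY hgm
  have hfY := mem_comp_of_nc R.ot C.hd hdy.symm C.hf (hmix y hy f self_mem_comp).symm hmY fun e => hfm e.symm
  exact C.nc (hY.clique self_mem_comp hfY hxY C.fd.symm C.fx)

theorem exists_f2 : ∃ p ∈ D, Commute d p ∧ Commute x p ∧ ¬ Commute f p := by
  obtain ⟨m, hm, hdm, hgm, hfm⟩ := C.exists_m M
  by_cases hmx : Commute m x
  · exact ⟨m, hm, hdm, hmx.symm, hfm⟩
  obtain ⟨p, hp, hpd, hpm, hpx⟩ := M.common_of C.hd hm C.hx hdm hmx C.nc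
  refine ⟨p, hp, hpd.symm, hpx.symm, fun hfp => ?_⟩
  have R := M.rooted
  have hgp : ¬ Commute g p := fun hgp => by
    have hY := M.comp_blocks (mul_self R.ot.1 hp) (invol_ne_one (R.ot.1.orderOf_eq p hp)) C.hd
      (fun a ha => ((same_iff ha hp).2 hpd.symm).symm) C.hx hpx C.nc C.big
    have hxY := mem_comp_of_nc R.ot C.hd hpd C.hx hpx self_mem_comp C.nc
    exact hgm (hY.clique (mem_comp_of_nc R.ot C.hd hpd C.hg hgp.symm hxY fun e => C.ncg e.symm)
      self_mem_comp (mem_comp_of_nc R.ot C.hd hpd hm hpm hxY fun e => hmx e.symm) C.dg.symm hdm)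
  have hpR := mem_comp_of_nc R.ot C.hf C.fd.symm hp hpd.symm (C.mem_R M C.hg C.dg C.fg C.ncg C.ns) hgp
  exact hfm ((C.blocksR M).clique self_mem_comp hpR
    (mem_comp_of_nc R.ot C.hf C.fd.symm hm hdm self_mem_comp hfm) hfp hpm)

theorem apart_f2 {c p : G} (hc : c ∈ D) (hdc : Commute d c) (hfc : Commute f c) (hcx : ¬ Commute c x)
    (hns : ¬ OddTr.Same D d c) (hp : p ∈ D) (hdp : Commute d p) (hfp : ¬ Commute f p) : ¬ Commute c p :=
  fun h => hfp ((C.blocksR M).clique self_mem_comp (C.mem_R M hc hdc hfc hcx hns)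
    (mem_comp_of_nc M.rooted.ot C.hf C.fd.symm hp hdp self_mem_comp hfp) hfc h)

theorem left {a : G} (ha : a ∈ Cfsg.sameCommutingClass D d) : Cfg D a x f g :=
  { hd := ha.1, hx := C.hx, hf := C.hf, hg := C.hg
    nc := fun h => C.nc ((same_iff ha C.hx).1 h)
    ncg := C.ncg
    fd := C.f_class M ha
    fx := C.fx, fg := C.fg
    dg := (same_iff ha C.hg).2 C.dg
    ns := fun h => C.ns ((mem_sameClass_iff.1 ha).2.trans h)
    big := by
      rw [genGroup, show Cfsg.sameCommutingClass D a = Cfsg.sameCommutingClass D d from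
        Set.ext fun b => by
          rw [mem_sameClass_iff, mem_sameClass_iff]
          exact and_congr_right fun _ => ⟨(mem_sameClass_iff.1 ha).2.trans, (mem_sameClass_iff.1 ha).2.symm.trans⟩]
      exact C.big }

theorem seed : Seed D (blockAt D f d) d x where
  ot := M.rooted.ot
  mem := ⟨self_mem_comp, Commute.refl d⟩
  sub _ ha := (C.block_sub M ha).1
  mem_x := C.hx
  apart := C.nc
  same a ha j hj := by
    have hjY : j * d * j⁻¹ ∈ comp D f d := (C.blocksY M).inner.conj j
      (closure_mono (Set.union_subset (fun _ h => h.1) (Set.singleton_subset_iff.2 (C.x_mem M))) hj) d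
      self_mem_comp
    exact ⟨fun h => (C.blocksY M).clique self_mem_comp ha.1 hjY ha.2 h,
      fun h => (C.blocksY M).clique ha.1 self_mem_comp hjY ha.2.symm h⟩

variable (hC : CfsgLib.SECrit.CritThm.{u})
include hC

theorem swap : Cfg D g x f d :=
  { hd := C.hg, hx := C.hx, hf := C.hf, hg := C.hd
    nc := C.ncg, ncg := C.nc, fd := C.fg, fx := C.fx, fg := C.fd, dg := C.dg.symm
    ns := fun h => C.ns h.symm
    big := by
      refine M.rooted.not_small_mono hC (C.seed M) (fun _ ha => C.class_mem M ha) C.hg C.hx C.ncg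
        (closure_mono (Set.union_subset_union_left _ fun a ha => ?_))
        fun h => C.big (small_of_le (closure_mono (Set.union_subset_union_left _ fun a ha => C.class_mem M ha)) h)
      have h1 : ¬ Commute a x := fun h => C.ncg ((same_iff ha C.hx).1 h)
      exact ⟨C.mem_Y M ha.1 ((same_iff ha C.hf).2 C.fg.symm).symm h1,
        ((same_iff ha C.hd).2 C.dg.symm).symm⟩ }

theorem rev : ∃ g', Cfg D x d f g' := by
  have R := M.rooted
  obtain ⟨k, hk, hke⟩ := genGroup_exists_conj R.ot C.hd C.hx C.nc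
  have hfk : Commute f k := commute_of_mem_genGroup (fun _ ha => C.f_class M ha) C.fx hk
  set g' := k * g * k⁻¹
  have hg' : g' ∈ D := R.ot.1.conj_mem g C.hg k
  have hfg' : Commute f g' := conj_commute hfk C.fg
  have hxg' : Commute x g' := hke ▸ (commute_conj_iff k).2 C.dg
  refine ⟨g', C.hx, C.hd, C.hf, hg', fun h => C.nc h.symm, fun h => C.nc ?_, C.fx, C.fd, hfg', hxg',
    fun h => C.ns ?_, R.not_small_mono hC (seed_sameClass R.ot C.hd C.hx C.nc) subset_rfl C.hx C.hd
      (fun h => C.nc h.symm) ((closure_le _).2 ?_) C.big⟩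
  · exact (C.blocksY M).clique self_mem_comp ((C.blocksY M).inner.conj k
      ((closure_mono (Set.union_subset (fun _ ha => (C.class_mem M ha).1)
        (Set.singleton_subset_iff.2 (C.x_mem M)))) hk) g (C.g_mem M).1) (C.x_mem M) h.symm hxg'.symm
  · have h1 := h.conj R.ot.1 k⁻¹
    rwa [← hke, show k⁻¹ * (k * d * k⁻¹) * k⁻¹⁻¹ = d by group,
      show k⁻¹ * (k * g * k⁻¹) * k⁻¹⁻¹ = g by group] at h1
  · rintro a (ha | ha)
    · have h1 := sameClass_conj R.ot.1 ha k⁻¹
      rw [← hke, show k⁻¹ * (k * d * k⁻¹) * k⁻¹⁻¹ = d by group] at h1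
      have h2 := mul_mem (mul_mem hk (subset_closure (Or.inl h1) : _ ∈ genGroup D d x)) (inv_mem hk)
      rwa [show k * (k⁻¹ * a * k⁻¹⁻¹) * k⁻¹ = a by group] at h2
    · rw [Set.mem_singleton_iff] at ha
      rw [ha]
      exact sameClass_mem_genGroup (self_mem_sameClass C.hd)

/-- An involution fixing `d`, `g` and `x` is a member. -/
theorem mem_of_fix {v : G} (hv2 : v * v = 1) (hv1 : v ≠ 1)
    (hvE : ∀ a ∈ Cfsg.sameCommutingClass D d, Commute v a) (hvx : Commute v x) (hvg : Commute v g) :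
    v ∈ D := by
  have R := M.rooted
  obtain ⟨m, hm, hgm, hxm, hfm⟩ := (C.swap M hC).exists_f2 M
  have hmd : ¬ Commute m d := fun h => (C.swap M hC).apart_f2 M C.hd C.dg.symm C.fd C.nc
    (fun hs => C.ns hs.symm) hm hgm hfm h.symm
  have hvi : v⁻¹ = v := inv_eq_of_mul_eq_one_right hv2
  have hinv : ∀ a, v * (v * a * v⁻¹) * v⁻¹ = a := fun a => by
    rw [show v * (v * a * v⁻¹) * v⁻¹ = v * v * a * (v * v)⁻¹ by group, hv2, one_mul, inv_one, mul_one]
  -- nothing fixes a path from `g` to `x` away from `d`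
  have fixed : ∀ u : G, u * u = 1 → (∀ a ∈ Cfsg.sameCommutingClass D d, Commute u a) → Commute u x →
      Commute u g → ∀ z ∈ D, Commute u z → Commute g z → Commute x z → ¬ Commute z d → u = 1 := by
    intro u hu hE hux hug z hz huz hgz hxz hzd
    by_contra hu1
    have hB := M.comp_blocks hu hu1 C.hd hE C.hx hux C.nc C.big
    have hud := hE d (self_mem_sameClass C.hd)
    have hxY := mem_comp_of_nc R.ot C.hd hud C.hx hux self_mem_comp C.nc
    exact C.ncg (hB.clique (mem_comp_of_nc R.ot C.hd hud C.hg hug hxY fun e => C.ncg e.symm)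
      (mem_comp_of_nc R.ot C.hd hud hz huz self_mem_comp fun e => hzd e.symm) hxY hgz hxz.symm)
  set m1 := v * m * v⁻¹ with hm1
  have hm1D : m1 ∈ D := R.ot.1.conj_mem m hm v
  have hg1 : Commute g m1 := conj_commute hvg.symm hgm
  have hx1 : Commute x m1 := conj_commute hvx.symm hxm
  by_cases hcm : Commute m m1
  · exfalso
    have hm1d : ¬ Commute m1 d := fun h => hmd (by
      rw [← conj_eq_self_iff.2 (hvE d (self_mem_sameClass C.hd))] at h
      exact (commute_conj_iff v).1 h)
    by_cases he : m1 = m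
    · exact hv1 (fixed v hv2 hvE hvx hvg m hm (conj_eq_self_iff.1 he) hgm hxm hmd)
    have hf1 : ¬ Commute f m1 := fun h => C.ncg ((C.blocksY M).clique (C.g_mem M).1
      (mem_comp_of_nc R.ot C.hd C.fd hm1D h self_mem_comp fun e => hm1d e.symm) (C.x_mem M) hg1 hx1.symm)
    have hmem : ∀ {y : G}, y ∈ D → Commute g y → ¬ Commute f y → y ∈ comp D g f := fun hy h h' =>
      mem_comp_of_nc R.ot C.hf C.fg.symm hy h self_mem_comp h'
    have hs : OddTr.Same D m m1 := by
      by_contra hs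
      obtain ⟨h, hh, hh1⟩ : ∃ h ∈ cls D m, h ∉ cls D m1 := by
        by_contra hall
        push Not at hall
        refine hs (Set.eq_of_subset_of_ncard_le hall ?_ (Set.toFinite _))
        rw [hm1, cls_conj R.ot.1,
          Set.ncard_image_of_injective _ fun p q e => mul_left_cancel (mul_right_cancel e)]
      have hm1h : ¬ Commute m1 h := fun e => hh1 ⟨hh.1, e⟩
      have hgh : ¬ Commute g h := fun hgh => hm1h (((C.swap M hC).blocksR M).clique
        (hmem hm1D hg1 hf1) (hmem hm hgm hfm)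
        (mem_comp_of_nc R.ot C.hf C.fg.symm hh.1 hgh (hmem hm1D hg1 hf1) hm1h) hcm.symm hh.2)
      have hB := M.comp_blocks (mul_self R.ot.1 hm) (invol_ne_one (R.ot.1.orderOf_eq m hm)) C.hg
        (fun a ha => ((same_iff ha hm).2 hgm).symm) C.hx hxm.symm C.ncg (C.swap M hC).big
      exact C.ncg (hB.clique self_mem_comp
        (mem_comp_of_nc R.ot C.hg hgm.symm hm1D hcm
          (mem_comp_of_nc R.ot C.hg hgm.symm hh.1 hh.2 self_mem_comp hgh) fun e => hm1h e.symm)
        (mem_comp_of_nc R.ot C.hg hgm.symm C.hx hxm.symm self_mem_comp C.ncg) hg1 hx1.symm)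
    have hc : m * m1 ∈ Cfsg.sameCommutingClass D m := by
      have h1 : m * m1 ∈ (Cfsg.sameCommutingSubgroup D m : Set G) :=
        mul_mem (subset_closure (self_mem_sameClass hm)) (subset_closure (mem_sameClass_iff.2 ⟨hm1D, hs⟩))
      rw [R.sameSubgroup_eq hm] at h1
      refine h1.resolve_right fun e => he ?_
      rw [eq_inv_of_mul_eq_one_right (Set.mem_singleton_iff.1 e), inv_eq R.ot.1 hm]
    have hvc : Commute v (m * m1) := by
      rw [← conj_eq_self_iff, show v * (m * m1) * v⁻¹ = m1 * (v * m1 * v⁻¹) by rw [hm1]; group, hm1,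
        hinv m, ← hm1, hcm.eq]
    exact hv1 (fixed v hv2 hvE hvx hvg _ hc.1 hvc (hgm.mul_right hg1) (hxm.mul_right hx1)
      fun h => hmd ((same_iff hc C.hd).1 h))
  · obtain ⟨w, hw, hwm, hwo⟩ := exists_mid R.ot hm hm1D hcm
    have hgw : Commute g w := mid_commute R.ot hm hw hwo hgm (by rw [hwm]; exact hg1)
    have hxw : Commute x w := mid_commute R.ot hm hw hwo hxm (by rw [hwm]; exact hx1)
    have hvw : Commute v w := mid_commute_swap R.ot hm hw hwo hwm.symm (by rw [hwm, hm1]; exact hinv m)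
    by_cases hwd : Commute w d
    · have h1 : Commute (v * w) m := by
        rw [← conj_eq_self_iff, show v * w * m * (v * w)⁻¹ = v * (w * m * w⁻¹) * v⁻¹ by group,
          inv_eq R.ot.1 hw, hwm, hm1, hinv]
      have h2 := fixed (v * w) (by rw [hvw.symm.mul_mul_mul_comm, hv2, mul_self R.ot.1 hw, one_mul])
        (fun a ha => (hvE a ha).mul_left ((same_iff ha hw).2 hwd.symm).symm) (hvx.mul_left hxw.symm)
        (hvg.mul_left hgw.symm) m hm h1 hgm hxm hmd
      rw [eq_inv_of_mul_eq_one_left h2, inv_eq R.ot.1 hw]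
      exact hw
    · exact absurd (fixed v hv2 hvE hvx hvg w hw hvw hgw hxw hwd) hv1

/-- Only `E(f)` fixes `x` in the abelian group. -/
theorem fix_x {v : G} (hv : v ∈ base D f d) (hvx : Commute v x) : v ∈ Cfsg.sameCommutingSubgroup D f := by
  have R := M.rooted
  have hmem : ∀ {u : G}, u ∈ base D f d → u ≠ 1 → Commute u x → u ∈ D := fun {u} hu hu1 hux =>
    C.mem_of_fix M hC (C.base_sq M hu) hu1
      (fun a ha => C.base_commute M hu (subset_closure (Or.inl (C.class_mem M ha)))) hux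
      (C.base_commute M hu (subset_closure (Or.inl (C.g_mem M))))
  by_cases hv1 : v = 1
  · rw [hv1]; exact one_mem _
  have hvD := hmem hv hv1 hvx
  refine subset_closure (mem_sameClass_iff.2 ⟨hvD, ?_⟩)
  by_cases hvf : v = f
  · rw [hvf]; rfl
  have hfb : f ∈ base D f d := subset_closure (Or.inr (self_mem_sameClass C.hf))
  have hline := hmem (mul_mem hfb hv) (fun e => hvf (by
    rw [eq_inv_of_mul_eq_one_right e, inv_eq R.ot.1 C.hf])) (C.fx.mul_left hvx)
  exact same_of_line R.ot C.hf hvD hline (C.base_commute_f M hv)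

end Cfg

end CfsgLib.RootInvol.OddPartner
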