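import Cfsg.Agent.Lib.RootSub.OddPartner.Core

/-!
# Small groups: two-elements square into the two-core

For a lined seed this happens exactly when three divides the order, so it passes between a seed and a
larger one, and between a group and an image with two-group kernel.
-/

set_option autoImplicit false
set_option linter.style.haveILetI false

namespace CfsgLib.RootInvol.OddPartner

open CfsgLib.RootInvol.OddTr Subgroup

universe u v

/-- Every two-element squares into the two-core. -/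
def Small (H : Type*) [Group H] : Prop := ∀ g : H, ∀ k : ℕ, g ^ 2 ^ k = 1 → g * g ∈ Cfsg.pCore 2 H

theorem small_of_hom {H : Type*} [Group H] {H' : Type*} [Group H'] [Finite H'] (f : H →* H')
    (hf : IsPGroup 2 f.ker) (h : Small H') : Small H := by
  haveI : (Cfsg.pCore 2 H').Normal := CfsgLib.Coprime.pCore_normal' 2
  intro g k hk
  have h1 : f (g * g) ∈ Cfsg.pCore 2 H' := by
    rw [map_mul]; exact h (f g) k (by rw [← map_pow, hk, map_one])
  exact CfsgLib.Coprime.le_pCore (N := (Cfsg.pCore 2 H').comap f)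
    ((CfsgLib.Coprime.pCore_isPGroup (G := H') 2).comap_of_ker_isPGroup f hf) h1

theorem small_of_le {G : Type*} [Group G] [Finite G] {H K : Subgroup G} (hle : H ≤ K) (h : Small K) : Small H :=
  small_of_hom (inclusion hle) (by
    rw [MonoidHom.ker_eq_bot_iff _ |>.2 (inclusion_injective hle)]
    exact IsPGroup.of_bot) h

namespace Seed

variable {G : Type u} [Group G] [Finite G] {D A : Set G} {d x : G} (S : Seed D A d x)
include S

theorem not_noLine {l : G} (hl : l ∈ A) (hp : d * l ∈ A) (hc : Commute d l) :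
    ¬ NoLine (quotD A d x S.memd) := by
  intro hn
  refine hn _ (S.reduced.sub ⟨⟨d, S.memd⟩, S.mem, rfl⟩) _
    (S.reduced.sub ⟨⟨l, subset_closure (Or.inl hl)⟩, hl, rfl⟩)
    ((show Commute (⟨d, S.memd⟩ : closure (A ∪ {x})) ⟨l, subset_closure (Or.inl hl)⟩ from
      Subtype.ext hc.eq).map _) ?_
  rw [← map_mul]
  exact S.reduced.sub ⟨_, hp, rfl⟩

theorem card_quot : ∃ n, Nat.card (closure (A ∪ {x})) =
    Nat.card (closure (A ∪ {x}) ⧸ Cfsg.pCore 2 (closure (A ∪ {x}))) * 2 ^ n := by
  haveI : Fact (Nat.Prime 2) := ⟨Nat.prime_two⟩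
  obtain ⟨n, hn⟩ := IsPGroup.iff_card.1 (CfsgLib.Coprime.pCore_isPGroup (G := closure (A ∪ {x})) 2)
  exact ⟨n, by rw [card_eq_card_quotient_mul_card_subgroup (Cfsg.pCore 2 (closure (A ∪ {x}))), hn]⟩

/-- A lined seed is small exactly if three divides the order. -/
theorem small_iff (hC : CfsgLib.SECrit.CritThm.{u}) {l : G} (hl : l ∈ A) (hp : d * l ∈ A)
    (hc : Commute d l) : Small (closure (A ∪ {x})) ↔ 3 ∣ Nat.card (closure (A ∪ {x})) := by
  have hnl := S.not_noLine hl hp hc
  obtain ⟨Q, K, s, r, Sh⟩ := S.reduced.exists_shape hnl hC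
  set π := QuotientGroup.mk' (Cfsg.pCore 2 (closure (A ∪ {x})))
  obtain ⟨n, hn⟩ := S.card_quot
  constructor
  · intro hs
    rcases Sh.cardQ with hq | hq
    · exact hn ▸ (Sh.three_dvd hq).mul_right _
    · exfalso
      refine Sh.r_notMem hq (Sh.set'.q_invol r Sh.set'.r_mem ?_)
      obtain ⟨g, hg⟩ := QuotientGroup.mk'_surjective (Cfsg.pCore 2 (closure (A ∪ {x}))) r
      haveI : Fact (Nat.Prime 2) := ⟨Nat.prime_two⟩
      obtain ⟨j, hj⟩ := CfsgLib.Coprime.pCore_isPGroup (G := closure (A ∪ {x})) 2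
        ⟨g ^ 4, (QuotientGroup.eq_one_iff _).1 (show π (g ^ 4) = 1 by
          rw [map_pow, hg, show (4 : ℕ) = 2 * 2 from rfl, pow_mul, pow_two r, pow_two]
          exact Sh.set'.e_sq _ (Sh.set'.q_sq r Sh.set'.r_mem))⟩
      have h2 := hs g (2 + j) (by
        rw [pow_add, pow_mul, show (2 : ℕ) ^ 2 = 4 from rfl]; exact congrArg Subtype.val hj)
      rw [← hg]
      exact (map_mul π g g).symm.trans ((QuotientGroup.eq_one_iff _).2 h2)
  · intro h3
    rcases Sh.cardQ with hq | hq
    · intro g k hk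
      refine (QuotientGroup.eq_one_iff _).1 (show π (g * g) = 1 from ?_)
      rw [map_mul]
      exact Sh.sq_eq_one hq (k := k) (by rw [← map_pow, hk, map_one])
    · exfalso
      rw [hn] at h3
      rcases Nat.prime_three.dvd_mul.1 h3 with h3 | h3
      · exact Sh.three_not_dvd hq h3
      · exact absurd (Nat.prime_three.dvd_of_dvd_pow h3) (by norm_num)

end Seed

namespace Rooted

variable {G : Type u} [Group G] [Finite G] {D : Set G} (R : Rooted D)
include R

theorem exists_line {d : G} (hd : d ∈ D) : ∃ l ∈ Cfsg.sameCommutingClass D d,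
    d * l ∈ Cfsg.sameCommutingClass D d ∧ Commute d l := by
  obtain ⟨l, hl, -, hc, hp⟩ := R.lined_mem hd
  exact ⟨l, mem_sameClass_iff.2 ⟨hl, same_of_line R.ot hd hl hp hc⟩,
    mem_sameClass_iff.2 ⟨hp, same_of_line' R.ot hd hl hp hc⟩, hc⟩

theorem small_iff (hC : CfsgLib.SECrit.CritThm.{u}) {d x : G} (hd : d ∈ D) (hx : x ∈ D)
    (hnc : ¬ Commute d x) : Small (genGroup D d x) ↔ 3 ∣ Nat.card (genGroup D d x) := by
  obtain ⟨l, hl, hp, hc⟩ := R.exists_line hd
  exact (seed_sameClass R.ot hd hx hnc).small_iff hC hl hp hc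

/-- A pair inside a seed that is not small is not small. -/
theorem not_small_mono (hC : CfsgLib.SECrit.CritThm.{u}) {A : Set G} {a y d x : G} (S : Seed D A a y)
    (hA : Cfsg.sameCommutingClass D a ⊆ A) (hd : d ∈ D) (hx : x ∈ D) (hnc : ¬ Commute d x)
    (hle : genGroup D d x ≤ closure (A ∪ {y})) (hS : ¬ Small (closure (A ∪ {y}))) :
    ¬ Small (genGroup D d x) := by
  obtain ⟨l, hl, hp, hc⟩ := R.exists_line (S.sub S.mem)
  rw [R.small_iff hC hd hx hnc]
  exact fun h3 => hS ((S.small_iff hC (hA hl) (hA hp) hc).2 (h3.trans (card_dvd_of_le hle)))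

theorem smallPair_of_small {d x : G} (h : Small (genGroup D d x)) : R.SmallPair d x := by
  intro g k hk
  obtain ⟨g, rfl⟩ := QuotientGroup.mk'_surjective (Cfsg.pCore 2 (genGroup D d x)) g
  haveI : Fact (Nat.Prime 2) := ⟨Nat.prime_two⟩
  set π := QuotientGroup.mk' (Cfsg.pCore 2 (genGroup D d x))
  obtain ⟨j, hj⟩ := CfsgLib.Coprime.pCore_isPGroup (G := genGroup D d x) 2
    ⟨g ^ 2 ^ k, (QuotientGroup.eq_one_iff _).1 (show π (g ^ 2 ^ k) = 1 by rw [map_pow]; exact hk)⟩
  have h2 := h g (k + j) (by rw [pow_add, pow_mul]; exact congrArg Subtype.val hj)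
  exact (map_mul π g g).symm.trans ((QuotientGroup.eq_one_iff _).2 h2)

end Rooted

end CfsgLib.RootInvol.OddPartner
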