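import Cfsg.Agent.Lib.RootSub.OddPartner.Setup
import Cfsg.Agent.Lib.RootSub.OddTr.Main
import Cfsg.Agent.Lib.JComp.Prelim

/-!
# The lined case: blocks

Commuting is transitive, the kernel of the action on the blocks is the centre and the products of
distinct commuting members are members.
-/

set_option autoImplicit false
set_option linter.unusedSectionVars false

namespace CfsgLib.RootInvol.OddPartner

open CfsgLib.RootInvol.OddTr Subgroup

variable {X : Type*} [Group X]

/-- A central involution lies in the two-core. -/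
theorem eq_one_of_central [Finite X] (hcore : Cfsg.pCore 2 X = ⊥) {v : X} (hv : ∀ g : X, Commute v g)
    (hv2 : v * v = 1) : v = 1 := by
  haveI : Fact (Nat.Prime 2) := ⟨Nat.prime_two⟩
  have hN : (zpowers v).Normal := ⟨fun n hn g => by
    obtain ⟨i, rfl⟩ := hn
    rw [← ((hv g).zpow_left i).eq, mul_inv_cancel_right]
    exact zpow_mem (mem_zpowers v) i⟩
  have hp : IsPGroup 2 (zpowers v) := by
    rintro ⟨_, i, rfl⟩
    refine ⟨1, Subtype.ext ?_⟩
    show (v ^ i) ^ (2 ^ 1) = 1
    rw [pow_one, pow_two, ← (Commute.refl v).mul_zpow, hv2, one_zpow]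
  exact mem_bot.1 (hcore ▸ CfsgLib.Coprime.le_pCore hp (mem_zpowers v))

namespace Reduced

variable [Finite X] {D A : Set X} {d x : X} (h : Reduced D A d x)
include h

theorem d_mem : d ∈ D := h.sub h.mem

/-- Whatever commutes with all members is central. -/
theorem central_of_commute {v : X} (hv : ∀ f ∈ D, Commute v f) (g : X) : Commute v g :=
  commute_of_mem_closure_centre hv (h.ot.1.generates ▸ mem_top g)

theorem no_common {f : X} (hf : f ∈ D) (hd : Commute f d) (hx : Commute f x) : False := by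
  refine CfsgLib.Invol.invol_ne_one (h.ot.1.orderOf_eq f hf) (eq_one_of_central h.core (fun g => ?_)
    (mul_self h.ot.1 hf))
  refine commute_of_mem_closure_centre (fun a ha => ?_) (h.gen ▸ mem_top g)
  rcases ha with ha | rfl
  · exact (((h.same a ha).iff hf).2 hd.symm).symm
  · exact hx

theorem exists_lined (hl : ¬ NoLine D) : ∃ a ∈ D, Lined D a := by
  simp only [NoLine, not_forall, not_not] at hl
  obtain ⟨a, ha, b, hb, hab, hp⟩ := hl
  exact ⟨a, ha, b, hb, fun e => CfsgLib.Invol.invol_ne_one (h.ot.1.orderOf_eq _ hp) (by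
    rw [e]; exact mul_self h.ot.1 ha), hab, hp⟩

theorem lined_d (hl : ¬ NoLine D) : Lined D d := by
  obtain ⟨a, ha, hla⟩ := h.exists_lined hl
  obtain ⟨g, rfl⟩ := h.cls a ha d h.d_mem
  exact lined_conj h.ot.1 hla g

theorem split (hl : ¬ NoLine D) : IsSplit D where
  ot := h.ot
  lined := ⟨d, h.d_mem, h.lined_d hl⟩
  apart := ⟨d, h.d_mem, x, h.mem_x, fun hr => by
    obtain ⟨f, hf, hfd, -, hfx⟩ := common₃ h.ot (goal h.ot) h.d_mem h.d_mem h.mem_x (h.lined_d hl)
      (Commute.refl d) h.odd h.odd hr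
    exact h.no_common hf hfd hfx⟩

variable (hl : ¬ NoLine D)
include hl

theorem clique {a b c : X} (ha : a ∈ D) (hb : b ∈ D) (hc : c ∈ D) (h1 : Commute a b) (h2 : Commute b c) :
    Commute a c := by
  have := (h.split hl).ker_normal
  exact (h.split hl).clique ha hb hc h1 h2

theorem eq_of_mul_mem_ker {a b : X} (ha : a ∈ D) (hb : b ∈ D) (hab : Commute a b)
    (hk : a * b ∈ (h.split hl).ker) : a = b := by
  haveI : Fact (Nat.Prime 2) := ⟨Nat.prime_two⟩
  set Kr := (h.split hl).ker with hKr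
  haveI hKn : Kr.Normal := (h.split hl).ker_normal
  set u := a * b
  have hu2 : u * u = 1 := by
    rw [show u * u = a * (b * a) * b by simp only [u, mul_assoc], ← hab.eq,
      ← mul_assoc, mul_self h.ot.1 ha, one_mul, mul_self h.ot.1 hb]
  set S : Set X := {w | ∃ k ∈ Kr, w = k * u * k⁻¹}
  have hnear : ∀ k ∈ Kr, ∀ c ∈ D, Commute a c → Commute a (k * c * k⁻¹) ∧ k * c * k⁻¹ ∈ D := fun k hk c hc hac =>
    ⟨h.clique hl ha hc (h.ot.1.conj_mem c hc k) hac ((h.split hl).mem_ker_iff.1 hk c hc),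
      h.ot.1.conj_mem c hc k⟩
  have hcomm : ∀ w ∈ S, ∀ w' ∈ S, Commute w w' := by
    rintro _ ⟨k, hk, rfl⟩ _ ⟨k', hk', rfl⟩
    have base : ∀ k ∈ Kr, k * u * k⁻¹ = (k * a * k⁻¹) * (k * b * k⁻¹) := fun k _ => by simp [u, mul_assoc]
    rw [base k hk, base k' hk']
    have cc : ∀ p q : X, p ∈ D → q ∈ D → Commute a p → Commute a q → Commute p q := fun p q hp hq h1 h2 =>
      h.clique hl hp ha hq h1.symm h2
    obtain ⟨p1, p1D⟩ := hnear k hk a ha (Commute.refl a)
    obtain ⟨p2, p2D⟩ := hnear k hk b hb hab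
    obtain ⟨q1, q1D⟩ := hnear k' hk' a ha (Commute.refl a)
    obtain ⟨q2, q2D⟩ := hnear k' hk' b hb hab
    exact ((cc _ _ p1D q1D p1 q1).mul_right (cc _ _ p1D q2D p1 q2)).mul_left
      ((cc _ _ p2D q1D p2 q1).mul_right (cc _ _ p2D q2D p2 q2))
  have hsq : ∀ w ∈ closure S, (∀ w' ∈ closure S, Commute w w') ∧ w * w = 1 := by
    have hc2 : ∀ w ∈ closure S, ∀ w' ∈ closure S, Commute w w' := fun w hw w' hw' => by
      induction hw, hw' using Subgroup.closure_induction₂ with
      | mem p q hp hq => exact hcomm p hp q hq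
      | one_left p _ => exact Commute.one_left p
      | one_right p _ => exact Commute.one_right p
      | mul_left p q r _ _ _ h₁ h₂ => exact h₁.mul_left h₂
      | mul_right p q r _ _ _ h₁ h₂ => exact h₁.mul_right h₂
      | inv_left p q _ _ h => exact h.inv_left
      | inv_right p q _ _ h => exact h.inv_right
    intro w hw
    refine ⟨hc2 w hw, ?_⟩
    induction hw using Subgroup.closure_induction with
    | mem p hp =>
      obtain ⟨k, -, rfl⟩ := hp
      rw [show k * u * k⁻¹ * (k * u * k⁻¹) = k * (u * u) * k⁻¹ by group, hu2, mul_one, mul_inv_cancel]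
    | one => exact one_mul 1
    | mul p q hp hq h₁ h₂ => rw [(hc2 q hq p hp).mul_mul_mul_comm, h₁, h₂, one_mul]
    | inv p _ h => rw [← mul_inv_rev, h, inv_one]
  have hle : closure S ≤ Kr := (closure_le _).2 (by
    rintro _ ⟨k, hkk, rfl⟩; exact mul_mem (mul_mem hkk hk) (inv_mem hkk))
  have hP : IsPGroup 2 (closure S) := by
    rintro ⟨w, hw⟩
    exact ⟨1, Subtype.ext (by show w ^ (2 ^ 1) = 1; rw [pow_one, pow_two]; exact (hsq w hw).2)⟩
  have hnorm : Kr ≤ normalizer (closure S : Set X) := by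
    refine CfsgLib.JComp.le_normalizer_of_conj fun k hk w hw => ?_
    have : closure S ≤ (closure S).comap (MulAut.conj k).toMonoidHom := (closure_le _).2 (by
      rintro _ ⟨k', hk', rfl⟩
      exact subset_closure ⟨k * k', mul_mem hk hk', by simp [mul_assoc]⟩)
    exact this hw
  have h1 := CfsgLib.JComp.le_pCoreOf (p := 2) hle hP hnorm
  have h2 : Cfsg.pCoreOf 2 Kr = ⊥ := by
    haveI : (Cfsg.pCoreOf 2 Kr).Normal := normalizer_eq_top_iff.1 (top_le_iff.1
      ((normalizer_eq_top_iff.2 hKn) ▸ CfsgLib.JComp.normalizer_le_normalizer_pCoreOf Kr))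
    refine eq_bot_iff.2 (h.core ▸ CfsgLib.Coprime.le_pCore (N := Cfsg.pCoreOf 2 Kr) ?_)
    exact CfsgLib.JComp.isPGroup_pCoreOf 2 Kr
  have h3 : u ∈ closure S := subset_closure ⟨1, one_mem _, by simp⟩
  have h4 : u = 1 := mem_bot.1 (h2 ▸ h1 h3)
  rw [← inv_eq h.ot.1 hb]
  exact eq_inv_of_mul_eq_one_left h4

theorem mem_center {v : X} (hv : v ∈ (h.split hl).ker) : v ∈ center X := by
  haveI hKn : (h.split hl).ker.Normal := (h.split hl).ker_normal
  refine mem_center_iff.2 fun g => (h.central_of_commute (fun a ha => ?_) g).eq.symm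
  have hb := h.ot.1.conj_mem a ha v
  have hab : Commute a (v * a * v⁻¹) := (h.split hl).mem_ker_iff.1 hv a ha
  have hk : a * (v * a * v⁻¹) ∈ (h.split hl).ker := by
    rw [show a * (v * a * v⁻¹) = (a * v * a⁻¹) * v⁻¹ by rw [inv_eq h.ot.1 ha]; simp [mul_assoc]]
    exact mul_mem (hKn.conj_mem v hv a) (inv_mem hv)
  exact (mul_inv_eq_iff_eq_mul.1 (h.eq_of_mul_mem_ker hl ha hb hab hk).symm)

theorem center_le : center X ≤ (h.split hl).ker := fun v hv => by
  haveI := (h.split hl).ker_normal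
  refine (h.split hl).mem_ker_iff.2 fun a ha => ?_
  rw [← mem_center_iff.1 hv a, mul_inv_cancel_right]

theorem eq_of_mul_central {a b : X} (ha : a ∈ D) (hb : b ∈ D) (hk : a * b ∈ center X) : a = b := by
  refine h.eq_of_mul_mem_ker hl ha hb ?_ (h.center_le hl hk)
  have h2 : Commute a (a * b) := mem_center_iff.1 hk a
  have h3 := (Commute.refl a).mul_right h2
  rwa [← mul_assoc, mul_self h.ot.1 ha, one_mul] at h3

theorem prod_mem {a b : X} (ha : a ∈ D) (hb : b ∈ D) (hne : a ≠ b) (hab : Commute a b) : a * b ∈ D := by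
  set hS := h.split hl
  haveI := hS.ker_normal
  have hnk : a * b ∉ hS.ker := fun hk => hne (h.eq_of_mul_mem_ker hl ha hb hab hk)
  have hne' : QuotientGroup.mk' hS.ker a ≠ QuotientGroup.mk' hS.ker b := fun e => hnk ((hS.mk_eq_iff ha).1 e)
  obtain ⟨-, c, hc, hce⟩ := hS.rel_system.prod (hS.mem_image ha) (hS.mem_image hb) hne'
    (by rw [← map_mul, ← map_mul, hab.eq])
  rw [← map_mul] at hce
  have hz : c * (a * b) ∈ center X := h.mem_center hl ((hS.mk_eq_iff hc).1 hce)
  have hc1 : ∀ g, Commute (c * (a * b)) g := fun g => (mem_center_iff.1 hz g).symm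
  have hcc := mul_self h.ot.1 hc
  have hab2 : a * b * (a * b) = 1 := by
    rw [show a * b * (a * b) = a * (b * a) * b by simp only [mul_assoc], ← hab.eq,
      ← mul_assoc, mul_self h.ot.1 ha, one_mul, mul_self h.ot.1 hb]
  have h1 : c * (a * b) = 1 := eq_one_of_central h.core hc1 (by
    calc c * (a * b) * (c * (a * b)) = c * (c * (a * b)) * (a * b) := by
          rw [mul_assoc c (a * b) (c * (a * b)), ← (hc1 (a * b)).eq, ← mul_assoc c (c * (a * b))]
      _ = 1 := by rw [← mul_assoc c c, hcc, one_mul, hab2])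
  rwa [← inv_eq_of_mul_eq_one_right h1, inv_eq h.ot.1 hc]

end Reduced

end CfsgLib.RootInvol.OddPartner
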