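import Mathlib.Algebra.Group.Subgroup.Lattice
import Mathlib.Tactic.Group

/-!
# A Bruhat decomposition computed from one relation `t s t = r⁻¹ t r`

`Q` is a two-group with the central elementary subgroup `E` containing its squares and involutions, `K` an
abelian group inverted by `t`, regular on the non-trivial elements of `E`, fixed point free modulo `E`.
`Tri y g h f` says that `t y t = g h t f` with `g, f ∈ Q` and `h ∈ K`.
-/

set_option autoImplicit false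

namespace CfsgLib.RootInvol.OddPartner

variable {X : Type*} [Group X]

/-- The axioms for the Bruhat computation. -/
structure Setting (Q E K : Subgroup X) (t s r : X) : Prop where
  t_sq : t * t = 1
  le : E ≤ Q
  e_comm : ∀ e ∈ E, ∀ y ∈ Q, Commute e y
  e_sq : ∀ e ∈ E, e * e = 1
  q_sq : ∀ y ∈ Q, y * y ∈ E
  q_invol : ∀ y ∈ Q, y * y = 1 → y ∈ E
  k_comm : ∀ a ∈ K, ∀ b ∈ K, Commute a b
  k_q : ∀ k ∈ K, ∀ y ∈ Q, k * y * k⁻¹ ∈ Q
  k_e : ∀ k ∈ K, ∀ e ∈ E, k * e * k⁻¹ ∈ E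
  inv : ∀ k ∈ K, t * k * t = k⁻¹
  s_mem : s ∈ E
  s_ne : s ≠ 1
  reg : ∀ e ∈ E, e ≠ 1 → ∃! k, k ∈ K ∧ k * s * k⁻¹ = e
  fpf : ∀ k ∈ K, k ≠ 1 → ∀ y ∈ Q, k * y * k⁻¹ * y⁻¹ ∈ E → y ∈ E
  r_mem : r ∈ Q
  rel : t * s * t = r⁻¹ * t * r
  not_t : ∀ y ∈ Q, ∀ k ∈ K, y * k ≠ t
  uniq : ∀ y ∈ Q, ∀ k ∈ K, t * (y * k) * t ∈ Q → y = 1 ∧ k = 1

/-- `t y t = g h t f`. -/
def Tri (Q K : Subgroup X) (t y g h f : X) : Prop :=
  g ∈ Q ∧ h ∈ K ∧ f ∈ Q ∧ t * y * t = g * h * t * f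

namespace Setting

variable {Q E K : Subgroup X} {t s r : X} (S : Setting Q E K t s r)
include S

theorem t_inv : t⁻¹ = t := inv_eq_of_mul_eq_one_right S.t_sq

theorem t_mul_k {k : X} (hk : k ∈ K) : t * k = k⁻¹ * t := by
  rw [← S.inv k hk, mul_assoc, S.t_sq, mul_one]

theorem s_memQ : s ∈ Q := S.le S.s_mem

theorem s_inv : s⁻¹ = s := inv_eq_of_mul_eq_one_right (S.e_sq s S.s_mem)

theorem tri_unique {y g h f g' h' f' : X} (a : Tri Q K t y g h f) (b : Tri Q K t y g' h' f') :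
    g = g' ∧ h = h' ∧ f = f' := by
  obtain ⟨hg, hh, hf, e1⟩ := a
  obtain ⟨hg', hh', hf', e2⟩ := b
  have e3 : g * h * t * f = g' * h' * t * f' := e1.symm.trans e2
  have e4 : t * (h⁻¹ * (g⁻¹ * g') * h * (h⁻¹ * h')) * t = f * f'⁻¹ := by
    calc t * (h⁻¹ * (g⁻¹ * g') * h * (h⁻¹ * h')) * t = t * (g * h)⁻¹ * (g' * h' * t * f') * f'⁻¹ := by
          simp [mul_assoc]
      _ = t * t * (f * f'⁻¹) := by rw [← e3]; simp [mul_assoc]
      _ = f * f'⁻¹ := by rw [S.t_sq, one_mul]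
  have hy : h⁻¹ * (g⁻¹ * g') * h ∈ Q := by
    simpa using S.k_q h⁻¹ (inv_mem hh) _ (mul_mem (inv_mem hg) hg')
  obtain ⟨e5, e6⟩ := S.uniq _ hy _ (mul_mem (inv_mem hh) hh') (e4 ▸ mul_mem hf (inv_mem hf'))
  rw [e5, e6, one_mul, mul_one, S.t_sq] at e4
  refine ⟨inv_mul_eq_one.1 ?_, inv_mul_eq_one.1 e6, mul_inv_eq_one.1 e4.symm⟩
  have := congrArg (fun u => h * u * h⁻¹) e5
  simpa [mul_assoc] using this

theorem tri_ne {y g h f : X} (hy : y ∈ Q) (a : Tri Q K t y g h f) : f ≠ 1 := by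
  obtain ⟨hg, hh, hf, e⟩ := a
  rintro rfl
  rw [mul_one] at e
  refine S.not_t _ (mul_mem hg (S.k_q h hh _ (inv_mem hy))) h hh ?_
  rw [show g * (h * y⁻¹ * h⁻¹) * h = g * h * t * (y * t)⁻¹ by simp [mul_assoc],
    ← e]
  simp [mul_assoc]

theorem tri_conj {y g h f c : X} (hc : c ∈ K) (a : Tri Q K t y g h f) :
    Tri Q K t (c * y * c⁻¹) (c⁻¹ * g * c) (h * (c * c)⁻¹) (c⁻¹ * f * c) := by
  obtain ⟨hg, hh, hf, e⟩ := a
  refine ⟨by simpa using S.k_q c⁻¹ (inv_mem hc) g hg, mul_mem hh (inv_mem (mul_mem hc hc)),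
    by simpa using S.k_q c⁻¹ (inv_mem hc) f hf, ?_⟩
  calc t * (c * y * c⁻¹) * t = t * c * t * (t * y * t) * (t * c⁻¹ * t) := by
        rw [show t * c * t * (t * y * t) * (t * c⁻¹ * t) = t * c * (t * t) * y * (t * t) * c⁻¹ * t by
          simp only [mul_assoc], S.t_sq]
        simp only [mul_one, mul_assoc]
    _ = c⁻¹ * (g * h * t * f) * c := by rw [S.inv c hc, S.inv c⁻¹ (inv_mem hc), inv_inv, e]
    _ = c⁻¹ * g * (c * h * c⁻¹) * (c⁻¹ * (t * c⁻¹)) * f * c := by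
        rw [(S.k_comm c hc h hh).eq, mul_inv_cancel_right, S.t_mul_k (inv_mem hc), inv_inv,
          inv_mul_cancel_left]
        simp only [mul_assoc]
    _ = c⁻¹ * g * c * (h * (c * c)⁻¹) * t * (c⁻¹ * f * c) := by simp [mul_assoc]

theorem tri_inv {y g h f : X} (a : Tri Q K t y g h f) : Tri Q K t y⁻¹ f⁻¹ h g⁻¹ := by
  obtain ⟨hg, hh, hf, e⟩ := a
  refine ⟨inv_mem hf, hh, inv_mem hg, ?_⟩
  calc t * y⁻¹ * t = (t * y * t)⁻¹ := by rw [mul_inv_rev, mul_inv_rev, S.t_inv, mul_assoc]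
    _ = f⁻¹ * (t * h⁻¹) * g⁻¹ := by rw [e]; simp [S.t_inv, mul_assoc]
    _ = f⁻¹ * h * t * g⁻¹ := by rw [S.t_mul_k (inv_mem hh), inv_inv, ← mul_assoc f⁻¹]

/-- The composition rule. -/
theorem tri_mul {x y gx hx fx gy hy fy gz hz fz : X} (a : Tri Q K t x gx hx fx) (b : Tri Q K t y gy hy fy)
    (c : Tri Q K t (fx * gy) gz hz fz) :
    Tri Q K t (x * y) (gx * (hx * gz * hx⁻¹)) (hx * hz * hy) (hy * fz * hy⁻¹ * fy) := by
  obtain ⟨hgx, hhx, hfx, ea⟩ := a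
  obtain ⟨hgy, hhy, hfy, eb⟩ := b
  obtain ⟨hgz, hhz, hfz, ec⟩ := c
  refine ⟨mul_mem hgx (S.k_q _ hhx _ hgz), mul_mem (mul_mem hhx hhz) hhy,
    mul_mem (S.k_q _ hhy _ hfz) hfy, ?_⟩
  have h1 : hy * t = t * hy⁻¹ := by rw [S.t_mul_k (inv_mem hhy), inv_inv]
  calc t * (x * y) * t = (t * x * t) * (t * y * t) := by
        rw [show t * x * t * (t * y * t) = t * x * (t * t) * y * t by simp only [mul_assoc], S.t_sq]
        simp only [mul_one, mul_assoc]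
    _ = gx * hx * (t * (fx * gy) * (hy * t)) * fy := by rw [ea, eb]; simp only [mul_assoc]
    _ = gx * hx * (t * (fx * gy) * t) * hy⁻¹ * fy := by rw [h1]; simp only [mul_assoc]
    _ = gx * hx * gz * hz * t * fz * hy⁻¹ * fy := by rw [ec]; simp only [mul_assoc]
    _ = gx * (hx * gz * hx⁻¹) * (hx * hz) * (t * hy⁻¹) * (hy * fz * hy⁻¹ * fy) := by simp [mul_assoc]
    _ = _ := by rw [← h1]; simp only [mul_assoc]

theorem comp_ne {x y gx hx fx gy hy fy : X} (hxy : x * y ∈ Q) (hne : x * y ≠ 1) (a : Tri Q K t x gx hx fx)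
    (b : Tri Q K t y gy hy fy) : fx * gy ≠ 1 := by
  intro hz
  obtain ⟨hgx, hhx, -, ea⟩ := a
  obtain ⟨-, hhy, hfy, eb⟩ := b
  have h1 : t * (x * y) * t = gx * (hx * hy⁻¹ * fy * (hx * hy⁻¹)⁻¹) * (hx * hy⁻¹) := by
    calc t * (x * y) * t = (t * x * t) * (t * y * t) := by
          rw [show t * x * t * (t * y * t) = t * x * (t * t) * y * t by simp only [mul_assoc], S.t_sq]
          simp only [mul_one, mul_assoc]
      _ = gx * hx * (t * (fx * gy) * hy * t) * fy := by rw [ea, eb]; simp only [mul_assoc]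
      _ = gx * hx * hy⁻¹ * fy := by rw [hz, mul_one, S.inv hy hhy]
      _ = _ := by simp [mul_assoc]
  obtain ⟨e1, e2⟩ := S.uniq _ (mul_mem hgx (S.k_q _ (mul_mem hhx (inv_mem hhy)) _ hfy)) _
    (mul_mem hhx (inv_mem hhy)) (by rw [← h1, ← mul_assoc, ← mul_assoc, S.t_sq, one_mul, mul_assoc, S.t_sq, mul_one]; exact hxy)
  rw [e1, e2, mul_one] at h1
  have h2 := congrArg (fun u => t * u * t) h1
  simp only [mul_one, ← mul_assoc, S.t_sq, one_mul] at h2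
  rw [mul_assoc, S.t_sq, mul_one] at h2
  exact hne h2

end Setting

end CfsgLib.RootInvol.OddPartner
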