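import Cfsg.Agent.Lib.RootSub.OddPartner.Big

/-!
# A minimal group with a pair that is not small

The class of `d` among the members commuting with an involution `v` has disconnected commuting graph,
hence commuting is transitive on it.
-/

set_option autoImplicit false
set_option linter.style.haveILetI false

namespace CfsgLib.RootInvol.OddPartner

open CfsgLib.RootInvol.OddTr Subgroup CfsgLib.Invol

universe u

variable {G : Type u} [Group G] {D : Set G}

/-- The class of `d` among the members commuting with `v`. -/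
def comp (D : Set G) (v d : G) : Set G := {y | ∃ k ∈ closure (centre D v), k * d * k⁻¹ = y}

theorem self_mem_comp {v d : G} : d ∈ comp D v d := ⟨1, one_mem _, by simp⟩

theorem comp_sub (hD : Cfsg.IsRootInvolutionSet D) {v d : G} (hd : d ∈ D) (hvd : Commute v d) {y : G}
    (hy : y ∈ comp D v d) : y ∈ D ∧ Commute v y := by
  obtain ⟨k, hk, rfl⟩ := hy
  exact (centre_inner hD v).conj k hk d ⟨hd, hvd⟩

theorem comp_inner (hD : Cfsg.IsRootInvolutionSet D) {v d : G} (hd : d ∈ D) (hvd : Commute v d) :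
    IsInner D (comp D v d) where
  sub _ hy := (comp_sub hD hd hvd hy).1
  conj g hg b hb := by
    have hle : closure (comp D v d) ≤ closure (centre D v) :=
      (closure_le _).2 fun y hy => subset_closure (comp_sub hD hd hvd hy)
    obtain ⟨k, hk, rfl⟩ := hb
    exact ⟨g * k, mul_mem (hle hg) hk, by group⟩

variable [Finite G]

theorem mem_comp_of_nc (hD : Cfsg.IsOddTranspositionSet D) {v d : G} (hd : d ∈ D) (hvd : Commute v d)
    {y z : G} (hy : y ∈ D) (hvy : Commute v y) (hz : z ∈ comp D v d) (hnc : ¬ Commute z y) :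
    y ∈ comp D v d := by
  obtain ⟨hzD, hvz⟩ := comp_sub hD.1 hd hvd hz
  obtain ⟨k, hk, hke⟩ := exists_conj hD hzD hy hnc
    (subset_closure (show z ∈ centre D v from ⟨hzD, hvz⟩))
    (subset_closure (show y ∈ centre D v from ⟨hy, hvy⟩))
  obtain ⟨j, hj, rfl⟩ := hz
  exact ⟨k * j, mul_mem hk hj, by rw [← hke]; group⟩

/-- The component is one class of the group it generates. -/
theorem comp_class (hD : Cfsg.IsOddTranspositionSet D) {v d : G} (hd : d ∈ D) (hvd : Commute v d) {y : G}
    (hy : y ∈ comp D v d) : ∃ k ∈ closure (comp D v d), k * d * k⁻¹ = y := by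
  let O : Set G := {y | ∃ k ∈ closure (comp D v d), k * d * k⁻¹ = y}
  have hOc : ∀ z ∈ O, z ∈ comp D v d := by
    rintro _ ⟨k, hk, rfl⟩
    exact (comp_inner hD.1 hd hvd).conj k hk d self_mem_comp
  have hgen : ∀ a ∈ centre D v, ∀ z ∈ O, a * z * a⁻¹ ∈ O := by
    intro a ha z hz
    by_cases hc : Commute a z
    · rwa [hc.eq, mul_inv_cancel_right]
    · have hac := mem_comp_of_nc hD hd hvd ha.1 ha.2 (hOc z hz) (fun h => hc h.symm)
      obtain ⟨k, hk, rfl⟩ := hz
      exact ⟨a * k, mul_mem (subset_closure hac) hk, by group⟩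
  obtain ⟨k, hk, rfl⟩ := hy
  have : ∀ g ∈ closure (centre D v), ∀ z ∈ O, g * z * g⁻¹ ∈ O ∧ g⁻¹ * z * g ∈ O := by
    intro g hg
    induction hg using Subgroup.closure_induction with
    | mem a ha =>
      intro z hz
      refine ⟨hgen a ha z hz, ?_⟩
      have := hgen a ha z hz
      rwa [inv_eq hD.1 ha.1] at this ⊢
    | one => intro z hz; simpa using hz
    | mul a b _ _ iha ihb =>
      intro z hz
      refine ⟨?_, ?_⟩
      · have := (iha _ (ihb z hz).1).1
        rwa [show a * (b * z * b⁻¹) * a⁻¹ = a * b * z * (a * b)⁻¹ by group] at this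
      · have := (ihb _ (iha z hz).2).2
        rwa [show b⁻¹ * (a⁻¹ * z * a) * b = (a * b)⁻¹ * z * (a * b) by group] at this
    | inv a _ iha =>
      intro z hz
      rw [inv_inv]
      exact ⟨(iha z hz).2, (iha z hz).1⟩
  exact (this k hk d ⟨1, one_mem _, by simp⟩).1

/-- The hypotheses of the induction. -/
structure Minimal (D : Set G) : Prop where
  rooted : Rooted D
  reach : ∀ a ∈ D, ∀ b ∈ D, Reach D a b
  below : ∀ (H : Type u) [Group H] [Finite H] (D' : Set H), Nat.card H < Nat.card G → Rooted D' →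
    ∀ a ∈ D', ∀ b ∈ D', ¬ Commute a b → Reach D' a b → Small (genGroup D' a b)

namespace Minimal

variable (M : Minimal D)
include M

/-- In the component of an involution `d` and `x` are not joined. -/
theorem not_reach {v d x : G} (hv2 : v * v = 1) (hv1 : v ≠ 1) (hd : d ∈ D)
    (hvE : ∀ a ∈ Cfsg.sameCommutingClass D d, Commute v a) (hx : x ∈ D) (hvx : Commute v x)
    (hnc : ¬ Commute d x) (hbig : ¬ Small (genGroup D d x)) : ¬ Reach (comp D v d) d x := by
  intro hr
  haveI : Fact (Nat.Prime 2) := ⟨Nat.prime_two⟩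
  have R := M.rooted
  set Y := comp D v d with hY
  have hvd : Commute v d := hvE d (self_mem_sameClass hd)
  have hYi : IsInner D Y := comp_inner R.ot.1 hd hvd
  have hxY : x ∈ Y := mem_comp_of_nc R.ot hd hvd hx hvx self_mem_comp hnc
  have hEY : Cfsg.sameCommutingClass D d ⊆ Y := fun a ha =>
    mem_comp_of_nc R.ot hd hvd ha.1 (hvE a ha) hxY (fun h => hnc ((same_iff ha hx).1 h.symm))
  have hlt : closure Y ≠ ⊤ := fun h => hv1 (R.eq_one_of_commute (fun f hf =>
    commute_of_mem_closure_centre (fun y hy => (comp_sub R.ot.1 hd hvd hy).2)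
      (h ▸ mem_top f : f ∈ closure Y)) hv2)
  -- the group of the component modulo its two-core
  set O := Cfsg.pCore 2 (closure Y) with hO
  haveI : O.Normal := CfsgLib.Coprime.pCore_normal' 2
  set π := QuotientGroup.mk' O with hπ
  set D1 := OddTr.image O (inner Y) with hD1
  have hot := inner_oddTr R.ot hYi
  have hdY : d ∈ Y := self_mem_comp
  have hclsY : ∀ {a : closure Y}, a ∈ inner Y → ∃ g : closure Y, g * lift hdY * g⁻¹ = a := by
    intro a ha
    obtain ⟨k, hk, hke⟩ := comp_class R.ot hd hvd ha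
    exact ⟨⟨k, hk⟩, Subtype.ext hke⟩
  have hne : ∀ {a : closure Y}, a ∈ inner Y → π a ≠ 1 := by
    intro a ha h
    obtain ⟨g, hg⟩ := hclsY ha
    have hdO : lift hdY ∈ O := by
      have h1 : a ∈ O := (QuotientGroup.eq_one_iff a).1 h
      rw [← hg] at h1
      have := (inferInstance : O.Normal).conj_mem _ h1 g⁻¹
      rwa [show g⁻¹ * (g * lift hdY * g⁻¹) * g⁻¹⁻¹ = lift hdY by group] at this
    obtain ⟨k, hk⟩ := hclsY (a := lift hxY) hxY
    have hxO : lift hxY ∈ O := hk ▸ (inferInstance : O.Normal).conj_mem _ hdO k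
    obtain ⟨j, hj⟩ := (CfsgLib.Coprime.pCore_isPGroup (G := closure Y) 2) ⟨_, mul_mem hdO hxO⟩
    have hodd := (oddAdj_of_not_commute R.ot hd hx hnc).2.2.2
    have h1 := eq_one_of_odd_of_pow_two (a := d * x) hodd
      (show (d * x) ^ 2 ^ j = 1 from congrArg (fun z : closure Y => (z : G)) (congrArg Subtype.val hj))
    exact hnc (by rw [eq_inv_of_mul_eq_one_left h1]; exact (Commute.refl x).inv_left)
  have hrefl : ∀ {a b : closure Y}, a ∈ OddTr.inner Y → b ∈ OddTr.inner Y → Commute (π a) (π b) → Commute a b := by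
    intro a b ha hb h
    by_contra hab
    have e := mk_eq_of_commute O hot ha hb hab h
    rw [QuotientGroup.mk'_apply, QuotientGroup.mk'_apply, QuotientGroup.eq, inv_eq hot.1 ha] at e
    obtain ⟨j, hj⟩ := (CfsgLib.Coprime.pCore_isPGroup (G := closure Y) 2) ⟨_, e⟩
    have h1 := eq_one_of_odd_of_pow_two (oddAdj_of_not_commute hot ha hb hab).2.2.2
      (show (a * b) ^ 2 ^ j = 1 from congrArg Subtype.val hj)
    exact hab (by rw [eq_inv_of_mul_eq_one_left h1]; exact (Commute.refl b).inv_left)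
  have hmem : ∀ {a : closure Y}, a ∈ OddTr.inner Y → π a ∈ D1 := fun {a} ha => ⟨hne ha, a, ha, rfl⟩
  have hlY : Lined Y d := lined_subset R.ot hd (R.lined_mem hd) hEY
  have R1 : Rooted D1 := by
    refine ⟨image_oddTr O hot, ?_, CfsgLib.Coprime.pCore_quotient_eq_bot 2, ?_⟩
    · rintro _ ⟨-, a, ha, rfl⟩ _ ⟨-, b, hb, rfl⟩
      obtain ⟨g, hg⟩ := hclsY ha
      obtain ⟨k, hk⟩ := hclsY hb
      refine ⟨π (k * g⁻¹), ?_⟩
      rw [← map_inv, ← map_mul, ← map_mul, ← hk, ← hg]
      exact congrArg π (by group)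
    · obtain ⟨l, hl, hlne, hc, hp⟩ := lined_inner hdY hlY
      refine ⟨π (lift hdY), hmem hdY, π l, hmem hl, fun e => hne hp ?_, hc.map π, ?_⟩
      · rw [map_mul, e, ← map_mul, mul_self hot.1 hdY, map_one]
      · rw [← map_mul]; exact hmem hp
  have hnc1 : ¬ Commute (π (lift hdY)) (π (lift hxY)) := fun h =>
    hnc (commute_coe_iff.2 (hrefl (a := lift hdY) (b := lift hxY) hdY hxY h))
  have hr1 : ∀ {a b : closure Y}, Reach (OddTr.inner Y) a b → Reach D1 (π a) (π b) := by
    intro a b h
    induction h with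
    | refl => exact Relation.ReflTransGen.refl
    | tail _ hs ih => exact ih.tail ⟨hmem hs.1, hmem hs.2.1, hs.2.2.map π⟩
  have hsmall := M.below _ D1 (lt_of_le_of_lt
    (Nat.le_of_dvd Nat.card_pos (card_quotient_dvd_card O))
    (lt_of_le_of_ne (Subgroup.card_le_card_group _) fun h => hlt (Subgroup.eq_top_of_card_eq _ h)))
    R1 _ (hmem hdY) _ (hmem hxY) hnc1 (hr1 (reach_inner hdY hxY hr))
  -- pull back
  refine hbig ?_
  have hle : genGroup D d x ≤ closure Y := closure_mono (Set.union_subset hEY (Set.singleton_subset_iff.2 hxY))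
  have hsameE : ∀ a : closure Y, (a : G) ∈ Cfsg.sameCommutingClass D d →
      π a ∈ Cfsg.sameCommutingClass D1 (π (lift hdY)) := by
    intro a ha
    have haY : a ∈ OddTr.inner Y := hEY ha
    refine mem_sameClass_iff.2 ⟨hmem haY, same_of_iff ?_⟩
    rintro _ ⟨-, f, hf, rfl⟩
    refine ⟨fun h => ?_, fun h => ?_⟩
    · have h1 := commute_coe_iff.2 (hrefl hdY hf h)
      exact (commute_coe_iff.1 ((same_iff ha (hYi.sub hf)).2 h1)).map π
    · have h1 := commute_coe_iff.2 (hrefl haY hf h)
      exact (commute_coe_iff.1 (show Commute ((lift hdY : closure Y) : G) f from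
        (same_iff ha (hYi.sub hf)).1 h1)).map π
  have hmap : ∀ g : genGroup D d x, π (inclusion hle g) ∈ genGroup D1 (π (lift hdY)) (π (lift hxY)) := by
    intro g
    have : (⊤ : Subgroup (genGroup D d x)) ≤
        (genGroup D1 (π (lift hdY)) (π (lift hxY))).comap (π.comp (inclusion hle)) := by
      rw [← (closure_closure_coe_preimage (k := Cfsg.sameCommutingClass D d ∪ {x})), closure_le]
      rintro c (hc | hc)
      · exact subset_closure (Or.inl (hsameE _ hc))
      · refine subset_closure (Or.inr ?_)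
        rw [Set.mem_singleton_iff] at hc
        exact congrArg π (Subtype.ext hc)
    exact this (mem_top g)
  refine small_of_hom ((π.comp (inclusion hle)).codRestrict _ hmap) ?_ hsmall
  rintro ⟨g, hg⟩
  have h1 : inclusion hle g ∈ O := (QuotientGroup.eq_one_iff _).1 (congrArg Subtype.val (MonoidHom.mem_ker.1 hg))
  obtain ⟨j, hj⟩ := (CfsgLib.Coprime.pCore_isPGroup (G := closure Y) 2) ⟨_, h1⟩
  exact ⟨j, Subtype.ext (Subtype.ext (congrArg (fun z : closure Y => (z : G)) (congrArg Subtype.val hj)))⟩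

/-- Commuting is transitive on the component. -/
theorem comp_blocks {v d x : G} (hv2 : v * v = 1) (hv1 : v ≠ 1) (hd : d ∈ D)
    (hvE : ∀ a ∈ Cfsg.sameCommutingClass D d, Commute v a) (hx : x ∈ D) (hvx : Commute v x)
    (hnc : ¬ Commute d x) (hbig : ¬ Small (genGroup D d x)) : IsBlocks D (comp D v d) := by
  have hvd : Commute v d := hvE d (self_mem_sameClass hd)
  have hxY := mem_comp_of_nc M.rooted.ot hd hvd hx hvx self_mem_comp hnc
  refine isBlocks M.rooted.ot (comp_inner M.rooted.ot.1 hd hvd) self_mem_comp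
    (lined_subset M.rooted.ot hd (M.rooted.lined_mem hd) fun a ha => ?_) hxY
    (M.not_reach hv2 hv1 hd hvE hx hvx hnc hbig)
  exact mem_comp_of_nc M.rooted.ot hd hvd ha.1 (hvE a ha) hxY (fun h => hnc ((same_iff ha hx).1 h.symm))

end Minimal

end CfsgLib.RootInvol.OddPartner
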