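import Cfsg.Agent.Lib.RootSub.OddPartner.Main

/-!
# The two shapes in the lined case

`Q = E`: the two-elements square to one and three divides the order.
`|Q| = |E|²`: `r` is outside `E` and three does not divide the order.
-/

set_option autoImplicit false
set_option linter.style.haveILetI false
set_option linter.unusedSectionVars false

namespace CfsgLib.RootInvol.OddPartner

open CfsgLib.RootInvol.OddTr Subgroup CfsgLib.Invol CfsgLib.SECrit.Shape MulAction

universe u

namespace Reduced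

variable {X : Type u} [Group X] [Finite X] {D A : Set X} {d x : X} (h : Reduced D A d x) (hl : ¬ NoLine D)
include h hl

/-- The data of the lined case. -/
structure Shape (Q K : Subgroup X) (s r : X) : Prop where
  set' : Setting Q (block h hl) K x s r
  lifted : ∃ Qb, Lifted h hl Qb Q K s r
  cyc : IsCyclic K
  centre : center X = ⊥
  leQ : Q ≤ blockStab h hl
  leK : K ≤ blockStab h hl
  big : ∀ g, Big Q K x g
  cardQ : Nat.card Q = Nat.card (block h hl) ∨ Nat.card Q = Nat.card (block h hl) ^ 2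
  two_mem : ∀ g ∈ blockStab h hl, ∀ k : ℕ, g ^ 2 ^ k = 1 → g ∈ Q
  conj_two : ∀ g : X, ∀ k : ℕ, g ^ 2 ^ k = 1 → ∃ c : X, c⁻¹ * g * c ∈ Q
  card_X : Nat.card X = (Nat.card Q + 1) * Nat.card Q * Nat.card K

theorem exists_shape (hC : CfsgLib.SECrit.CritThm.{u}) : ∃ Q K s r, Shape h hl Q K s r := by
  haveI : Fact (Nat.Prime 2) := ⟨Nat.prime_two⟩
  obtain ⟨Qb, Q, K, s, r, L⟩ := h.exists_lifted hl hC
  obtain ⟨hZ, hbig, hcard⟩ := h.center_eq_bot_of_lifted hl L
  set π := QuotientGroup.mk' (center X) with hπ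
  have hπinj : Function.Injective π :=
    (MonoidHom.ker_eq_bot_iff π).1 (by rw [hπ, QuotientGroup.ker_mk', hZ])
  set N := (blockStab h hl).map π with hN
  have hback : ∀ {g : X}, π g ∈ Qb → g ∈ Q := fun {g} hg => by
    rw [← L.mapQ] at hg
    obtain ⟨y, hy, e⟩ := hg
    exact hπinj e ▸ hy
  have h2 : ∀ g ∈ blockStab h hl, ∀ k : ℕ, g ^ 2 ^ k = 1 → g ∈ Q := fun g hg k hk =>
    hback (L.data.mem_of_two (mem_map_of_mem π hg) (k := k) (by rw [← map_pow, hk, map_one]))
  refine ⟨Q, K, s, r, L.set', ⟨Qb, L⟩, L.cyc, hZ, L.leQ, L.leK, hbig, hcard, h2, fun g k hk => ?_, ?_⟩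
  · obtain ⟨c, hc⟩ := L.data.exists_conj_le (P := zpowers (π g)) (by
      rintro ⟨_, i, rfl⟩
      refine ⟨k, Subtype.ext ?_⟩
      show (π g ^ i) ^ (2 ^ k) = 1
      rw [← zpow_natCast, zpow_comm, zpow_natCast, ← map_pow, hk, map_one, one_zpow])
    obtain ⟨c, rfl⟩ := QuotientGroup.mk'_surjective (center X) c
    refine ⟨c, hback ?_⟩
    rw [map_mul, map_mul, map_inv]
    exact hc _ (mem_zpowers _)
  · let eX : X ≃* X ⧸ center X := MulEquiv.ofBijective π ⟨hπinj, QuotientGroup.mk'_surjective _⟩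
    have hcN : Nat.card (blockStab h hl) = Nat.card Q * Nat.card K := by
      rw [← Nat.card_prod]
      symm
      refine Nat.card_eq_of_bijective
        (fun p : Q × K => (⟨p.1 * p.2, mul_mem (L.leQ p.1.2) (L.leK p.2.2)⟩ : blockStab h hl)) ⟨?_, ?_⟩
      · rintro ⟨⟨y, hy⟩, ⟨k, hk⟩⟩ ⟨⟨y', hy'⟩, ⟨k', hk'⟩⟩ e
        have e' : y * k = y' * k' := congrArg Subtype.val e
        have e2 : y'⁻¹ * y = k' * k⁻¹ := by
          rw [inv_mul_eq_iff_eq_mul, ← mul_assoc, ← e', mul_inv_cancel_right]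
        obtain ⟨j, hj⟩ := L.data.two ⟨π (y'⁻¹ * y), L.mapQ ▸ mem_map_of_mem π (mul_mem (inv_mem hy') hy)⟩
        have h1 : (y'⁻¹ * y) ^ 2 ^ j = 1 := hπinj (by rw [map_pow, map_one]; exact congrArg Subtype.val hj)
        have h3 := eq_one_two_odd L.odd_K (show y'⁻¹ * y ∈ K by rw [e2]; exact mul_mem hk' (inv_mem hk)) h1
        have hyy : y = y' := (inv_mul_eq_one.1 h3).symm
        subst hyy
        have hkk : k = k' := mul_left_cancel e'
        subst hkk
        rfl
      · rintro ⟨g, hg⟩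
        rcases hbig g with ⟨y, hy, k, hk, rfl⟩ | ⟨y, hy, k, hk, q, hq, rfl⟩
        · exact ⟨⟨⟨y, hy⟩, ⟨k, hk⟩⟩, rfl⟩
        · exfalso
          refine h.x_notMem hl ?_
          have := mul_mem (mul_mem (inv_mem (mul_mem (L.leQ hy) (L.leK hk))) hg) (inv_mem (L.leQ hq))
          rwa [show (y * k)⁻¹ * (y * k * x * q) * q⁻¹ = x by group] at this
    have hQQ : Nat.card Qb = Nat.card Q := by
      rw [← L.mapQ]; exact (Nat.card_congr (Q.equivMapOfInjective π hπinj).toEquiv).symm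
    rw [Nat.card_congr eX.toEquiv, card_eq_card_quotient_mul_card_subgroup N, L.data.card_points, hQQ, hN,
      ← Nat.card_congr ((blockStab h hl).equivMapOfInjective π hπinj).toEquiv, hcN, mul_assoc]

namespace Shape

variable {h hl} {Q K : Subgroup X} {s r : X} (S : Shape h hl Q K s r)
include S

theorem mem_K {g : X} (hg : g ∈ blockStab h hl) (hx : x * g * x ∈ blockStab h hl) : g ∈ K := by
  rcases S.big g with ⟨y, hy, k, hk, rfl⟩ | ⟨y, hy, k, hk, q, hq, rfl⟩
  · have hk2 : x * k * x ∈ blockStab h hl := S.set'.inv k hk ▸ S.leK (inv_mem hk)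
    have hyx : x * y * x ∈ blockStab h hl := by
      have := mul_mem hx (inv_mem hk2)
      rwa [show x * (y * k) * x * (x * k * x)⁻¹ = x * y * x by
        simp only [mul_inv_rev, S.set'.t_inv]
        calc x * (y * k) * x * (x * (k⁻¹ * x)) = x * y * k * (x * x) * k⁻¹ * x := by simp only [mul_assoc]
          _ = x * y * x := by rw [S.set'.t_sq, mul_one, mul_inv_cancel_right]] at this
    have hy4 : y ^ 2 ^ 2 = 1 := by
      rw [show (2 : ℕ) ^ 2 = 2 * 2 from rfl, pow_mul, pow_two y, pow_two]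
      exact S.set'.e_sq _ (S.set'.q_sq y hy)
    have hxy4 : (x * y * x) ^ 2 ^ 2 = 1 := by
      rw [show x * y * x = x * y * x⁻¹ by rw [S.set'.t_inv], conj_pow, hy4, mul_one, mul_inv_cancel]
    obtain ⟨hy1, -⟩ := S.set'.uniq y hy 1 (one_mem K) (by rw [mul_one]; exact S.two_mem _ hyx 2 hxy4)
    rw [hy1, one_mul]
    exact hk
  · exfalso
    refine h.x_notMem hl ?_
    have := mul_mem (mul_mem (inv_mem (mul_mem (S.leQ hy) (S.leK hk))) hg) (inv_mem (S.leQ hq))
    rwa [show (y * k)⁻¹ * (y * k * x * q) * q⁻¹ = x by group] at this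

theorem two_le : 4 ≤ Nat.card (block h hl) := h.two_le_block hl

/-- `Q = E`: two-elements square to one. -/
theorem sq_eq_one (hq : Nat.card Q = Nat.card (block h hl)) {g : X} {k : ℕ} (hk : g ^ 2 ^ k = 1) :
    g * g = 1 := by
  obtain ⟨c, hc⟩ := S.conj_two g k hk
  have h1 := S.set'.e_sq _ ((eq_of_le_of_card_ge S.set'.le hq.le).symm ▸ hc)
  have h2 := congrArg (fun u => c * u * c⁻¹) h1
  simpa [mul_assoc] using h2

theorem card_block : ∃ n, Nat.card (block h hl) = 2 ^ n := by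
  haveI : Fact (Nat.Prime 2) := ⟨Nat.prime_two⟩
  refine IsPGroup.iff_card.1 ?_
  rintro ⟨e, he⟩
  exact ⟨1, Subtype.ext (by show e ^ 2 ^ 1 = 1; rw [pow_one, pow_two]; exact S.set'.e_sq e he)⟩

/-- `Q = E`: three divides the order. -/
theorem three_dvd (hq : Nat.card Q = Nat.card (block h hl)) : 3 ∣ Nat.card X := by
  obtain ⟨n, hn⟩ := S.card_block
  have hK := S.set'.card_E
  rw [S.card_X, hq, hn]
  rw [hn] at hK
  have h3 : 2 ^ n % 3 = 1 ∨ 2 ^ n % 3 = 2 := by
    rcases Nat.even_or_odd' n with ⟨j, rfl | rfl⟩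
    · left; rw [pow_mul, Nat.pow_mod]; norm_num
    · right; rw [pow_succ, pow_mul, Nat.mul_mod, Nat.pow_mod]; norm_num
  rcases h3 with h3 | h3
  · exact Dvd.dvd.mul_left (show 3 ∣ Nat.card K by omega) _
  · exact ((show 3 ∣ 2 ^ n + 1 by omega).mul_right _).mul_right _

/-- `|Q| = |E|²`: `r` is not in `E`. -/
theorem r_notMem (hq : Nat.card Q = Nat.card (block h hl) ^ 2) : r ∉ block h hl := fun hr => by
  have h4 := S.two_le
  rw [S.set'.eq_E hr (h.gen_block hl), pow_two] at hq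
  nlinarith

/-- `|Q| = |E|²`: three does not divide the order. -/
theorem three_not_dvd (hq : Nat.card Q = Nat.card (block h hl) ^ 2) : ¬ 3 ∣ Nat.card X := by
  haveI : Fact (Nat.Prime 3) := ⟨Nat.prime_three⟩
  obtain ⟨n, hn⟩ := S.card_block
  have hK := S.set'.card_E
  have hK3 : ¬ 3 ∣ Nat.card K := by
    intro h3
    obtain ⟨⟨ω, hω⟩, hωo⟩ := exists_prime_orderOf_dvd_card' 3 h3
    refine S.set'.no_three (S.r_notMem hq) hω (fun e => ?_) ?_
    · rw [orderOf_mk, e, orderOf_one] at hωo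
      exact absurd hωo (by norm_num)
    · have hp := pow_orderOf_eq_one (⟨ω, hω⟩ : K)
      rw [hωo] at hp
      have hp' : ω ^ 3 = 1 := congrArg Subtype.val hp
      rwa [pow_succ, pow_two] at hp'
  rw [S.card_X, hq, hn]
  rw [hn] at hK
  intro h3
  rcases (Nat.prime_three.dvd_mul.1 h3) with h3 | h3
  · rcases (Nat.prime_three.dvd_mul.1 h3) with h3 | h3
    · have : (2 ^ n) ^ 2 % 3 = 1 := by rw [← pow_mul, mul_comm, pow_mul, Nat.pow_mod]; norm_num
      omega
    · exact absurd (Nat.prime_three.dvd_of_dvd_pow (Nat.prime_three.dvd_of_dvd_pow h3)) (by norm_num)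
  · exact hK3 h3

end Shape

end Reduced

end CfsgLib.RootInvol.OddPartner
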