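import Cfsg.Agent.Lib.RootSub.OddPartner.Embed
import Cfsg.Agent.Lib.RootSub.OddPartner.Type
import Mathlib.GroupTheory.Transfer

/-!
# The two-core of `⟨E_d, x⟩` in the case `Q = E`

A Sylow two-subgroup is `E(d)` times the central two-core, hence abelian; the group is generated by one
class containing a line, so the transfer into it is trivial and the two-core is `1`.
-/

set_option autoImplicit false
set_option linter.style.haveILetI false
set_option linter.unusedSectionVars false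

namespace CfsgLib.RootInvol.OddPartner

open CfsgLib.RootInvol.OddTr Subgroup CfsgLib.Invol

universe u

variable {G : Type u} [Group G] {D : Set G}

namespace Rooted

variable [Finite G] (R : Rooted D)
include R

/-- Every two-element of the quotient squares to one. -/
def SmallPair (_R : Rooted D) (d x : G) : Prop :=
  ∀ g : genGroup D d x ⧸ Cfsg.pCore 2 (genGroup D d x), ∀ k : ℕ, g ^ 2 ^ k = 1 → g * g = 1

theorem sylow_comm (hC : CfsgLib.SECrit.CritThm.{u}) {d x : G} (hd : d ∈ D) (hx : x ∈ D)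
    (hnc : ¬ Commute d x) (hsm : R.SmallPair d x) :
    ∃ P : Sylow 2 (genGroup D d x), Cfsg.pCore 2 (genGroup D d x) ≤ (P : Subgroup (genGroup D d x)) ∧
      ∀ a ∈ (P : Subgroup (genGroup D d x)), ∀ b ∈ (P : Subgroup (genGroup D d x)), Commute a b := by
  haveI : Fact (Nat.Prime 2) := ⟨Nat.prime_two⟩
  set S := seed_sameClass R.ot hd hx hnc
  have hl := R.not_noLine hd hx hnc
  obtain ⟨Q, K, s, r, Sh⟩ := S.reduced.exists_shape hl hC
  set X := genGroup D d x
  set O := Cfsg.pCore 2 X with hO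
  set π := QuotientGroup.mk' O
  set E0 := (Cfsg.sameCommutingSubgroup D d).subgroupOf X with hE0
  have hEO : ∀ a ∈ E0 ⊔ O, ∀ b ∈ E0 ⊔ O, Commute a b := by
    have h1 : E0 ⊔ O = closure ((E0 : Set X) ∪ O) := by rw [Subgroup.closure_union, closure_eq, closure_eq]
    intro a ha b hb
    rw [h1] at ha hb
    refine commute_of_mem_closure_centre (fun q hq => ?_) hb
    refine (commute_of_mem_closure_centre (fun p hp => ?_) ha).symm
    rcases hq with hq | hq
    · rcases hp with hp | hp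
      · exact Subtype.ext (commute_sameSubgroup₂ hd hq hp).eq
      · exact (R.pCore_central hd hx hnc hp q).symm
    · exact R.pCore_central hd hx hnc hq p
  have hP : IsPGroup 2 (E0 ⊔ O : Subgroup X) := by
    refine IsPGroup.to_sup_of_normal_right ?_ (CfsgLib.Coprime.pCore_isPGroup (G := X) 2)
    rintro ⟨e, he⟩
    exact ⟨1, Subtype.ext (Subtype.ext (by
      show (e : G) ^ 2 ^ 1 = 1; rw [pow_one, pow_two]; exact sameSubgroup_sq R.ot.1 hd he))⟩
  obtain ⟨P, hPle⟩ := hP.exists_le_sylow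
  refine ⟨P, le_sup_right.trans hPle, ?_⟩
  suffices h : (P : Subgroup X) ≤ E0 ⊔ O by exact fun a ha b hb => hEO a (h ha) b (h hb)
  intro g hg
  have hsq : ∀ a ∈ (P : Subgroup X), π a * π a = 1 := fun a ha => by
    obtain ⟨k, hk⟩ := P.2 ⟨a, ha⟩
    exact hsm (π a) k (by rw [← map_pow, show a ^ 2 ^ k = 1 from congrArg Subtype.val hk, map_one])
  have hdP : (⟨d, S.memd⟩ : X) ∈ (P : Subgroup X) :=
    hPle (mem_sup_left (subset_closure (self_mem_sameClass hd)))
  have hc : Commute (π g) (π ⟨d, S.memd⟩) := by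
    have h1 := hsq _ (mul_mem hg hdP)
    rw [map_mul] at h1
    have h2 := hsq g hg
    have h3 := hsq _ hdP
    calc π g * π ⟨d, S.memd⟩ = (π g * π ⟨d, S.memd⟩)⁻¹ := eq_inv_of_mul_eq_one_left h1
      _ = π ⟨d, S.memd⟩ * π g := by
        rw [mul_inv_rev, inv_eq_of_mul_eq_one_left h3, inv_eq_of_mul_eq_one_left h2]
  have hM : π g ∈ Reduced.blockStab S.reduced hl := by
    rw [Reduced.mem_blockStab, hc.eq, mul_inv_cancel_right]
  obtain ⟨k, hk⟩ := P.2 ⟨g, hg⟩
  have hgQ := Sh.two_mem _ hM k (by rw [← map_pow, show g ^ 2 ^ k = 1 from congrArg Subtype.val hk, map_one])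
  have hgE : π g ∈ Reduced.block S.reduced hl := by
    rcases Sh.cardQ with hq | hq
    · exact (eq_of_le_of_card_ge Sh.set'.le hq.le).symm ▸ hgQ
    · exact Sh.set'.q_invol _ hgQ (hsq g hg)
  rcases hgE with h1 | ⟨⟨j, hj⟩, hjc⟩
  · exact mem_sup_right ((QuotientGroup.eq_one_iff g).1 h1)
  · have hj' : π (j * ⟨d, S.memd⟩ * j⁻¹) = π g := hj
    have h2 := S.reflect (g := 1) (k := j) (by
      rw [one_mul, inv_one, mul_one]
      show Commute (π ⟨d, S.memd⟩) (π (j * ⟨d, S.memd⟩ * j⁻¹))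
      rw [hj']
      exact hc.symm)
    simp only [OneMemClass.coe_one, one_mul, inv_one, mul_one] at h2
    have hE : j * ⟨d, S.memd⟩ * j⁻¹ ∈ E0 := subset_closure (mem_sameClass_iff.2
      ⟨S.conj_mem_D j, same_conj_gen R.ot hd (R.lined_mem hd) hx hnc j.2 h2⟩)
    have : (j * ⟨d, S.memd⟩ * j⁻¹)⁻¹ * g ∈ O :=
      (QuotientGroup.eq_one_iff _).1 (show π _ = 1 by rw [map_mul, map_inv, hj', inv_mul_cancel])
    rw [show g = j * ⟨d, S.memd⟩ * j⁻¹ * ((j * ⟨d, S.memd⟩ * j⁻¹)⁻¹ * g) by group]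
    exact mul_mem (mem_sup_left hE) (mem_sup_right this)

theorem pCore_eq_bot (hC : CfsgLib.SECrit.CritThm.{u}) {d x : G} (hd : d ∈ D) (hx : x ∈ D)
    (hnc : ¬ Commute d x) (hsm : R.SmallPair d x) : Cfsg.pCore 2 (genGroup D d x) = ⊥ := by
  haveI : Fact (Nat.Prime 2) := ⟨Nat.prime_two⟩
  set S := seed_sameClass R.ot hd hx hnc
  set X := genGroup D d x
  obtain ⟨P, hOP, hcomm⟩ := R.sylow_comm hC hd hx hnc hsm
  letI : CommGroup (P : Subgroup X) :=
    { (inferInstance : Group (P : Subgroup X)) with mul_comm := fun a b => Subtype.ext (hcomm a a.2 b b.2).eq }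
  set V : X →* (P : Subgroup X) := MonoidHom.transfer (MonoidHom.id (P : Subgroup X))
  set d0 : X := ⟨d, S.memd⟩
  have hconj : ∀ g a : X, V (g * a * g⁻¹) = V a := fun g a => by
    rw [map_mul, map_mul, map_inv, mul_comm (V g), mul_inv_cancel_right]
  obtain ⟨l, hl', -, hc, hp⟩ := R.lined_mem hd
  have hlE : l ∈ Cfsg.sameCommutingClass D d := mem_sameClass_iff.2 ⟨hl', same_of_line R.ot hd hl' hp hc⟩
  have hpE : d * l ∈ Cfsg.sameCommutingClass D d := mem_sameClass_iff.2 ⟨hp, same_of_line' R.ot hd hl' hp hc⟩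
  have hVA : ∀ a : X, (a : G) ∈ Cfsg.sameCommutingClass D d → V a = V d0 := by
    intro a ha
    obtain ⟨g, hg, hge⟩ := S.exists_conj_A ha
    rw [show a = (⟨g, hg⟩ : X) * d0 * (⟨g, hg⟩ : X)⁻¹ from Subtype.ext hge.symm, hconj]
  have hd1 : V d0 = 1 := by
    have e1 := hVA ⟨l, sameClass_mem_genGroup hlE⟩ hlE
    have e2 := hVA ⟨d * l, sameClass_mem_genGroup hpE⟩ hpE
    rw [show (⟨d * l, sameClass_mem_genGroup hpE⟩ : X) = d0 * ⟨l, sameClass_mem_genGroup hlE⟩ from rfl,
      map_mul, e1] at e2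
    simpa using e2
  have hker : V.ker = ⊤ := by
    have h0 : closure {c : X | (c : G) ∈ Cfsg.sameCommutingClass D d ∪ {x}} = ⊤ :=
      closure_closure_coe_preimage
    refine eq_top_iff.2 (h0 ▸ (closure_le _).2 ?_)
    rintro c (hc | hc)
    · exact MonoidHom.mem_ker.2 ((hVA c hc).trans hd1)
    · obtain ⟨g, hg, hge⟩ := S.exists_conj_x
      refine MonoidHom.mem_ker.2 ?_
      rw [show c = (⟨g, hg⟩ : X) * d0 * (⟨g, hg⟩ : X)⁻¹ from
        Subtype.ext ((Set.mem_singleton_iff.1 hc).trans hge.symm), hconj, hd1]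
  refine (Subgroup.eq_bot_iff_forall _).2 fun z hz => ?_
  have hkey : ∀ (k : ℕ) (g₀ : X), g₀⁻¹ * z ^ k * g₀ ∈ (P : Subgroup X) → g₀⁻¹ * z ^ k * g₀ = z ^ k := by
    intro k g₀ _
    have := (R.pCore_central hd hx hnc (pow_mem hz k) g₀).eq
    rw [mul_assoc, this, inv_mul_cancel_left]
  have h1 : V z = 1 := MonoidHom.mem_ker.1 (hker ▸ mem_top z)
  rw [MonoidHom.transfer_eq_pow (MonoidHom.id (P : Subgroup X)) z hkey] at h1
  have hzi : z ^ (P : Subgroup X).index = 1 := congrArg Subtype.val h1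
  obtain ⟨j, hj⟩ := (CfsgLib.Coprime.pCore_isPGroup (G := X) 2) ⟨z, hz⟩
  have hzj : z ^ 2 ^ j = 1 := congrArg Subtype.val hj
  have hodd : Odd (P : Subgroup X).index := by
    rw [← Nat.not_even_iff_odd, even_iff_two_dvd]
    exact P.not_dvd_index
  exact eq_one_of_odd_of_pow_two (hodd.of_dvd_nat (orderOf_dvd_of_pow_eq_one hzi)) hzj

/-- The second statement for a small pair. -/
theorem psl_of_small (hC : CfsgLib.SECrit.CritThm.{u}) {d x : G} (hd : d ∈ D) (hx : x ∈ D)
    (hnc : ¬ Commute d x) (hsm : R.SmallPair d x) :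
    ∃ (F : Type) (_ : Field F) (_ : Fintype F),
      Fintype.card F = Nat.card (Cfsg.sameCommutingSubgroup D d) ∧
      Nonempty (genGroup D d x ≃* Matrix.ProjectiveSpecialLinearGroup (Fin 2) F) := by
  haveI : Fact (Nat.Prime 2) := ⟨Nat.prime_two⟩
  set S := seed_sameClass R.ot hd hx hnc
  have hl := R.not_noLine hd hx hnc
  obtain ⟨Q, K, s, r, Sh⟩ := S.reduced.exists_shape hl hC
  have hbot := R.pCore_eq_bot hC hd hx hnc hsm
  set π := QuotientGroup.mk' (Cfsg.pCore 2 (genGroup D d x))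
  have hq : Nat.card Q = Nat.card (Reduced.block S.reduced hl) := by
    rcases Sh.cardQ with hq | hq
    · exact hq
    · exfalso
      have hr2 : r * r * (r * r) = 1 := Sh.set'.e_sq _ (Sh.set'.q_sq r Sh.set'.r_mem)
      exact Sh.r_notMem hq (Sh.set'.q_invol r Sh.set'.r_mem (hsm r 2 (by
        rw [show (2 : ℕ) ^ 2 = 2 * 2 from rfl, pow_mul, pow_two r, pow_two]; exact hr2)))
  obtain ⟨Qb, L⟩ := Sh.lifted
  obtain ⟨F, i1, i2, -, hcard, ⟨e⟩⟩ := (S.reduced.recognise_lifted hl L).1 hq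
  refine ⟨F, i1, i2, ?_, ⟨((QuotientGroup.quotientBot (G := genGroup D d x)).symm.trans
    (QuotientGroup.quotientMulEquivOfEq hbot.symm)).trans e⟩⟩
  rw [hcard]
  -- the block is the image of `E(d)`
  have hinj : Function.Injective π :=
    (MonoidHom.ker_eq_bot_iff π).1 (by rw [QuotientGroup.ker_mk', hbot])
  have hmem : ∀ v : Cfsg.sameCommutingSubgroup D d, π ⟨v, sameSubgroup_le_genGroup v.2⟩ ∈
      Reduced.block S.reduced hl := by
    intro v
    rcases R.mk_sameSubgroup hd hx hnc (v := ⟨v, sameSubgroup_le_genGroup v.2⟩) v.2 with h1 | ⟨c, hc, h1⟩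
    · exact Or.inl h1
    · rw [h1]
      exact Or.inr ⟨S.reduced.sub ⟨c, hc, rfl⟩,
        (show Commute (⟨d, S.memd⟩ : genGroup D d x) c from Subtype.ext (commute_sameClass hd hc).eq).map π⟩
  symm
  refine Nat.card_eq_of_bijective (fun v => (⟨_, hmem v⟩ : Reduced.block S.reduced hl))
    ⟨fun a b e => Subtype.ext (congrArg (fun z : genGroup D d x => (z : G)) (hinj (congrArg Subtype.val e))), ?_⟩
  rintro ⟨y, hy⟩
  rcases hy with rfl | ⟨⟨j, rfl⟩, hjc⟩
  · exact ⟨1, Subtype.ext (map_one π)⟩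
  · have h2 := S.reflect (g := 1) (k := j) (by rw [one_mul, inv_one, mul_one]; exact hjc)
    simp only [OneMemClass.coe_one, one_mul, inv_one, mul_one] at h2
    exact ⟨⟨_, subset_closure (mem_sameClass_iff.2 ⟨S.conj_mem_D j,
      same_conj_gen R.ot hd (R.lined_mem hd) hx hnc j.2 h2⟩)⟩, rfl⟩

end Rooted

end CfsgLib.RootInvol.OddPartner
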