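import Cfsg.Agent.Lib.RootSub.OddPartner.Blocks
import Cfsg.Agent.Lib.Invol.SECriterion.Consumers.Statement
import Cfsg.Agent.Lib.Invol.SECriterion.Count
import Cfsg.Agent.Lib.Bender.Defs

/-!
# The lined case: the block stabiliser modulo the centre is strongly embedded
-/

set_option autoImplicit false
set_option linter.style.haveILetI false
set_option linter.unusedSectionVars false

namespace CfsgLib.RootInvol.OddPartner

open CfsgLib.RootInvol.OddTr Subgroup CfsgLib.Invol

universe u

namespace Reduced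

variable {X : Type u} [Group X] [Finite X] {D A : Set X} {d x : X} (h : Reduced D A d x) (hl : ¬ NoLine D)
include h hl

/-- The stabiliser of the block of `d`. -/
def blockStab : Subgroup X where
  carrier := {g | Commute d (g * d * g⁻¹)}
  one_mem' := by simp
  mul_mem' := by
    intro g k hg hk
    show Commute d (g * k * d * (g * k)⁻¹)
    rw [show g * k * d * (g * k)⁻¹ = g * (k * d * k⁻¹) * g⁻¹ by group]
    exact h.clique hl h.d_mem (h.ot.1.conj_mem d h.d_mem g) (h.ot.1.conj_mem _ (h.ot.1.conj_mem d h.d_mem k) g)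
      hg ((commute_conj_iff g).2 hk)
  inv_mem' := by
    intro g hg
    have h1 := (commute_conj_iff g⁻¹).2 hg
    rw [show g⁻¹ * (g * d * g⁻¹) * g⁻¹⁻¹ = d by group] at h1
    exact h1.symm

theorem mem_blockStab {g : X} : g ∈ blockStab h hl ↔ Commute d (g * d * g⁻¹) := Iff.rfl

/-- The block of `d` and the identity. -/
def block : Subgroup X where
  carrier := {a | a = 1 ∨ a ∈ D ∧ Commute d a}
  one_mem' := Or.inl rfl
  mul_mem' := by
    intro a b ha hb
    rcases ha with rfl | ⟨ha, hda⟩
    · rwa [one_mul]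
    rcases hb with rfl | ⟨hb, hdb⟩
    · rw [mul_one]; exact Or.inr ⟨ha, hda⟩
    by_cases hab : a = b
    · exact Or.inl (by rw [hab]; exact mul_self h.ot.1 hb)
    · exact Or.inr ⟨h.prod_mem hl ha hb hab (h.clique hl ha h.d_mem hb hda.symm hdb), hda.mul_right hdb⟩
  inv_mem' := by
    intro a ha
    rcases ha with rfl | ⟨ha, hda⟩
    · exact Or.inl inv_one
    · exact Or.inr ⟨by rwa [inv_eq h.ot.1 ha], by rwa [inv_eq h.ot.1 ha]⟩

theorem mem_block {a : X} : a ∈ block h hl ↔ a = 1 ∨ a ∈ D ∧ Commute d a := Iff.rfl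

theorem blockStab_of_mem {a : X} (ha : a ∈ D) (hda : Commute d a) : a ∈ blockStab h hl := by
  rw [mem_blockStab, show a * d * a⁻¹ = d by rw [← hda.eq, mul_inv_cancel_right]]

theorem commute_of_mem_blockStab {a : X} (ha : a ∈ D) (hm : a ∈ blockStab h hl) : Commute d a := by
  rw [mem_blockStab, inv_eq h.ot.1 ha] at hm
  by_contra hc
  have hodd := (oddAdj_of_not_commute h.ot h.d_mem ha hc).2.2.2
  have h2 : (d * a) ^ 4 = 1 := by
    have e : (d * a) ^ 2 = d * (a * d * a) := by rw [pow_two]; simp only [mul_assoc]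
    rw [show (4 : ℕ) = 2 * 2 from rfl, pow_mul, e, hm.mul_pow, pow_two, pow_two, mul_self h.ot.1 h.d_mem,
      one_mul, show a * d * a * (a * d * a) = a * d * (a * a) * (d * a) by simp only [mul_assoc],
      mul_self h.ot.1 ha, mul_one, show a * d * (d * a) = a * (d * d) * a by simp only [mul_assoc],
      mul_self h.ot.1 h.d_mem, mul_one, mul_self h.ot.1 ha]
  obtain ⟨k, hk⟩ := hodd
  have h3 : orderOf (d * a) ∣ 2 ^ 2 := orderOf_dvd_of_pow_eq_one (by simpa using h2)
  have h4 : orderOf (d * a) = 1 := Nat.eq_one_of_dvd_coprimes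
    (Nat.Coprime.pow_right 2 (Nat.coprime_two_right.2 ⟨k, hk⟩)) dvd_rfl h3
  refine hc ?_
  rw [← inv_eq h.ot.1 ha, ← eq_inv_of_mul_eq_one_left (orderOf_eq_one_iff.1 h4)]

theorem x_notMem : x ∉ blockStab h hl := fun hm => h.odd (h.commute_of_mem_blockStab hl h.mem_x hm)

theorem center_le_blockStab : center X ≤ blockStab h hl := fun v hv => by
  rw [mem_blockStab, ← mem_center_iff.1 hv d, mul_inv_cancel_right]

theorem commute_of_map {a b : X} (ha : a ∈ D) (hb : b ∈ D)
    (hc : Commute (QuotientGroup.mk' (center X) a) (QuotientGroup.mk' (center X) b)) : Commute a b := by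
  by_contra hab
  have h2 : QuotientGroup.mk' (center X) (a * b) ^ 2 = 1 := by
    rw [map_mul, hc.mul_pow, ← map_pow, ← map_pow, pow_two, pow_two, mul_self h.ot.1 ha,
      mul_self h.ot.1 hb, map_one, one_mul]
  have h1 : QuotientGroup.mk' (center X) (a * b) = 1 := eq_one_of_odd_of_pow_two (k := 1)
    ((oddAdj_of_not_commute h.ot ha hb hab).2.2.2.of_dvd_nat (orderOf_map_dvd _ _)) (by simpa using h2)
  exact hab (h.eq_of_mul_central hl ha hb ((QuotientGroup.eq_one_iff _).1 h1) ▸ Commute.refl a)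

theorem map_injOn {a b : X} (ha : a ∈ D) (hb : b ∈ D)
    (he : QuotientGroup.mk' (center X) a = QuotientGroup.mk' (center X) b) : a = b := by
  refine h.eq_of_mul_central hl ha hb ?_
  rw [← QuotientGroup.eq_one_iff]
  show QuotientGroup.mk' (center X) (a * b) = 1
  rw [map_mul, he, ← map_mul, mul_self h.ot.1 hb, map_one]

theorem map_ne_one {a : X} (ha : a ∈ D) : QuotientGroup.mk' (center X) a ≠ 1 := fun e => by
  refine invol_ne_one (h.ot.1.orderOf_eq a ha) (eq_one_of_central h.core (fun g => ?_) (mul_self h.ot.1 ha))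
  exact (mem_center_iff.1 ((QuotientGroup.eq_one_iff a).1 e) g).symm

theorem orderOf_map {a : X} (ha : a ∈ D) : orderOf (QuotientGroup.mk' (center X) a) = 2 :=
  invol_iff.2 ⟨by rw [← map_mul, mul_self h.ot.1 ha, map_one], h.map_ne_one hl ha⟩

theorem mem_map_iff {g : X} :
    QuotientGroup.mk' (center X) g ∈ (blockStab h hl).map (QuotientGroup.mk' (center X)) ↔ g ∈ blockStab h hl := by
  rw [← mem_comap, comap_map_eq_self (by rw [QuotientGroup.ker_mk']; exact h.center_le_blockStab hl)]

theorem odd_card : Odd (Nat.card D) := by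
  classical
  haveI : Fact (Nat.Prime 2) := ⟨Nat.prime_two⟩
  have hdD := h.d_mem
  have hdd := mul_self h.ot.1 hdD
  letI act : MulAction (zpowers d) D :=
    { smul := fun g a => ⟨(g : X) * a.1 * (g : X)⁻¹, h.ot.1.conj_mem a.1 a.2 g⟩
      one_smul := fun a => Subtype.ext (show ((1 : zpowers d) : X) * a.1 * ((1 : zpowers d) : X)⁻¹ = a.1 by simp)
      mul_smul := fun g k a => Subtype.ext (show ((g * k : zpowers d) : X) * a.1 * ((g * k : zpowers d) : X)⁻¹ =
        (g : X) * ((k : X) * a.1 * (k : X)⁻¹) * (g : X)⁻¹ by simp [mul_assoc]) }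
  have hp : IsPGroup 2 (zpowers d) :=
    IsPGroup.of_card (n := 1) (by rw [Nat.card_zpowers, h.ot.1.orderOf_eq d hdD, pow_one])
  have hmod := hp.card_modEq_card_fixedPoints D
  have hfix : Nat.card (MulAction.fixedPoints (zpowers d) D) + 1 = Nat.card (block h hl) := by
    rw [← Finite.card_option]
    refine Nat.card_congr (Equiv.trans (Equiv.optionCongr ?_) (Equiv.optionSubtypeNe (1 : block h hl)))
    refine
      { toFun := fun a => ⟨⟨a.1.1, Or.inr ⟨a.1.2, ?_⟩⟩, fun e => invol_ne_one (h.ot.1.orderOf_eq _ a.1.2)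
          (congrArg Subtype.val e)⟩
        invFun := fun a => ⟨⟨a.1.1, ((a.1.2).resolve_left fun e => a.2 (Subtype.ext e)).1⟩, fun g => Subtype.ext ?_⟩
        left_inv := fun a => rfl
        right_inv := fun a => rfl }
    · have h1 : d * a.1.1 * d⁻¹ = a.1.1 := congrArg Subtype.val (a.2 ⟨d, mem_zpowers d⟩)
      exact mul_inv_eq_iff_eq_mul.1 h1
    · obtain ⟨i, hi⟩ := g.2
      show (g : X) * a.1.1 * (g : X)⁻¹ = a.1.1
      rw [← hi, ((((a.1.2).resolve_left fun e => a.2 (Subtype.ext e)).2).zpow_left i).eq, mul_inv_cancel_right]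
  have h2 : IsPGroup 2 (block h hl) := by
    rintro ⟨a, ha⟩
    refine ⟨1, Subtype.ext ?_⟩
    show a ^ 2 ^ 1 = 1
    rcases ha with rfl | ⟨ha, -⟩
    · simp
    · rw [pow_one, pow_two, mul_self h.ot.1 ha]
  obtain ⟨n, hn⟩ := IsPGroup.iff_card.1 h2
  have hne : n ≠ 0 := fun h0 => by
    rw [h0, pow_zero] at hn
    exact invol_ne_one (h.ot.1.orderOf_eq d hdD) (mem_bot.1 ((card_eq_one.1 hn) ▸ (Or.inr ⟨hdD, Commute.refl d⟩ :
      d ∈ block h hl)))
  obtain ⟨j, rfl⟩ := Nat.exists_eq_succ_of_ne_zero hne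
  rw [pow_succ] at hn
  rw [Nat.odd_iff, show Nat.card D % 2 = Nat.card (MulAction.fixedPoints (zpowers d) D) % 2 from hmod]
  omega

/-- The criterion applies modulo the centre. -/
theorem crit : CfsgLib.SECrit.Crit ((blockStab h hl).map (QuotientGroup.mk' (center X)))
    (QuotientGroup.mk' (center X) d) where
  invol := h.orderOf_map hl h.d_mem
  mem := mem_map_of_mem _ (h.blockStab_of_mem hl h.d_mem (Commute.refl d))
  sylow := by
    rw [← CfsgLib.SECrit.card_isConj_eq_index]
    set π := QuotientGroup.mk' (center X) with hπ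
    have hb : Nat.card D = Nat.card {y : X ⧸ center X // IsConj (π d) y} := by
      refine Nat.card_eq_of_bijective (fun a => ⟨π a.1, ?_⟩)
        ⟨fun a b e => Subtype.ext (h.map_injOn hl a.2 b.2 (congrArg Subtype.val e)), fun ⟨y, hy⟩ => ?_⟩
      · obtain ⟨g, hg⟩ := h.cls d h.d_mem a.1 a.2
        exact isConj_iff.2 ⟨π g, by rw [← map_inv, ← map_mul, ← map_mul, hg]⟩
      · obtain ⟨g, rfl⟩ := isConj_iff.1 hy
        obtain ⟨g, rfl⟩ := QuotientGroup.mk'_surjective (center X) g
        exact ⟨⟨g * d * g⁻¹, h.ot.1.conj_mem d h.d_mem g⟩, Subtype.ext (by simp [hπ])⟩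
    rw [← hb]
    exact h.odd_card hl
  fuse := fun g hg => by
    obtain ⟨g, rfl⟩ := QuotientGroup.mk'_surjective (center X) g
    rw [← map_inv, ← map_mul, ← map_mul, h.mem_map_iff hl] at hg
    rw [h.mem_map_iff hl, mem_blockStab]
    exact h.commute_of_mem_blockStab hl (h.ot.1.conj_mem d h.d_mem g) hg
  prod := fun g hc hne => by
    obtain ⟨g, rfl⟩ := QuotientGroup.mk'_surjective (center X) g
    rw [← map_inv, ← map_mul, ← map_mul] at hc hne ⊢
    set e := g * d * g⁻¹
    have he : e ∈ D := h.ot.1.conj_mem d h.d_mem g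
    have hde : Commute d e := h.commute_of_map hl h.d_mem he hc
    have hne' : d ≠ e := fun e1 => hne (congrArg (QuotientGroup.mk' (center X)) e1.symm)
    have hc' := h.prod_mem hl h.d_mem he hne' hde
    have hdc : Commute d (d * e) := (Commute.refl d).mul_right hde
    intro k hk
    obtain ⟨k, rfl⟩ := QuotientGroup.mk'_surjective (center X) k
    rw [mem_centralizer_singleton_iff, ← map_mul] at hk
    have h1 : k * (d * e) * k⁻¹ = d * e := by
      refine h.map_injOn hl (h.ot.1.conj_mem _ hc' k) hc' ?_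
      rw [map_mul, map_mul _ k, map_inv, hk, mul_inv_cancel_right]
    rw [h.mem_map_iff hl, mem_blockStab]
    have h2 := (commute_conj_iff k).2 hdc
    rw [h1] at h2
    exact h.clique hl h.d_mem hc' (h.ot.1.conj_mem d h.d_mem k) hdc h2.symm

theorem map_proper : (blockStab h hl).map (QuotientGroup.mk' (center X)) ≠ ⊤ := fun e =>
  h.x_notMem hl ((h.mem_map_iff hl).1 (e ▸ mem_top _))

theorem map_core : ((blockStab h hl).map (QuotientGroup.mk' (center X))).normalCore = ⊥ := by
  refine (eq_bot_iff_forall _).2 fun v hv => ?_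
  obtain ⟨v, rfl⟩ := QuotientGroup.mk'_surjective (center X) v
  refine (QuotientGroup.eq_one_iff v).2 (h.mem_center hl ?_)
  haveI := (h.split hl).ker_normal
  refine (h.split hl).mem_ker_iff.2 fun c hc => ?_
  obtain ⟨g, rfl⟩ := h.cls d h.d_mem c hc
  have h1 := hv (QuotientGroup.mk' (center X) g⁻¹)
  rw [← map_inv, ← map_mul, ← map_mul, h.mem_map_iff hl, inv_inv, mem_blockStab] at h1
  have h2 := (commute_conj_iff g).2 h1
  rwa [show g * (g⁻¹ * v * g * d * (g⁻¹ * v * g)⁻¹) * g⁻¹ = v * (g * d * g⁻¹) * v⁻¹ by group] at h2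

theorem map_gen : normalClosure ({QuotientGroup.mk' (center X) d} : Set (X ⧸ center X)) = ⊤ := by
  refine eq_top_iff.2 fun g _ => ?_
  obtain ⟨g, rfl⟩ := QuotientGroup.mk'_surjective (center X) g
  have hle : closure D ≤ (normalClosure ({QuotientGroup.mk' (center X) d} : Set (X ⧸ center X))).comap
      (QuotientGroup.mk' (center X)) := (closure_le _).2 fun a ha => by
    obtain ⟨k, rfl⟩ := h.cls d h.d_mem a ha
    show QuotientGroup.mk' (center X) (k * d * k⁻¹) ∈ normalClosure ({QuotientGroup.mk' (center X) d} : Set (X ⧸ center X))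
    rw [map_mul, map_mul, map_inv]
    exact normalClosure_normal.conj_mem _ (subset_normalClosure (Set.mem_singleton _)) _
  exact hle (h.ot.1.generates ▸ mem_top g)

/-- **The stabiliser of a block is strongly embedded modulo the centre.** -/
theorem map_stronglyEmbedded (hC : CfsgLib.SECrit.CritThm.{u}) :
    Cfsg.IsStronglyEmbedded ((blockStab h hl).map (QuotientGroup.mk' (center X))) := by
  have hc := h.crit hl
  have hse := hC _ _ _ hc (h.map_proper hl) (h.map_core hl)
  have heven : Even (Nat.card ((blockStab h hl).map (QuotientGroup.mk' (center X)))) :=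
    even_iff_two_dvd.2 (hc.invol ▸ orderOf_dvd_natCard _ hc.mem)
  refine (stronglyEmbedded_iff (h.map_proper hl) heven).2 fun t ht hto g hg => ?_
  exact CfsgLib.SECrit.mem_of_subgroupOf hse (h.map_gen hl ▸ mem_top t) ht hto (h.map_gen hl ▸ mem_top g) hg

theorem map_hasPair : CfsgLib.Bender.HasPair (X ⧸ center X) := by
  obtain ⟨b, hb, hne, hc, -⟩ := h.lined_d hl
  exact ⟨QuotientGroup.mk' _ d, QuotientGroup.mk' _ b, h.orderOf_map hl h.d_mem, h.orderOf_map hl hb,
    fun e => hne (h.map_injOn hl h.d_mem hb e).symm, hc.map _⟩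

/-- The involutions of the block stabiliser are those of the block. -/
theorem invol_mem_map (hC : CfsgLib.SECrit.CritThm.{u}) {y : X ⧸ center X}
    (hy : y ∈ (blockStab h hl).map (QuotientGroup.mk' (center X))) (hyo : orderOf y = 2) :
    ∃ a ∈ D, Commute d a ∧ QuotientGroup.mk' (center X) a = y := by
  set π := QuotientGroup.mk' (center X)
  set N := (blockStab h hl).map π
  have hse := h.map_stronglyEmbedded hl hC
  have hfix := (stronglyEmbedded_iff (h.map_proper hl) hse.2.1).1 hse
  have hxo := h.orderOf_map hl h.mem_x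
  have hxN : π x ∉ N := fun e => h.x_notMem hl ((h.mem_map_iff hl).1 e)
  have hodd : Odd (orderOf (y * π x)) := by
    rw [← Nat.not_even_iff_odd]
    intro he
    have hco : orderOf ((y * π x) ^ (orderOf (y * π x) / 2)) = 2 := orderOf_pow_half he
    have hcy := commute_pow_half (invol_conj_mul hyo hxo) he
    have hcx := commute_pow_half (invol_conj_mul' hyo hxo) he
    set c := (y * π x) ^ (orderOf (y * π x) / 2)
    have hcN : c ∈ N := hfix y hy hyo c (by rw [hcy.eq, mul_inv_cancel_right]; exact hy)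
    exact hxN (hfix c hcN hco (π x) (by rw [← hcx.eq, mul_inv_cancel_right]; exact hcN))
  obtain ⟨g, hg⟩ := isConj_iff.1 (isConj_of_odd hyo hxo hodd)
  obtain ⟨g, rfl⟩ := QuotientGroup.mk'_surjective (center X) g
  refine ⟨g⁻¹ * x * g⁻¹⁻¹, h.ot.1.conj_mem x h.mem_x g⁻¹, ?_, ?_⟩
  · refine h.commute_of_mem_blockStab hl (h.ot.1.conj_mem x h.mem_x g⁻¹) ((h.mem_map_iff hl).1 ?_)
    rw [inv_inv, map_mul, map_mul, map_inv, ← hg,
      show (π g)⁻¹ * (π g * y * (π g)⁻¹) * π g = y by group]
    exact hy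
  · rw [map_mul, map_mul, map_inv, map_inv, ← hg]
    simp [mul_assoc, π]

end Reduced

end CfsgLib.RootInvol.OddPartner
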