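import Cfsg.Agent.Lib.RootSub.OddPartner.Same
import Cfsg.Agent.Lib.RootSub.OddPartner.Blocks
import Cfsg.Agent.Lib.RootSub.OddPartner.Frame

/-!
# Classes with the same commuting members in a group without two-core

An element of `E(d) ∩ E(z)`, `d` and `z` not commuting, fixes every class and is trivial.  Hence the
two-core of `⟨E_d, x⟩` is central, it separates the class of `d`, and `E_d ∪ {1}` is a group.
-/

set_option autoImplicit false
set_option linter.style.haveILetI false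

namespace CfsgLib.RootInvol.OddPartner

open CfsgLib.RootInvol.OddTr Subgroup CfsgLib.Invol

universe u

variable {G : Type u} [Group G] {D : Set G}

/-- A class of odd transpositions with a line in a group without two-core. -/
structure Rooted (D : Set G) : Prop where
  ot : Cfsg.IsOddTranspositionSet D
  cls : ∀ a ∈ D, ∀ b ∈ D, ∃ g : G, g * a * g⁻¹ = b
  core : Cfsg.pCore 2 G = ⊥
  lined : ∃ a ∈ D, Lined D a

theorem sameClass_conj (hD : Cfsg.IsRootInvolutionSet D) {d a : G} (ha : a ∈ Cfsg.sameCommutingClass D d)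
    (g : G) : g * a * g⁻¹ ∈ Cfsg.sameCommutingClass D (g * d * g⁻¹) :=
  mem_sameClass_iff.2 ⟨hD.conj_mem a ha.1 g, (mem_sameClass_iff.1 ha).2.conj hD g⟩

theorem sameSubgroup_conj (hD : Cfsg.IsRootInvolutionSet D) {d v : G}
    (hv : v ∈ Cfsg.sameCommutingSubgroup D d) (g : G) :
    g * v * g⁻¹ ∈ Cfsg.sameCommutingSubgroup D (g * d * g⁻¹) := by
  have : Cfsg.sameCommutingSubgroup D d ≤
      (Cfsg.sameCommutingSubgroup D (g * d * g⁻¹)).comap (MulAut.conj g).toMonoidHom :=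
    (closure_le _).2 fun a ha => subset_closure (sameClass_conj hD ha g)
  exact this hv

theorem sameClass_mem_genGroup {d x a : G} (ha : a ∈ Cfsg.sameCommutingClass D d) : a ∈ genGroup D d x :=
  subset_closure (Or.inl ha)

theorem sameSubgroup_le_genGroup {d x : G} : Cfsg.sameCommutingSubgroup D d ≤ genGroup D d x :=
  closure_mono Set.subset_union_left

theorem commute_pair {d a b : G} (hd : d ∈ D) (ha : a ∈ Cfsg.sameCommutingClass D d)
    (hb : b ∈ Cfsg.sameCommutingClass D d) : Commute a b :=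
  (same_iff ha hb.1).2 (commute_sameClass hd hb)

theorem commute_sameSubgroup {d f v : G} (hf : f ∈ D) (h : Commute d f)
    (hv : v ∈ Cfsg.sameCommutingSubgroup D d) : Commute v f :=
  (commute_of_mem_closure_centre (fun _ ha => ((same_iff ha hf).2 h).symm) hv).symm

theorem commute_sameSubgroup₂ {d v w : G} (hd : d ∈ D) (hv : v ∈ Cfsg.sameCommutingSubgroup D d)
    (hw : w ∈ Cfsg.sameCommutingSubgroup D d) : Commute v w :=
  commute_of_mem_closure_centre (fun _ ha => commute_sameSubgroup ha.1 (commute_sameClass hd ha) hv) hw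

theorem sameSubgroup_sq (hD : Cfsg.IsRootInvolutionSet D) {d v : G} (hd : d ∈ D)
    (hv : v ∈ Cfsg.sameCommutingSubgroup D d) : v * v = 1 := by
  induction hv using Subgroup.closure_induction with
  | mem a ha => exact mul_self hD ha.1
  | one => exact one_mul 1
  | mul a b ha hb h₁ h₂ => rw [(commute_sameSubgroup₂ hd hb ha).mul_mul_mul_comm, h₁, h₂, one_mul]
  | inv a _ h => rw [← mul_inv_rev, h, inv_one]

/-- The elements fixing every class. -/
def fixK (D : Set G) (hD : Cfsg.IsRootInvolutionSet D) : Subgroup G where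
  carrier := {g | ∀ m ∈ D, OddTr.Same D (g * m * g⁻¹) m}
  one_mem' m _ := by rw [one_mul, inv_one, mul_one]; rfl
  mul_mem' {g k} hg hk m hm := by
    have h1 := (hk m hm).conj hD g
    rw [show g * (k * m * k⁻¹) * g⁻¹ = g * k * m * (g * k)⁻¹ by group] at h1
    exact h1.trans (hg m hm)
  inv_mem' {g} hg m hm := by
    have h1 := hg _ (hD.conj_mem m hm g⁻¹)
    rw [show g * (g⁻¹ * m * g⁻¹⁻¹) * g⁻¹ = m by group] at h1
    exact h1.symm

theorem fixK_normal (hD : Cfsg.IsRootInvolutionSet D) : (fixK D hD).Normal :=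
  ⟨fun n hn g m hm => by
    have := (hn _ (hD.conj_mem m hm g⁻¹)).conj hD g
    rwa [show g * (n * (g⁻¹ * m * g⁻¹⁻¹) * n⁻¹) * g⁻¹ = g * n * g⁻¹ * m * (g * n * g⁻¹)⁻¹ by group,
      show g * (g⁻¹ * m * g⁻¹⁻¹) * g⁻¹ = m by group] at this⟩

theorem genGroup_exists_conj [Finite G] (hD : Cfsg.IsOddTranspositionSet D) {d x : G} (hd : d ∈ D) (hx : x ∈ D)
    (hnc : ¬ Commute d x) : ∃ k ∈ genGroup D d x, k * d * k⁻¹ = x :=
  (seed_sameClass hD hd hx hnc).exists_conj_x

namespace Rooted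

variable [Finite G] (R : Rooted D)
include R

theorem lined_mem {a : G} (ha : a ∈ D) : Lined D a := by
  obtain ⟨b, hb, hl⟩ := R.lined
  obtain ⟨g, rfl⟩ := R.cls b hb a ha
  exact lined_conj R.ot.1 hl g

theorem eq_one_of_commute {v : G} (hv : ∀ f ∈ D, Commute v f) (hv2 : v * v = 1) : v = 1 :=
  eq_one_of_central R.core
    (fun g => commute_of_mem_closure_centre hv (R.ot.1.generates ▸ mem_top g)) hv2

theorem exists_apart {d : G} (hd : d ∈ D) : ∃ x ∈ D, ¬ Commute d x := by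
  by_contra h
  push Not at h
  exact invol_ne_one (R.ot.1.orderOf_eq d hd) (R.eq_one_of_commute h (mul_self R.ot.1 hd))

/-- Members with the same commuting members are equal if their product fixes every class. -/
theorem eq_of_mul_mem_fixK {a b : G} (ha : a ∈ D) (hb : b ∈ D) (hab : OddTr.Same D a b)
    (hk : a * b ∈ fixK D R.ot.1) : a = b := by
  haveI : Fact (Nat.Prime 2) := ⟨Nat.prime_two⟩
  set K := fixK D R.ot.1 with hK
  haveI hKn : K.Normal := fixK_normal R.ot.1
  set S : Set G := {w | ∃ p q, p ∈ D ∧ q ∈ D ∧ OddTr.Same D a p ∧ OddTr.Same D a q ∧ w = p * q ∧ w ∈ K}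
  have hpq : ∀ {p q : G}, p ∈ D → q ∈ D → OddTr.Same D a p → OddTr.Same D a q → Commute p q :=
    fun {p q} hp hq h1 h2 =>
      (OddTr.Same.iff (h1.symm.trans h2) hq).2 (Commute.refl q)
  have hcomm : ∀ w ∈ S, ∀ w' ∈ S, Commute w w' ∧ w * w = 1 := by
    rintro _ ⟨p, q, hp, hq, sp, sq, rfl, -⟩ _ ⟨p', q', hp', hq', sp', sq', rfl, -⟩
    refine ⟨((hpq hp hp' sp sp').mul_right (hpq hp hq' sp sq')).mul_left
      ((hpq hq hp' sq sp').mul_right (hpq hq hq' sq sq')), ?_⟩
    rw [(hpq hq hp sq sp).mul_mul_mul_comm, mul_self R.ot.1 hp, mul_self R.ot.1 hq, one_mul]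
  have hc2 : ∀ w ∈ closure S, ∀ w' ∈ closure S, Commute w w' := fun w hw w' hw' => by
    induction hw, hw' using Subgroup.closure_induction₂ with
    | mem p q hp hq => exact (hcomm p hp q hq).1
    | one_left p _ => exact Commute.one_left p
    | one_right p _ => exact Commute.one_right p
    | mul_left p q r _ _ _ h₁ h₂ => exact h₁.mul_left h₂
    | mul_right p q r _ _ _ h₁ h₂ => exact h₁.mul_right h₂
    | inv_left p q _ _ h => exact h.inv_left
    | inv_right p q _ _ h => exact h.inv_right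
  have hsq : ∀ w ∈ closure S, w * w = 1 := fun w hw => by
    induction hw using Subgroup.closure_induction with
    | mem p hp => exact (hcomm p hp p hp).2
    | one => exact one_mul 1
    | mul p q hp hq h₁ h₂ => rw [(hc2 q hq p hp).mul_mul_mul_comm, h₁, h₂, one_mul]
    | inv p _ h => rw [← mul_inv_rev, h, inv_one]
  have hle : closure S ≤ K := (closure_le _).2 (by rintro w ⟨p, q, -, -, -, -, -, hw⟩; exact hw)
  have hP : IsPGroup 2 (closure S) := by
    rintro ⟨w, hw⟩
    exact ⟨1, Subtype.ext (by show w ^ (2 ^ 1) = 1; rw [pow_one, pow_two]; exact hsq w hw)⟩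
  have hnorm : K ≤ normalizer (closure S : Set G) := by
    refine CfsgLib.JComp.le_normalizer_of_conj fun k hk w hw => ?_
    have : closure S ≤ (closure S).comap (MulAut.conj k).toMonoidHom := (closure_le _).2 (by
      rintro _ ⟨p, q, hp, hq, sp, sq, rfl, hw⟩
      refine subset_closure ⟨k * p * k⁻¹, k * q * k⁻¹, R.ot.1.conj_mem p hp k, R.ot.1.conj_mem q hq k,
        sp.trans (hk p hp).symm, sq.trans (hk q hq).symm, ?_, ?_⟩
      · show k * (p * q) * k⁻¹ = _
        group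
      · exact hKn.conj_mem _ hw k)
    exact this hw
  have h1 := CfsgLib.JComp.le_pCoreOf (p := 2) hle hP hnorm
  have h2 : Cfsg.pCoreOf 2 K = ⊥ := by
    haveI : (Cfsg.pCoreOf 2 K).Normal := normalizer_eq_top_iff.1 (top_le_iff.1
      ((normalizer_eq_top_iff.2 hKn) ▸ CfsgLib.JComp.normalizer_le_normalizer_pCoreOf K))
    refine eq_bot_iff.2 (R.core ▸ CfsgLib.Coprime.le_pCore (N := Cfsg.pCoreOf 2 K) ?_)
    exact CfsgLib.JComp.isPGroup_pCoreOf 2 K
  have h4 : a * b = 1 := mem_bot.1 (h2 ▸ h1 (subset_closure ⟨a, b, ha, hb, rfl, hab, rfl, hk⟩))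
  rw [← inv_eq R.ot.1 hb]
  exact eq_inv_of_mul_eq_one_left h4

theorem commute_of_mem_fixK {v m : G} (hv : v ∈ fixK D R.ot.1) (hm : m ∈ D) : Commute v m := by
  have hk : m * (v * m * v⁻¹) ∈ fixK D R.ot.1 := by
    rw [show m * (v * m * v⁻¹) = m * v * m⁻¹ * v⁻¹ by rw [inv_eq R.ot.1 hm]; simp only [mul_assoc]]
    exact mul_mem ((fixK_normal R.ot.1).conj_mem v hv m) (inv_mem hv)
  exact mul_inv_eq_iff_eq_mul.1
    (R.eq_of_mul_mem_fixK hm (R.ot.1.conj_mem m hm v) (hv m hm).symm hk).symm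

theorem not_noLine {d x : G} (hd : d ∈ D) (hx : x ∈ D) (hnc : ¬ Commute d x) :
    ¬ NoLine (quotD (Cfsg.sameCommutingClass D d) d x (seed_sameClass R.ot hd hx hnc).memd) := by
  set S := seed_sameClass R.ot hd hx hnc
  obtain ⟨l, hl, -, hc, hp⟩ := R.lined_mem hd
  have hlE : l ∈ Cfsg.sameCommutingClass D d := mem_sameClass_iff.2 ⟨hl, same_of_line R.ot hd hl hp hc⟩
  have hpE : d * l ∈ Cfsg.sameCommutingClass D d := mem_sameClass_iff.2 ⟨hp, same_of_line' R.ot hd hl hp hc⟩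
  have hA := S.reduced.sub
  intro hn
  refine hn _ (hA ⟨⟨d, S.memd⟩, self_mem_sameClass hd, rfl⟩) _
    (hA ⟨⟨l, sameClass_mem_genGroup hlE⟩, hlE, rfl⟩)
    ((show Commute (⟨d, S.memd⟩ : genGroup D d x) ⟨l, sameClass_mem_genGroup hlE⟩ from Subtype.ext hc.eq).map _) ?_
  rw [← map_mul]
  exact hA ⟨_, hpE, rfl⟩

/-- The image of `E(d)` lies in the block. -/
theorem mk_sameSubgroup {d x : G} (hd : d ∈ D) (hx : x ∈ D) (hnc : ¬ Commute d x) {v : genGroup D d x}
    (hv : (v : G) ∈ Cfsg.sameCommutingSubgroup D d) :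
    QuotientGroup.mk' (Cfsg.pCore 2 (genGroup D d x)) v = 1 ∨
    ∃ c : genGroup D d x, (c : G) ∈ Cfsg.sameCommutingClass D d ∧
      QuotientGroup.mk' (Cfsg.pCore 2 (genGroup D d x)) v = QuotientGroup.mk' (Cfsg.pCore 2 (genGroup D d x)) c := by
  set S := seed_sameClass R.ot hd hx hnc
  have hl := R.not_noLine hd hx hnc
  set π := QuotientGroup.mk' (Cfsg.pCore 2 (genGroup D d x))
  have hle : Cfsg.sameCommutingSubgroup D d ≤
      ((Reduced.block S.reduced hl).comap π).map (genGroup D d x).subtype := by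
    refine (closure_le _).2 fun a ha => ⟨⟨a, sameClass_mem_genGroup ha⟩, ?_, rfl⟩
    exact Or.inr ⟨S.reduced.sub ⟨_, ha, rfl⟩,
      (show Commute (⟨d, S.memd⟩ : genGroup D d x) ⟨a, sameClass_mem_genGroup ha⟩ from
        Subtype.ext (commute_sameClass hd ha).eq).map π⟩
  obtain ⟨v', hv', e⟩ := hle hv
  obtain rfl : v' = v := Subtype.ext e
  rcases (hv' : π v' ∈ Reduced.block S.reduced hl) with h1 | ⟨⟨g, hg⟩, hc⟩
  · exact Or.inl h1
  · rw [← hg] at hc
    have h2 := S.reflect (g := 1) (k := g) (by rw [one_mul, inv_one, mul_one]; exact hc)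
    simp only [OneMemClass.coe_one, one_mul, inv_one, mul_one] at h2
    exact Or.inr ⟨g * ⟨d, S.memd⟩ * g⁻¹, mem_sameClass_iff.2 ⟨S.conj_mem_D g,
      same_conj_gen R.ot hd (R.lined_mem hd) hx hnc g.2 h2⟩, hg.symm⟩

/-- An element of `E(d)` moves a member to a commuting one or acts on it as a member of `E_d`. -/
theorem commute_or_mid {d m v : G} (hd : d ∈ D) (hm : m ∈ D) (hnc : ¬ Commute d m)
    (hv : v ∈ Cfsg.sameCommutingSubgroup D d) :
    Commute m (v * m * v⁻¹) ∨ ∃ w ∈ Cfsg.sameCommutingClass D d, w * m * w = v * m * v⁻¹ ∧ ¬ Commute w m := by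
  by_cases hmy : Commute m (v * m * v⁻¹)
  · exact Or.inl hmy
  refine Or.inr ?_
  set S := seed_sameClass R.ot hd hm hnc
  set π := QuotientGroup.mk' (Cfsg.pCore 2 (genGroup D d m)) with hπ
  set d0 : genGroup D d m := ⟨d, S.memd⟩
  set v0 : genGroup D d m := ⟨v, sameSubgroup_le_genGroup hv⟩
  obtain ⟨kx, hkx, hkxe⟩ := S.exists_conj_x
  set m0 : genGroup D d m := ⟨kx, hkx⟩ * d0 * (⟨kx, hkx⟩ : genGroup D d m)⁻¹
  have hy : v * m * v⁻¹ ∈ genGroup D d m := mul_mem (mul_mem v0.2 S.memx) (inv_mem v0.2)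
  obtain ⟨w, hw, hwy, hwm, k, hk, hke⟩ :=
    exists_mid_mem R.ot hm (R.ot.1.conj_mem m hm v) hmy S.memx hy
  set gw : genGroup D d m := ⟨k * kx, mul_mem hk hkx⟩
  have hgw : (gw : G) * d * (gw : G)⁻¹ = w := by
    show k * kx * d * (k * kx)⁻¹ = w
    rw [← hke, ← hkxe]; group
  set w0 : genGroup D d m := gw * d0 * gw⁻¹
  have hD' := S.reduced.ot
  rcases R.mk_sameSubgroup hd hm hnc (v := v0) hv with h1 | ⟨c, hc, h1⟩
  · exfalso
    refine hmy ?_
    have h2 := S.reflect (g := ⟨kx, hkx⟩) (k := v0 * ⟨kx, hkx⟩) (by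
      show Commute (π m0) (π (v0 * ⟨kx, hkx⟩ * d0 * (v0 * ⟨kx, hkx⟩)⁻¹))
      rw [show v0 * (⟨kx, hkx⟩ : genGroup D d m) * d0 * (v0 * ⟨kx, hkx⟩)⁻¹ = v0 * m0 * v0⁻¹ by
        simp only [m0]; group]
      have e1 : π (v0 * m0 * v0⁻¹) = π m0 := by
        rw [map_mul, map_mul, map_inv, show π v0 = 1 from h1, one_mul, inv_one, mul_one]
      rw [e1])
    simp only [Subgroup.coe_mul] at h2
    rwa [hkxe, show v * kx * d * (v * kx)⁻¹ = v * m * v⁻¹ by rw [← hkxe]; group] at h2
  · refine ⟨w, ?_, hwy, hwm⟩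
    obtain ⟨gc, hgc, hgce⟩ := S.exists_conj_A hc
    have hcm : ¬ Commute (π c) (π m0) := fun h => S.not_commute_x hc (by
      have := S.reflect (g := ⟨gc, hgc⟩) (k := ⟨kx, hkx⟩) (by
        rw [show (⟨gc, hgc⟩ : genGroup D d m) * d0 * (⟨gc, hgc⟩ : genGroup D d m)⁻¹ = c from Subtype.ext hgce]
        exact h)
      rwa [hgce, hkxe] at this)
    have hwm' : ¬ Commute (π w0) (π m0) := fun h => hwm (by
      have := S.reflect (g := gw) (k := ⟨kx, hkx⟩) h
      rwa [hgw, hkxe] at this)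
    have e : π w0 = π c := by
      refine mid_unique hD' (x := π m0) ⟨_, rfl⟩
        (S.reduced.sub ⟨c, hc, rfl⟩) ⟨gw, rfl⟩ hcm hwm' ?_
      have e1 : π c = (π c)⁻¹ := (inv_eq hD'.1 (S.reduced.sub ⟨c, hc, rfl⟩)).symm
      have e2 : π w0 * π m0 * π w0 = π v0 * π m0 * (π v0)⁻¹ := by
        rw [← map_inv, ← map_mul, ← map_mul, ← map_mul, ← map_mul]
        refine congrArg π (Subtype.ext ?_)
        show (w0 : G) * (m0 : G) * (w0 : G) = v * (m0 : G) * v⁻¹
        rw [show (w0 : G) = w from hgw, show (m0 : G) = m from hkxe, hwy]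
      rw [e2, h1, ← e1]
    have h3 := S.reflect (g := 1) (k := gw) (by
      rw [one_mul, inv_one, mul_one]
      show Commute (π d0) (π w0)
      rw [e]
      exact (show Commute d0 c from Subtype.ext (commute_sameClass hd hc).eq).map π)
    simp only [OneMemClass.coe_one, one_mul, inv_one, mul_one] at h3
    have h4 := same_conj_gen R.ot hd (R.lined_mem hd) hm hnc gw.2 h3
    rw [hgw] at h4
    exact mem_sameClass_iff.2 ⟨hw, h4⟩

theorem same_of_commute_moved {d m v : G} (hd : d ∈ D) (hm : m ∈ D) (hnc : ¬ Commute d m)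
    (hv : v ∈ Cfsg.sameCommutingSubgroup D d) (h : Commute m (v * m * v⁻¹)) :
    OddTr.Same D (v * m * v⁻¹) m := by
  obtain ⟨kx, hkx, hkxe⟩ := genGroup_exists_conj R.ot hd hm hnc
  have e : v * kx * d * (v * kx)⁻¹ = v * m * v⁻¹ := by rw [← hkxe]; group
  have := same_of_conj_gen R.ot hd (R.lined_mem hd) hm hnc hkx
    (mul_mem (sameSubgroup_le_genGroup hv) hkx) (by rw [hkxe, e]; exact h)
  rw [hkxe, e] at this
  exact this.symm

theorem fix_of_commute {d m v : G} (hm : m ∈ D) (h : Commute d m) (hv : v ∈ Cfsg.sameCommutingSubgroup D d) :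
    OddTr.Same D (v * m * v⁻¹) m := by
  rw [(commute_sameSubgroup hm h hv).eq, mul_inv_cancel_right]
  rfl

/-- Classes of members that do not commute meet trivially. -/
theorem eq_one_of_mem_two {d z v : G} (hd : d ∈ D) (hz : z ∈ D) (hnc : ¬ Commute d z)
    (hv : v ∈ Cfsg.sameCommutingSubgroup D d) (hv' : v ∈ Cfsg.sameCommutingSubgroup D z) : v = 1 := by
  have hfix : v ∈ fixK D R.ot.1 := fun m hm => by
    by_cases h1 : Commute d m
    · exact fix_of_commute R hm h1 hv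
    by_cases h2 : Commute z m
    · exact fix_of_commute R hm h2 hv'
    rcases R.commute_or_mid hd hm h1 hv with h | ⟨w, hw, hwy, hwm⟩
    · exact R.same_of_commute_moved hd hm h1 hv h
    rcases R.commute_or_mid hz hm h2 hv' with h | ⟨w', hw', hwy', hwm'⟩
    · exact R.same_of_commute_moved hd hm h1 hv h
    have e := mid_unique R.ot hm hw.1 hw'.1 hwm hwm' (hwy'.trans hwy.symm)
    subst e
    exact absurd ((same_iff hw hz).1 ((same_iff hw' hz).2 (Commute.refl z))) hnc
  exact R.eq_one_of_commute (fun f hf => R.commute_of_mem_fixK hfix hf) (sameSubgroup_sq R.ot.1 hd hv)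

theorem eq_one_of_central_gen {d x v : G} (hd : d ∈ D) (hx : x ∈ D) (hnc : ¬ Commute d x)
    (hv : v ∈ Cfsg.sameCommutingSubgroup D d) (hvx : Commute v x) : v = 1 := by
  obtain ⟨k, hk, hke⟩ := genGroup_exists_conj R.ot hd hx hnc
  have hvk : Commute v k := commute_of_mem_genGroup
    (fun a ha => commute_sameSubgroup ha.1 (commute_sameClass hd ha) hv) hvx hk
  refine R.eq_one_of_mem_two hd hx hnc hv ?_
  have := sameSubgroup_conj R.ot.1 hv k
  rwa [hke, ← hvk.eq, mul_inv_cancel_right] at this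

/-- The two-core separates `E_d`. -/
theorem eq_of_mk_eq_class {d x : G} (hd : d ∈ D) (hx : x ∈ D) (hnc : ¬ Commute d x) {a b : genGroup D d x}
    (ha : (a : G) ∈ Cfsg.sameCommutingClass D d) (hb : (b : G) ∈ Cfsg.sameCommutingClass D d)
    (h : QuotientGroup.mk' (Cfsg.pCore 2 (genGroup D d x)) a =
      QuotientGroup.mk' (Cfsg.pCore 2 (genGroup D d x)) b) : a = b := by
  set S := seed_sameClass R.ot hd hx hnc
  have hu : (a : G) * b ∈ Cfsg.sameCommutingSubgroup D d := mul_mem (subset_closure ha) (subset_closure hb)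
  refine Subtype.ext (R.eq_of_mul_mem_fixK ha.1 hb.1
    ((mem_sameClass_iff.1 ha).2.symm.trans (mem_sameClass_iff.1 hb).2) fun z hz => ?_)
  by_cases h1 : Commute d z
  · exact fix_of_commute R hz h1 hu
  rcases R.commute_or_mid hd hz h1 hu with h2 | ⟨w, hw, hwz, -⟩
  · exact R.same_of_commute_moved hd hz h1 hu h2
  exfalso
  have hwu : w * ((a : G) * b) ∈ Cfsg.sameCommutingSubgroup D d := mul_mem (subset_closure hw) hu
  have hc : Commute (w * ((a : G) * b)) z := by
    rw [← conj_eq_self_iff, show w * ((a : G) * b) * z * (w * ((a : G) * b))⁻¹ =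
      w * ((a : G) * b * z * ((a : G) * b)⁻¹) * w⁻¹ by group, ← hwz, inv_eq R.ot.1 hw.1,
      show w * (w * z * w) * w = w * w * z * (w * w) by simp only [mul_assoc], mul_self R.ot.1 hw.1,
      one_mul, mul_one]
  have e := eq_inv_of_mul_eq_one_right (R.eq_one_of_central_gen hd hz h1 hwu hc)
  rw [inv_eq R.ot.1 hw.1] at e
  obtain ⟨g, hg, hge⟩ := S.exists_conj_A (a := w) hw
  refine S.mk_ne_one ⟨g, hg⟩ ?_
  rw [show (⟨g, hg⟩ : genGroup D d x) * ⟨d, S.memd⟩ * (⟨g, hg⟩ : genGroup D d x)⁻¹ = a * b from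
    Subtype.ext (hge.trans e.symm), map_mul, h, ← map_mul,
    show b * b = 1 from Subtype.ext (mul_self R.ot.1 hb.1), map_one]

/-- The two-core separates the class of `d`. -/
theorem eq_of_mk_eq_conj {d x : G} (hd : d ∈ D) (hx : x ∈ D) (hnc : ¬ Commute d x) (j k : genGroup D d x)
    (h : QuotientGroup.mk' (Cfsg.pCore 2 (genGroup D d x))
        (j * ⟨d, (seed_sameClass R.ot hd hx hnc).memd⟩ * j⁻¹) =
      QuotientGroup.mk' (Cfsg.pCore 2 (genGroup D d x))
        (k * ⟨d, (seed_sameClass R.ot hd hx hnc).memd⟩ * k⁻¹)) :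
    (j : G) * d * (j : G)⁻¹ = (k : G) * d * (k : G)⁻¹ := by
  set S := seed_sameClass R.ot hd hx hnc
  set π := QuotientGroup.mk' (Cfsg.pCore 2 (genGroup D d x))
  set d0 : genGroup D d x := ⟨d, S.memd⟩
  have h1 : π d0 = π (j⁻¹ * k * d0 * (j⁻¹ * k)⁻¹) := by
    have := congrArg (fun q => (π j)⁻¹ * q * π j) h
    simp only [← map_inv, ← map_mul] at this
    rw [show j⁻¹ * (j * d0 * j⁻¹) * j = d0 by group,
      show j⁻¹ * (k * d0 * k⁻¹) * j = j⁻¹ * k * d0 * (j⁻¹ * k)⁻¹ by group] at this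
    exact this
  have h2 := S.reflect (g := 1) (k := j⁻¹ * k) (by
    rw [one_mul, inv_one, mul_one]
    show Commute (π d0) (π (j⁻¹ * k * d0 * (j⁻¹ * k)⁻¹))
    rw [← h1])
  simp only [OneMemClass.coe_one, one_mul, inv_one, mul_one] at h2
  have hE : (((j⁻¹ * k * d0 * (j⁻¹ * k)⁻¹ : genGroup D d x)) : G) ∈ Cfsg.sameCommutingClass D d :=
    mem_sameClass_iff.2 ⟨R.ot.1.conj_mem d hd _,
      same_conj_gen R.ot hd (R.lined_mem hd) hx hnc (j⁻¹ * k).2 h2⟩
  have e := congrArg Subtype.val (R.eq_of_mk_eq_class hd hx hnc (a := d0) (self_mem_sameClass hd) hE h1)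
  calc (j : G) * d * (j : G)⁻¹
      = (j : G) * ((j : G)⁻¹ * k * d * ((j : G)⁻¹ * k)⁻¹) * (j : G)⁻¹ :=
        congrArg (fun q : G => (j : G) * q * (j : G)⁻¹) e
    _ = (k : G) * d * (k : G)⁻¹ := by group

/-- The two-core is central. -/
theorem pCore_central {d x : G} (hd : d ∈ D) (hx : x ∈ D) (hnc : ¬ Commute d x) {o : genGroup D d x}
    (ho : o ∈ Cfsg.pCore 2 (genGroup D d x)) (y : genGroup D d x) : Commute o y := by
  set S := seed_sameClass R.ot hd hx hnc
  have hgen : ∀ c : genGroup D d x, (∃ g : genGroup D d x, (g : G) * d * (g : G)⁻¹ = c) → Commute o c := by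
    rintro c ⟨g, hg⟩
    obtain rfl : g * ⟨d, S.memd⟩ * g⁻¹ = c := Subtype.ext hg
    have h1 := R.eq_of_mk_eq_conj hd hx hnc (o * g) g (by
      rw [show o * g * ⟨d, S.memd⟩ * (o * g)⁻¹ = o * (g * ⟨d, S.memd⟩ * g⁻¹) * o⁻¹ by group, map_mul,
        map_mul, map_inv, show QuotientGroup.mk' (Cfsg.pCore 2 (genGroup D d x)) o = 1 from
          (QuotientGroup.eq_one_iff o).2 ho, one_mul, inv_one, mul_one])
    refine mul_inv_eq_iff_eq_mul.1 (Subtype.ext ?_)
    show (o : G) * ((g : G) * d * (g : G)⁻¹) * (o : G)⁻¹ = (g : G) * d * (g : G)⁻¹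
    refine Eq.trans ?_ h1
    simp only [Subgroup.coe_mul]
    group
  have h0 : closure {c : genGroup D d x | (c : G) ∈ Cfsg.sameCommutingClass D d ∪ {x}} = ⊤ :=
    closure_closure_coe_preimage
  refine commute_of_mem_closure_centre (fun c hc => hgen c ?_) (h0 ▸ mem_top y)
  rcases hc with hc | hc
  · obtain ⟨g, hg, hge⟩ := S.exists_conj_A hc
    exact ⟨⟨g, hg⟩, hge⟩
  · obtain ⟨g, hg, hge⟩ := S.exists_conj_x
    exact ⟨⟨g, hg⟩, hge.trans (Set.mem_singleton_iff.1 hc).symm⟩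

/-- `E(d) = E_d ∪ {1}`. -/
theorem sameSubgroup_eq {d : G} (hd : d ∈ D) :
    (Cfsg.sameCommutingSubgroup D d : Set G) = Cfsg.sameCommutingClass D d ∪ {1} := by
  obtain ⟨x, hx, hnc⟩ := R.exists_apart hd
  set S := seed_sameClass R.ot hd hx hnc
  set π := QuotientGroup.mk' (Cfsg.pCore 2 (genGroup D d x))
  refine Set.Subset.antisymm (fun v hv => ?_) (Set.union_subset subset_closure
    (Set.singleton_subset_iff.2 (one_mem _)))
  -- what maps to one is trivial
  have hone : ∀ w : genGroup D d x, (w : G) ∈ Cfsg.sameCommutingSubgroup D d → π w = 1 → (w : G) = 1 := by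
    intro w hw h1
    exact R.eq_one_of_central_gen hd hx hnc hw (congrArg Subtype.val
      (R.pCore_central hd hx hnc ((QuotientGroup.eq_one_iff w).1 h1) ⟨x, S.memx⟩).eq)
  set v0 : genGroup D d x := ⟨v, sameSubgroup_le_genGroup hv⟩
  rcases R.mk_sameSubgroup hd hx hnc (v := v0) hv with h1 | ⟨c, hc, h1⟩
  · exact Or.inr (hone v0 hv h1)
  · refine Or.inl ?_
    have := hone (v0 * c) (mul_mem hv (subset_closure hc)) (by
      rw [map_mul, h1, ← map_mul, show c * c = 1 from Subtype.ext (mul_self R.ot.1 hc.1), map_one])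
    have e : v = (c : G)⁻¹ := eq_inv_of_mul_eq_one_left this
    rw [inv_eq R.ot.1 hc.1] at e
    exact e ▸ hc

end Rooted

end CfsgLib.RootInvol.OddPartner
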