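import Mathlib.GroupTheory.PGroup
import Mathlib.Algebra.Group.Subgroup.Finite
import Mathlib.Algebra.Group.End
import Mathlib.Tactic.Group

/-!
# The endgame of the Suzuki exclusion, on an abelian group with operators

`V` has exponent two, `T a` are automorphisms with `T a * ρ = ρ * T a * T s`, permuted by the `κ k` as
`κ k * T a * κ k`, and `η` is a quadratic map fixed by the two-group `Γ`, nowhere trivial, whose pairing has
values in a small subgroup.  The fixed points of `Γ` then carry a pairing with itself that is impossible.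
-/

set_option autoImplicit false

namespace CfsgLib.RootInvol.OddPartner

open Subgroup

variable {V H α ι : Type*} [CommGroup V] [CommGroup H]

/-- The conjugate of `ρ` by `κ k`. -/
def rot (ρ : MulAut V) (κ : ι → MulAut V) (k : ι) : MulAut V := (κ k)⁻¹ * ρ * κ k

/-- The fixed points of a group of automorphisms. -/
def fixedPts (Γ : Subgroup (MulAut V)) : Subgroup V where
  carrier := {v | ∀ y ∈ Γ, y v = v}
  one_mem' y _ := map_one y
  mul_mem' {u v} hu hv y hy := by rw [map_mul, hu y hy, hv y hy]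
  inv_mem' {u} hu y hy := by rw [map_inv, hu y hy]

/-- The hypotheses of the endgame. -/
structure Endgame (ρ : MulAut V) (T : α → MulAut V) (s : α) (κ : ι → MulAut V)
    (Γ : Subgroup (MulAut V)) (η : V → H) (Hf : Subgroup H) : Prop where
  sq : ∀ v : V, v * v = 1
  sq' : ∀ h : H, h * h = 1
  nontriv : ∃ v : V, v ≠ 1
  two : IsPGroup 2 Γ
  rho : ρ ∈ Γ
  rho_sq : Commute (ρ * ρ) (T s)
  rel : ∀ a, T a * ρ = ρ * T a * T s
  tran : ∀ k a, ∃ b, κ k * T a * κ k = T b
  conj : ∀ k, ∀ y ∈ Γ, κ k * y * (κ k)⁻¹ ∈ Γ ∧ (κ k)⁻¹ * y * κ k ∈ Γ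
  fpf : ∀ v, T s v = v → v = 1
  cover : ∀ y ∈ Γ, (∀ a, Commute y (T a)) ∨ ∃ k, ∀ a, Commute ((rot ρ κ k)⁻¹ * y) (T a)
  apart : ∀ k k', k ≠ k' → ∃ j, ∀ a, Commute ((rot ρ κ j)⁻¹ * ((rot ρ κ k)⁻¹ * rot ρ κ k')) (T a)
  eta_ne : ∀ v, v ≠ 1 → η v ≠ 1
  eta_fix : ∀ y ∈ Γ, ∀ v, η (y v) = η v
  pair_mem : ∀ u v, η (u * v) * η u * η v ∈ Hf
  pair_mul : ∀ u v w, η (u * (v * w)) * η u * η (v * w) =
    (η (u * v) * η u * η v) * (η (u * w) * η u * η w)
  card : Nat.card Hf ≤ Nat.card ι + 1
  four : 4 ≤ Nat.card ι + 1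

namespace Endgame

variable {ρ : MulAut V} {T : α → MulAut V} {s : α} {κ : ι → MulAut V} {Γ : Subgroup (MulAut V)}
  {η : V → H} {Hf : Subgroup H} (E : Endgame ρ T s κ Γ η Hf)
include E

theorem rot_mem (k : ι) : rot ρ κ k ∈ Γ := (E.conj k ρ E.rho).2

theorem cube (v : V) : T s (T s (T s v)) = v := by
  have h1 : T s * (ρ * ρ) = ρ * ρ * (T s * T s * T s * T s) := by
    have r0 : ∀ z, T s * (ρ * z) = ρ * (T s * (T s * z)) := fun z => by
      rw [← mul_assoc, E.rel s, mul_assoc, mul_assoc]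
    have r1 : T s * ρ = ρ * (T s * T s) := by rw [E.rel s, mul_assoc]
    simp only [mul_assoc, r0, r1]
  have h2 := congrArg (fun f : MulAut V => (ρ * ρ)⁻¹ * f) (E.rho_sq.eq.trans h1)
  simp only [inv_mul_cancel_left] at h2
  have h3 : T s * T s * T s = 1 := by
    have := congrArg (fun f : MulAut V => f * (T s)⁻¹) h2
    simpa using this.symm
  exact DFunLike.congr_fun h3 v

theorem quad (v : V) : T s (T s v) = T s v * v := by
  have h : T s (T s v) * T s v * v = 1 := E.fpf _ (by
    rw [map_mul, map_mul, E.cube, mul_assoc v, mul_comm v])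
  rw [mul_assoc] at h
  rw [eq_inv_of_mul_eq_one_left h, inv_eq_of_mul_eq_one_right (E.sq _)]

theorem kappa_fixed (k : ι) {v : V} (hv : v ∈ fixedPts Γ) : κ k v ∈ fixedPts Γ ∧ (κ k)⁻¹ v ∈ fixedPts Γ := by
  constructor <;> intro y hy
  · have := congrArg (κ k) (hv _ (E.conj k y hy).2)
    simpa using this
  · have := congrArg ((κ k)⁻¹ : MulAut V) (hv _ (E.conj k y hy).1)
    simpa using this

theorem comm_fix {c : MulAut V} (hc : c ∈ Γ) (hcT : ∀ a, Commute c (T a)) {g : V} (hg : T s g ∈ fixedPts Γ) :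
    c g = g :=
  (T s).injective (((DFunLike.congr_fun (hcT s).eq g).symm).trans (hg c hc))

/-- `T a g` is fixed with `T s g`. -/
theorem T_mem {g : V} (hg : T s g ∈ fixedPts Γ) (a : α) : T a g ∈ fixedPts Γ := by
  have key : ∀ (k : ι) (a : α),
      T a * rot ρ κ⁻¹ k = rot ρ κ k * T a * (κ k * T s * (κ k)⁻¹) := by
    intro k a
    obtain ⟨b, hb⟩ := E.tran k a
    have hb' : T a * κ k = (κ k)⁻¹ * T b := by rw [← hb]; group
    calc T a * rot ρ κ⁻¹ k = T a * κ k * ρ * (κ k)⁻¹ := by simp [rot, mul_assoc]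
      _ = (κ k)⁻¹ * (T b * ρ) * (κ k)⁻¹ := by rw [hb']; group
      _ = rot ρ κ k * T a * (κ k * T s * (κ k)⁻¹) := by rw [E.rel b, ← hb]; simp [rot, mul_assoc]
  have hrot : ∀ k, rot ρ κ k (T a g) = T a g := by
    intro k
    set g' := (κ k * T s * (κ k)⁻¹)⁻¹ g
    have hg' : (κ k * T s * (κ k)⁻¹) g' = g := MulEquiv.apply_symm_apply _ g
    have h1 : rot ρ κ⁻¹ k g' = g := by
      refine (T s).injective ?_
      show (T s * rot ρ κ⁻¹ k) g' = _
      rw [key k s, MulAut.mul_apply, hg', MulAut.mul_apply]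
      exact hg _ (E.rot_mem k)
    have h2 : (T a * rot ρ κ⁻¹ k) g' = (rot ρ κ k * T a) g := by
      rw [key k a, MulAut.mul_apply, hg']
    rw [MulAut.mul_apply, MulAut.mul_apply, h1] at h2
    exact h2.symm
  intro y hy
  have hc : ∀ c ∈ Γ, (∀ a, Commute c (T a)) → c (T a g) = T a g := fun c hc hcT => by
    have := DFunLike.congr_fun (hcT a).eq g
    rw [MulAut.mul_apply, MulAut.mul_apply, E.comm_fix hc hcT hg] at this
    exact this
  rcases E.cover y hy with h | ⟨k, h⟩
  · exact hc y hy h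
  · have := hc _ (mul_mem (inv_mem (E.rot_mem k)) hy) h
    have h2 := congrArg (rot ρ κ k) this
    rw [hrot k, ← MulAut.mul_apply, mul_inv_cancel_left] at h2
    exact h2

theorem kappa_sub (k : ι) {g : V} (hg : T s g ∈ fixedPts Γ) : T s (κ k g) ∈ fixedPts Γ := by
  obtain ⟨b, hb⟩ := E.tran k s
  have h1 : (κ k)⁻¹ (T b g) = T s (κ k g) := by
    rw [← hb]; simp
  exact h1 ▸ (E.kappa_fixed k (E.T_mem hg b)).2

theorem rot_apply (k : ι) {g : V} (hg : T s g ∈ fixedPts Γ) :
    rot ρ κ k g = (κ k)⁻¹ (T s (κ k g)) * g := by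
  have h := E.kappa_sub k hg
  have hρ : ρ (κ k g) = T s (T s (κ k g)) := by
    have h1 := DFunLike.congr_fun (E.rel s) (T s (κ k g))
    rw [MulAut.mul_apply, MulAut.mul_apply, MulAut.mul_apply, E.cube, h ρ E.rho] at h1
    exact h1.symm
  show ((κ k)⁻¹ : MulAut V) (ρ (κ k g)) = _
  rw [hρ, E.quad, map_mul]
  simp

theorem move_mem {y : MulAut V} (hy : y ∈ Γ) {g : V} (hg : T s g ∈ fixedPts Γ) : y g * g ∈ fixedPts Γ := by
  rcases E.cover y hy with h | ⟨k, h⟩
  · rw [E.comm_fix hy h hg, E.sq]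
    exact one_mem _
  · have h1 := E.comm_fix (mul_mem (inv_mem (E.rot_mem k)) hy) h hg
    have h2 : y g = rot ρ κ k g := by
      have := congrArg (rot ρ κ k) h1
      rwa [← MulAut.mul_apply, mul_inv_cancel_left] at this
    rw [h2, E.rot_apply k hg, mul_assoc, E.sq, mul_one]
    exact (E.kappa_fixed k (E.kappa_sub k hg)).2

omit E in
/-- The pairing of `η`. -/
def pair (η : V → H) (u v : V) : H := η (u * v) * η u * η v

omit E in
theorem pair_comm (u v : V) : pair η u v = pair η v u := by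
  rw [pair, pair, mul_comm u, mul_assoc, mul_assoc, mul_comm (η u)]

theorem pair_fix {y : MulAut V} (hy : y ∈ Γ) (u v : V) : pair η (y u) (y v) = pair η u v := by
  rw [pair, ← map_mul, E.eta_fix y hy, E.eta_fix y hy, E.eta_fix y hy]; rfl

/-- The displacements lie in the radical of the pairing on the fixed points. -/
theorem radical {y : MulAut V} (hy : y ∈ Γ) {g v : V} (hv : v ∈ fixedPts Γ) : pair η v (y g * g) = 1 := by
  have h1 := E.pair_fix hy v g
  rw [hv y hy] at h1
  have h := E.pair_mul v (y g) g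
  show η (v * (y g * g)) * η v * η (y g * g) = 1
  rw [h]
  show pair η v (y g) * pair η v g = 1
  rw [h1, E.sq']

theorem eta_one : η 1 = 1 := by
  have h := E.pair_mul 1 1 1
  simp only [one_mul, E.sq', mul_one] at h
  exact h

theorem false_of_endgame [Finite V] [Finite H] [Finite ι] : False := by
  classical
  haveI : Fact (Nat.Prime 2) := ⟨Nat.prime_two⟩
  haveI : Finite (MulAut V) := Finite.of_injective (fun f => (f : V → V)) DFunLike.coe_injective
  -- a fixed point
  obtain ⟨w0, hw0, hw0F⟩ : ∃ w, w ≠ 1 ∧ w ∈ fixedPts Γ := by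
    obtain ⟨v0, hv0⟩ := E.nontriv
    have hdvd : 2 ∣ Nat.card V := by
      refine (dvd_of_eq ?_).trans (orderOf_dvd_natCard v0)
      exact (orderOf_eq_prime (by rw [pow_two]; exact E.sq v0) hv0).symm
    have h1 : (1 : V) ∈ MulAction.fixedPoints Γ V := fun y => map_one (y : MulAut V)
    obtain ⟨w, hw, hne⟩ := E.two.exists_fixed_point_of_prime_dvd_card_of_fixed_point V hdvd h1
    exact ⟨w, hne.symm, fun y hy => hw ⟨y, hy⟩⟩
  set g0 := T s (T s w0) with hg0
  have hg0G : T s g0 ∈ fixedPts Γ := by rw [hg0, E.cube]; exact hw0F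
  have hg01 : g0 ≠ 1 := fun e => hw0 (by rwa [hg0, map_eq_one_iff _ (T s).injective,
    map_eq_one_iff _ (T s).injective] at e)
  -- the radical
  let F0 : Subgroup V := closure {w | ∃ y ∈ Γ, ∃ g, T s g ∈ fixedPts Γ ∧ y g * g = w}
  have hF0 : ∀ w ∈ F0, w ∈ fixedPts Γ ∧ (∀ v ∈ fixedPts Γ, pair η v w = 1) ∧ η w ∈ Hf := by
    intro w hw
    induction hw using Subgroup.closure_induction with
    | mem w hw =>
      obtain ⟨y, hy, g, hg, rfl⟩ := hw
      refine ⟨E.move_mem hy hg, fun v hv => E.radical hy hv, ?_⟩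
      have := E.pair_mem g (y g * g)
      rwa [mul_left_comm, E.sq, mul_one, E.eta_fix y hy, E.sq', one_mul] at this
    | one =>
      exact ⟨one_mem _, fun v _ => by simp [pair, E.eta_one, E.sq'], by rw [E.eta_one]; exact one_mem _⟩
    | mul u w _ _ hu hw =>
      refine ⟨mul_mem hu.1 hw.1, fun v hv => ?_, ?_⟩
      · show η (v * (u * w)) * η v * η (u * w) = 1
        rw [E.pair_mul v u w]
        show pair η v u * pair η v w = 1
        rw [hu.2.1 v hv, hw.2.1 v hv, one_mul]
      · have h1 : η (u * w) * η u * η w = 1 := hw.2.1 u hu.1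
        rw [mul_assoc] at h1
        rw [eq_inv_of_mul_eq_one_left h1]
        exact inv_mem (mul_mem hu.2.2 hw.2.2)
    | inv u _ hu =>
      rwa [inv_eq_of_mul_eq_one_right (E.sq u)]
  have hinj : Function.Injective fun w : F0 => (⟨η w, (hF0 w w.2).2.2⟩ : Hf) := by
    rintro ⟨u, hu⟩ ⟨w, hw⟩ e
    have e' : η u = η w := congrArg Subtype.val e
    have h1 : η (u * w) * η u * η w = 1 := (hF0 w hw).2.1 u (hF0 u hu).1
    rw [e', mul_assoc, E.sq', mul_one] at h1
    refine Subtype.ext ?_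
    by_contra hne
    refine E.eta_ne _ (fun h => hne ?_) h1
    exact (eq_inv_of_mul_eq_one_left h).trans (inv_eq_of_mul_eq_one_right (E.sq w))
  -- every displacement set is all of it
  have hall : ∀ g, T s g ∈ fixedPts Γ → g ≠ 1 →
      Nat.card ι + 1 ≤ Nat.card F0 ∧ ∀ w ∈ F0, ∃ y ∈ Γ, y g * g = w := by
    intro g hg hg1
    have hN : ∀ k, rot ρ κ k g * g = (κ k)⁻¹ (T s (κ k g)) := fun k => by
      rw [E.rot_apply k hg, mul_assoc, E.sq, mul_one]
    let f : Option ι → F0 := fun o => o.elim 1 fun k =>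
      ⟨rot ρ κ k g * g, subset_closure ⟨_, E.rot_mem k, g, hg, rfl⟩⟩
    have hne : ∀ k, rot ρ κ k g * g ≠ 1 := by
      intro k e
      rw [hN, map_eq_one_iff _ (MulEquiv.injective _), map_eq_one_iff _ (T s).injective,
        map_eq_one_iff _ (κ k).injective] at e
      exact hg1 e
    have hf : Function.Injective f := by
      rintro (_ | k) (_ | k') e
      · rfl
      · exact absurd (congrArg Subtype.val e).symm (hne k')
      · exact absurd (congrArg Subtype.val e) (hne k)
      · refine congrArg some ?_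
        by_contra hkk
        obtain ⟨j, hj⟩ := E.apart k k' hkk
        have e1 : rot ρ κ k g = rot ρ κ k' g := mul_right_cancel (congrArg Subtype.val e)
        have h1 := E.comm_fix (mul_mem (inv_mem (E.rot_mem j))
          (mul_mem (inv_mem (E.rot_mem k)) (E.rot_mem k'))) hj hg
        rw [MulAut.mul_apply, MulAut.mul_apply, ← e1, MulAut.inv_apply_self] at h1
        refine hne j ?_
        conv_lhs => arg 1; rw [← h1]
        rw [MulAut.apply_inv_self, E.sq]
    have hb := (Nat.bijective_iff_injective_and_card f).2 ⟨hf, le_antisymm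
      (Nat.card_le_card_of_injective f hf)
      ((Nat.card_le_card_of_injective _ hinj).trans (E.card.trans_eq Finite.card_option.symm))⟩
    refine ⟨(Finite.card_option (α := ι)).symm.trans_le (Nat.card_le_card_of_injective f hf), fun w hw => ?_⟩
    obtain ⟨o, ho⟩ := hb.2 ⟨w, hw⟩
    have ho' := congrArg Subtype.val ho
    cases o with
    | none => exact ⟨1, one_mem _, by rw [MulAut.one_apply, E.sq]; exact ho'⟩
    | some k => exact ⟨_, E.rot_mem k, ho'⟩
  have hval : ∀ g, T s g ∈ fixedPts Γ → g ≠ 1 → ∀ w ∈ F0, pair η g w = η w := by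
    intro g hg hg1 w hw
    obtain ⟨y, hy, rfl⟩ := (hall g hg hg1).2 w hw
    show η (g * (y g * g)) * η g * η (y g * g) = _
    rw [mul_left_comm, E.sq, mul_one, E.eta_fix y hy, E.sq', one_mul]
  -- three such elements
  obtain ⟨⟨k⟩⟩ : Nonempty (Nonempty ι) := by
    have := E.four
    exact ⟨Nat.card_pos_iff.1 (by omega) |>.1⟩
  set w := rot ρ κ k g0 * g0
  have hwF : w ∈ F0 := subset_closure ⟨_, E.rot_mem k, g0, hg0G, rfl⟩
  have hw1 : w ≠ 1 := by
    intro e
    rw [show w = (κ k)⁻¹ (T s (κ k g0)) by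
      rw [show w = rot ρ κ k g0 * g0 from rfl, E.rot_apply k hg0G, mul_assoc, E.sq, mul_one],
      map_eq_one_iff _ (MulEquiv.injective _), map_eq_one_iff _ (T s).injective,
      map_eq_one_iff _ (κ k).injective] at e
    exact hg01 e
  obtain ⟨g, hg, hg1, hgg⟩ : ∃ g, T s g ∈ fixedPts Γ ∧ g ≠ 1 ∧ g ≠ g0 := by
    by_contra hno
    push Not at hno
    let f : F0 → Fin 2 := fun v => if v.1 = 1 then 0 else 1
    have hu : ∀ u ∈ F0, u ≠ 1 → u = T s g0 := by
      intro u hu hu1
      have h1 := hno (T s (T s u)) (by rw [E.cube]; exact (hF0 u hu).1) (fun e => hu1 (by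
        rwa [map_eq_one_iff _ (T s).injective, map_eq_one_iff _ (T s).injective] at e))
      rw [← h1, E.cube]
    have hf : Function.Injective f := by
      rintro ⟨u, hu'⟩ ⟨v, hv'⟩ e
      refine Subtype.ext ?_
      simp only [f] at e
      by_cases h1 : u = 1 <;> by_cases h2 : v = 1 <;> simp only [h1, h2, if_true, if_false] at e ⊢ <;>
        first
        | exact absurd e (by decide)
        | exact (hu u hu' h1).trans (hu v hv' h2).symm
    have h4 := (hall g0 hg0G hg01).1
    have := Nat.card_le_card_of_injective f hf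
    simp only [Nat.card_eq_fintype_card, Fintype.card_fin] at this
    have := E.four
    omega
  have hgm : T s (g0 * g) ∈ fixedPts Γ := by rw [map_mul]; exact mul_mem hg0G hg
  have hgm1 : g0 * g ≠ 1 := fun e => hgg (by
    rw [eq_inv_of_mul_eq_one_right e, inv_eq_of_mul_eq_one_right (E.sq g0)])
  refine E.eta_ne w hw1 ?_
  have h1 := hval _ hgm hgm1 w hwF
  rw [pair_comm] at h1
  change η (w * (g0 * g)) * η w * η (g0 * g) = η w at h1
  rw [E.pair_mul w g0 g] at h1
  change pair η w g0 * pair η w g = η w at h1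
  rw [pair_comm w g0, pair_comm w g, hval _ hg0G hg01 w hwF, hval _ hg hg1 w hwF, E.sq'] at h1
  exact h1.symm

end Endgame

end CfsgLib.RootInvol.OddPartner
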