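import Cfsg.Agent.Lib.RootSub.OddPartner.NoBig

/-!
# Members with the same commuting members form a root group
-/

set_option autoImplicit false
set_option linter.style.haveILetI false

namespace CfsgLib.RootInvol.OddPartner

open CfsgLib.RootInvol.OddTr Subgroup CfsgLib.Invol

universe u

/-- In a rooted group two joined members that do not commute form a small pair. -/
theorem small_of_reach (hC : CfsgLib.SECrit.CritThm.{u}) (n : ℕ) :
    ∀ (G : Type u) [Group G] [Finite G] (D : Set G), Nat.card G = n → Rooted D →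
      ∀ a ∈ D, ∀ b ∈ D, ¬ Commute a b → Reach D a b → Small (genGroup D a b) := by
  induction n using Nat.strong_induction_on with
  | _ n ih =>
    intro G _ _ D hn R a ha b hb hnc hab
    subst hn
    by_cases hall : ∀ p ∈ D, ∀ q ∈ D, Reach D p q
    · by_contra hbig
      have M : Minimal D := ⟨R, hall, fun H _ _ D' hlt R' => ih _ hlt H D' rfl R'⟩
      obtain ⟨f, g, C⟩ := M.exists_cfg ha hb hnc hbig
      exact C.false_big M hC
    · push Not at hall
      have hS : IsSplit D := ⟨R.ot, R.lined, hall⟩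
      haveI := hS.ker_normal
      exact absurd (hS.commute_of_reach ha hb hab) hnc

/-- The classes with the same commuting members, given the criterion. -/
theorem rootGroup {G : Type u} [Group G] [Finite G] {D : Set G} (hC : CfsgLib.SECrit.CritThm.{u})
    (hD : Cfsg.IsOddTranspositionSet D) (hcl : Cfsg.IsRootInvolutionClass D) (hO : Cfsg.pCore 2 G = ⊥)
    (hDD : (D ∩ Cfsg.commutingProducts D).Nonempty) (hc : Cfsg.IsConnectedSet (Cfsg.CommAdj D) D)
    {d : G} (hd : d ∈ D) :
    (Cfsg.sameCommutingSubgroup D d : Set G) = Cfsg.sameCommutingClass D d ∪ {1} ∧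
    ∀ x ∈ Cfsg.oddPartners D d, ∃ (F : Type) (_ : Field F) (_ : Fintype F),
      Fintype.card F = Nat.card ↥(Cfsg.sameCommutingSubgroup D d) ∧
      Nonempty (↥(closure (Cfsg.sameCommutingClass D d ∪ {x})) ≃*
        Matrix.ProjectiveSpecialLinearGroup (Fin 2) F) := by
  have R : Rooted D := by
    refine ⟨hD, fun a ha b hb => ?_, hO, ?_⟩
    · obtain ⟨g, hg⟩ := hcl.2.2 a ha b hb
      exact ⟨g, hg.symm⟩
    · obtain ⟨z, hz, a, ha, b, hb, hab, hne, rfl⟩ := hDD
      exact ⟨a, ha, b, hb, fun e => hne (by rw [e]; exact mul_self hD.1 ha), hab, hz⟩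
  refine ⟨R.sameSubgroup_eq hd, fun x hx => ?_⟩
  have hnc := not_commute_of_oddPartner hD hd hx
  have hreach : Reach D d x :=
    Relation.ReflTransGen.mono (fun p q h => ⟨h.1, h.2.1, h.2.2.2⟩) _ _ (hc d hd x hx.1)
  exact R.psl_of_small hC hd hx.1 hnc
    (R.smallPair_of_small (small_of_reach hC _ G D rfl R d hd x hx.1 hnc hreach))

end CfsgLib.RootInvol.OddPartner
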