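import Cfsg.Agent.Lib.RootSub.OddPartner.Frame
import Cfsg.Agent.Lib.RootSub.OddPartner.Cover
import Cfsg.Agent.Lib.RootSub.OddPartner.Omega
import Mathlib.GroupTheory.SpecificGroups.Cyclic

/-!
# The lined case: the setting of the Bruhat computation, lifted from the quotient by the centre
-/

set_option autoImplicit false
set_option linter.style.haveILetI false
set_option linter.unusedSectionVars false

namespace CfsgLib.RootInvol.OddPartner

open CfsgLib.RootInvol.OddTr Subgroup CfsgLib.Invol CfsgLib.SECrit.Shape MulAction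

universe u

/-- A two-element in an odd subgroup is trivial. -/
theorem eq_one_two_odd {G : Type*} [Group G] [Finite G] {N : Subgroup G} (hN : Odd (Nat.card N)) {y : G}
    (hy : y ∈ N) {k : ℕ} (hk : y ^ 2 ^ k = 1) : y = 1 :=
  eq_one_of_odd_of_pow_two (by rw [← orderOf_mk (G := G) (H := N) y hy]; exact hN.of_dvd_nat (orderOf_dvd_natCard _)) hk

theorem odd_card_center {X : Type u} [Group X] [Finite X] (hcore : Cfsg.pCore 2 X = ⊥) :
    Odd (Nat.card (center X)) := by
  rw [← Nat.not_even_iff_odd]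
  intro he
  obtain ⟨t, ht, hto⟩ := exists_invol_mem he
  exact invol_ne_one hto (eq_one_of_central hcore (fun g => (mem_center_iff.1 ht g).symm) (invol_mul_self hto))

namespace Reduced

variable {X : Type u} [Group X] [Finite X] {D A : Set X} {d x : X} (h : Reduced D A d x) (hl : ¬ NoLine D)
include h hl

theorem gen_block : closure ((block h hl : Set X) ∪ {x}) = ⊤ := by
  refine eq_top_iff.2 (h.gen ▸ closure_mono (Set.union_subset_union_left _ fun a ha => ?_))
  exact Or.inr ⟨h.sub ha, ((h.same a ha).iff (h.sub ha)).1 (Commute.refl a)⟩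

theorem two_le_block : 4 ≤ Nat.card (block h hl) := by
  haveI : Fact (Nat.Prime 2) := ⟨Nat.prime_two⟩
  obtain ⟨b, hb, hne, hc, -⟩ := h.lined_d hl
  have h2 : IsPGroup 2 (block h hl) := by
    rintro ⟨a, ha⟩
    refine ⟨1, Subtype.ext ?_⟩
    show a ^ 2 ^ 1 = 1
    rcases ha with rfl | ⟨ha, -⟩
    · simp
    · rw [pow_one, pow_two, mul_self h.ot.1 ha]
  obtain ⟨n, hn⟩ := IsPGroup.iff_card.1 h2
  by_contra hlt
  have hn2 : n ≤ 1 := by
    by_contra hn1
    exact hlt (hn ▸ Nat.pow_le_pow_right two_pos (show 2 ≤ n by omega))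
  have hle : Nat.card (block h hl) ≤ 2 := by
    rw [hn]; exact (Nat.pow_le_pow_right two_pos hn2).trans (by norm_num)
  classical
  have h3 : 3 ≤ Nat.card (block h hl) := by
    let f : Fin 3 → block h hl := ![⟨1, one_mem _⟩, ⟨d, Or.inr ⟨h.d_mem, Commute.refl d⟩⟩, ⟨b, Or.inr ⟨hb, hc⟩⟩]
    have hf : Function.Injective f := by
      have hd1 := invol_ne_one (h.ot.1.orderOf_eq d h.d_mem)
      have hb1 := invol_ne_one (h.ot.1.orderOf_eq b hb)
      intro i j e
      fin_cases i <;> fin_cases j <;> simp [f, Subtype.ext_iff, hd1, hb1, hne, hd1.symm, hb1.symm, hne.symm] at e ⊢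
    simpa using Nat.card_le_card_of_injective f hf
  omega

/-- What is needed afterwards. -/
structure Lifted (Qb : Subgroup (X ⧸ center X)) (Q K : Subgroup X) (s r : X) : Prop where
  data : Data ((blockStab h hl).map (QuotientGroup.mk' (center X))) Qb
  set' : Setting Q (block h hl) K x s r
  mapQ : Q.map (QuotientGroup.mk' (center X)) = Qb
  leQ : Q ≤ blockStab h hl
  leK : K ≤ blockStab h hl
  injQ : ∀ y ∈ Q, QuotientGroup.mk' (center X) y = 1 → y = 1
  cardQ : Nat.card Q = Nat.card (block h hl) ∨ Nat.card Q = Nat.card (block h hl) ^ 2 ∨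
    Nat.card Q = Nat.card (block h hl) ^ 3
  omega' : r ∉ block h hl → Nat.card Q = Nat.card (block h hl) ^ 3 → ∃ ω ∈ K, ω ≠ 1 ∧ ω * ω * ω = 1
  odd_K : Odd (Nat.card K)
  cyc : IsCyclic K

theorem exists_lifted (hC : CfsgLib.SECrit.CritThm.{u}) :
    ∃ (Qb : Subgroup (X ⧸ center X)) (Q K : Subgroup X) (s r : X), Lifted h hl Qb Q K s r := by
  classical
  haveI : Fact (Nat.Prime 2) := ⟨Nat.prime_two⟩
  haveI : Fact (Nat.Prime 3) := ⟨Nat.prime_three⟩
  set π := QuotientGroup.mk' (center X) with hπ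
  set N := (blockStab h hl).map π with hNdef
  have hsurj : Function.Surjective π := QuotientGroup.mk'_surjective _
  have hπ1 : ∀ {g : X}, π g = 1 ↔ g ∈ center X := fun {g} => QuotientGroup.eq_one_iff g
  have hNse := h.map_stronglyEmbedded hl hC
  obtain ⟨Qb, hQN, hQn, hQ2, hQreg⟩ := CfsgLib.Bender.Full.fullStatement _ N hNse (h.map_core hl) (h.map_hasPair hl)
  have hdata : Data N Qb := ⟨hNse, h.map_core hl, h.map_hasPair hl, hQN, hQn, hQ2, hQreg⟩
  have hxo := h.ot.1.orderOf_eq x h.mem_x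
  have hxN : π x ∉ N := fun e => h.x_notMem hl ((h.mem_map_iff hl).1 e)
  have hto := h.orderOf_map hl h.mem_x
  have hS := setup_of hdata hto hxN
  haveI := faithfulSMul hdata
  have hstab : stabilizer (X ⧸ center X) ((1 : X ⧸ center X) : (X ⧸ center X) ⧸ N) = N :=
    MulAction.stabilizer_quotient N
  have hN' : ∀ g : X, π g ∈ N ↔ g ∈ blockStab h hl := fun g => h.mem_map_iff hl
  have hZodd := odd_card_center h.core
  have hconjM : ∀ {k a : X}, k ∈ blockStab h hl → a ∈ block h hl → k * a * k⁻¹ ∈ block h hl := by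
    intro k a hk ha
    rcases ha with rfl | ⟨ha, hda⟩
    · simp
    · have h2 := (commute_conj_iff k).2 hda
      exact Or.inr ⟨h.ot.1.conj_mem a ha k, h.clique hl h.d_mem (h.ot.1.conj_mem d h.d_mem k)
        (h.ot.1.conj_mem a ha k) hk h2⟩
  -- `Q`
  obtain ⟨P⟩ := (inferInstance : Nonempty (Sylow 2 (Qb.comap π)))
  set Q := (P : Subgroup (Qb.comap π)).map (Qb.comap π).subtype with hQdef
  have hQp : IsPGroup 2 Q := P.2.map _
  have hmemQ : ∀ {y : X}, y ∈ Q → π y ∈ Qb := by rintro _ ⟨p, -, rfl⟩; exact p.2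
  have hinjQ : ∀ y ∈ Q, π y = 1 → y = 1 := fun y hy e => by
    obtain ⟨k, hk⟩ := hQp ⟨y, hy⟩
    exact eq_one_two_odd hZodd (hπ1.1 e) (congrArg Subtype.val hk)
  have hQπ : ∀ {a b : X}, a ∈ Q → b ∈ Q → π a = π b → a = b := fun {a b} ha hb e =>
    mul_inv_eq_one.1 (hinjQ _ (mul_mem ha (inv_mem hb)) (by rw [map_mul, map_inv, e, mul_inv_cancel]))
  have hQsurj : ∀ q ∈ Qb, ∃ y ∈ Q, π y = q := by
    intro q hq
    set φ := π.subgroupComap Qb with hφ
    have hφs : Function.Surjective φ := MonoidHom.subgroupComap_surjective_of_surjective π Qb hsurj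
    have hmem : (⟨q, hq⟩ : Qb) ∈ ((P.mapSurjective hφs : Sylow 2 Qb) : Subgroup Qb) := by
      have ht : ((P.mapSurjective hφs : Sylow 2 Qb) : Subgroup Qb) = ⊤ :=
        ((P.mapSurjective hφs).is_maximal' (hQ2.to_subgroup ⊤ |>.of_equiv (MulEquiv.refl _)) le_top).symm
      rw [ht]; exact mem_top _
    rw [Sylow.coe_mapSurjective] at hmem
    obtain ⟨p, hp, hpe⟩ := hmem
    exact ⟨(p : X), ⟨p, hp, rfl⟩, congrArg Subtype.val hpe⟩
  -- every two-element over `Qb` lies in `Q`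
  have hQuniq : ∀ {y : X} {k : ℕ}, π y ∈ Qb → y ^ 2 ^ k = 1 → y ∈ Q := by
    intro y k hy hk
    obtain ⟨p, hp, hpe⟩ := hQsurj _ hy
    have hz : p⁻¹ * y ∈ center X := hπ1.1 (by rw [map_mul, map_inv, hpe, inv_mul_cancel])
    obtain ⟨j, hj⟩ := hQp ⟨p, hp⟩
    have hc : Commute p (p⁻¹ * y) := mem_center_iff.1 hz p
    have h1 : (p⁻¹ * y) ^ 2 ^ (j + k) = 1 := by
      have e2 : y ^ 2 ^ (j + k) = 1 := by rw [pow_add, mul_comm, pow_mul, hk, one_pow]
      have e3 : p ^ 2 ^ (j + k) = 1 := by rw [pow_add, pow_mul, show p ^ 2 ^ j = 1 from congrArg Subtype.val hj, one_pow]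
      have := hc.mul_pow (2 ^ (j + k))
      rw [mul_inv_cancel_left, e2, e3, one_mul] at this
      exact this.symm
    rw [show y = p from (inv_mul_eq_one.1 (eq_one_two_odd hZodd hz h1)).symm]
    exact hp
  have hQM : Q ≤ blockStab h hl := fun y hy => (hN' y).1 (hQN (hmemQ hy))
  have hEQ : block h hl ≤ Q := by
    intro e he
    rcases he with rfl | ⟨he, hde⟩
    · exact one_mem _
    · refine hQuniq (k := 1) (hdata.mem_of_invol ((hN' e).2 (h.blockStab_of_mem hl he hde)) ?_) ?_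
      · rw [← map_mul, mul_self h.ot.1 he, map_one]
      · rw [pow_one, pow_two, mul_self h.ot.1 he]
  have hMconj : ∀ {k y : X}, k ∈ blockStab h hl → y ∈ Q → k * y * k⁻¹ ∈ Q := by
    intro k y hk hy
    obtain ⟨j, hj⟩ := hQp ⟨y, hy⟩
    refine hQuniq (k := j) ?_ ?_
    · rw [map_mul, map_mul, map_inv]
      exact (mem_normalizer_iff.1 (hQn ((hN' k).2 hk)) _).1 (hmemQ hy)
    · rw [conj_pow, show y ^ 2 ^ j = 1 from congrArg Subtype.val hj, mul_one, mul_inv_cancel]
  -- involutions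
  have hinv2 : ∀ y ∈ Q, y * y = 1 → y ∈ block h hl := by
    intro y hy hyy
    by_cases hy1 : y = 1
    · exact hy1 ▸ one_mem _
    obtain ⟨a, ha, hda, hae⟩ := h.invol_mem_map hl hC (hQN (hmemQ hy))
      (invol_iff.2 ⟨by rw [← map_mul, hyy, map_one], fun e => hy1 (hinjQ y hy e)⟩)
    rw [hQπ hy (hEQ (Or.inr ⟨ha, hda⟩)) hae.symm]
    exact Or.inr ⟨ha, hda⟩
  have hInv : ∀ e : X ⧸ center X, e ∈ Cfsg.involutionsIn (stabilizer (X ⧸ center X)
      ((1 : X ⧸ center X) : (X ⧸ center X) ⧸ N) : Set (X ⧸ center X)) ↔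
      ∃ a ∈ D, Commute d a ∧ π a = e := by
    intro e
    refine ⟨fun he => h.invol_mem_map hl hC (hstab.le he.1) (invol_iff.2 ⟨he.2.2, he.2.1⟩), ?_⟩
    rintro ⟨a, ha, hda, rfl⟩
    exact ⟨hstab.ge ((hN' a).2 (h.blockStab_of_mem hl ha hda)), h.map_ne_one hl ha,
      invol_mul_self (h.orderOf_map hl ha)⟩
  obtain ⟨hcen, -⟩ := Cfsg.Agent.S1130.result hS hdata.pair_mul
  -- the pair
  obtain ⟨⟨sb, rb⟩, ⟨hsb, hrb, hrelb⟩, -⟩ := Cfsg.Agent.S1123.result hS
  dsimp only at hsb hrb hrelb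
  obtain ⟨s, hsD, hds, rfl⟩ := (hInv sb).1 hsb
  obtain ⟨r, hr, rfl⟩ := hQsurj rb hrb
  have hsE : s ∈ block h hl := Or.inr ⟨hsD, hds⟩
  have hxi : x⁻¹ = x := inv_eq h.ot.1 h.mem_x
  have hrel : x * s * x = r⁻¹ * x * r := by
    have h1 := h.ot.1.conj_mem s hsD x
    have h2 := h.ot.1.conj_mem x h.mem_x r⁻¹
    rw [hxi] at h1
    rw [inv_inv] at h2
    refine h.map_injOn hl h1 h2 ?_
    simpa only [map_mul, map_inv] using hrelb
  -- `K`
  obtain ⟨C, hCc, hCcyc, -⟩ := Cfsg.Agent.S1131.result hS hdata.pair_mul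
  have hmemC : ∀ {c : X ⧸ center X}, c ∈ C ↔ c ∈ Cfsg.invertedBy
      (stabilizer _ ((1 : X ⧸ center X) : (X ⧸ center X) ⧸ N) ⊓
        stabilizer _ (π x • ((1 : X ⧸ center X) : (X ⧸ center X) ⧸ N))) (π x) := fun {c} => by
    rw [← SetLike.mem_coe, hCc]
  haveI := hCcyc
  have hCcomm : ∀ {a b : X}, π a ∈ C → π b ∈ C → a * b = b * a := by
    intro a b ha hb
    have hker : (π.subgroupComap C).ker ≤ center (C.comap π) := by
      intro w hw
      refine mem_center_iff.2 fun v => Subtype.ext ?_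
      exact mem_center_iff.1 (hπ1.1 (congrArg Subtype.val (MonoidHom.mem_ker.1 hw))) v
    exact congrArg Subtype.val (commutative_of_cyclic_center_quotient (π.subgroupComap C) hker ⟨a, ha⟩ ⟨b, hb⟩)
  let K : Subgroup X :=
    { carrier := {k | π k ∈ C ∧ x * k * x = k⁻¹}
      one_mem' := ⟨by rw [map_one]; exact one_mem C, by rw [mul_one, mul_self h.ot.1 h.mem_x, inv_one]⟩
      mul_mem' := by
        rintro a b ⟨ha, hxa⟩ ⟨hb, hxb⟩
        refine ⟨by rw [map_mul]; exact mul_mem ha hb, ?_⟩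
        rw [show x * (a * b) * x = (x * a * x) * (x * b * x) by
          rw [show (x * a * x) * (x * b * x) = x * a * (x * x) * b * x by simp only [mul_assoc],
            mul_self h.ot.1 h.mem_x]
          simp only [mul_one, mul_assoc], hxa, hxb, ← mul_inv_rev, hCcomm hb ha]
      inv_mem' := by
        rintro a ⟨ha, hxa⟩
        refine ⟨by rw [map_inv]; exact inv_mem ha, ?_⟩
        have h1 := congrArg (fun u => u⁻¹) hxa
        simpa [mul_inv_rev, hxi, mul_assoc] using h1 }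
  have hKmem : ∀ {k : X}, k ∈ K → π k ∈ C ∧ x * k * x = k⁻¹ := fun hk => hk
  have hKM : K ≤ blockStab h hl := fun k hk => (hN' k).1 (hstab.le ((hmemC.1 (hKmem hk).1).1).1)
  have hKC : ∀ {k k' : X}, k ∈ K → k' ∈ K → π k = π k' → k = k' := by
    intro k k' hk hk' e
    have hz : k⁻¹ * k' ∈ center X := hπ1.1 (by rw [map_mul, map_inv, e, inv_mul_cancel])
    obtain ⟨-, h1⟩ := hKmem (mul_mem (inv_mem hk) hk')
    rw [mul_assoc, ← mem_center_iff.1 hz x, ← mul_assoc, mul_self h.ot.1 h.mem_x, one_mul] at h1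
    refine inv_mul_eq_one.1 (eq_one_two_odd (k := 1) hZodd hz ?_)
    rw [pow_one, pow_two]; exact eq_inv_iff_mul_eq_one.1 h1
  have hKsurj : ∀ c ∈ C, ∃ k ∈ K, π k = c := by
    intro c hc
    obtain ⟨g, rfl⟩ := hsurj c
    have hgC := hc
    have h1 : π (x * g * x * g) = 1 := by
      have h2 := (hmemC.1 hc).2
      rw [← map_inv, hxi] at h2
      rw [map_mul, map_mul, map_mul, h2, inv_mul_cancel]
    have hz := hπ1.1 h1
    obtain ⟨j, hj⟩ := hZodd
    set z := x * g * x * g with hzdef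
    have hzo : z ^ (2 * j + 1) = 1 := by
      rw [← hj]
      exact congrArg Subtype.val (pow_card_eq_one' (x := (⟨z, hz⟩ : center X)))
    refine ⟨g * z ^ j, ⟨by rw [map_mul, map_pow, hπ1.2 hz, one_pow, mul_one]; exact hgC, ?_⟩,
      by rw [map_mul, map_pow, hπ1.2 hz, one_pow, mul_one]⟩
    have hzc : ∀ (n : ℕ) (y : X), y * z ^ n = z ^ n * y := fun n y => mem_center_iff.1 (pow_mem hz n) y
    refine eq_inv_of_mul_eq_one_left ?_
    calc x * (g * z ^ j) * x * (g * z ^ j) = z * (z ^ j * z ^ j) := by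
          rw [hzdef, ← hzdef, show x * (g * z ^ j) * x = (x * g * x) * z ^ j by
            simp only [mul_assoc, ← hzc j x], mul_assoc (x * g * x), ← mul_assoc (z ^ j) g, ← hzc j g,
            mul_assoc g, ← mul_assoc (x * g * x), ← hzdef]
      _ = 1 := by rw [← pow_add, ← pow_succ', ← hzo]; congr 1; omega
  have hKodd : Odd (Nat.card K) := by
    let f : K → C := fun k => ⟨π k, (hKmem k.2).1⟩
    have hf : Function.Bijective f := by
      refine ⟨fun a b e => Subtype.ext (hKC a.2 b.2 (congrArg Subtype.val e)), fun c => ?_⟩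
      obtain ⟨k, hk, hke⟩ := hKsurj c c.2
      exact ⟨⟨k, hk⟩, Subtype.ext hke⟩
    rw [Nat.card_eq_of_bijective f hf]
    exact hS.odd_card.of_dvd_nat (card_dvd_of_le fun c hc => (hmemC.1 hc).1)
  have hKfpf0 : ∀ k ∈ K, k ≠ 1 → ∀ y ∈ Q, k * y = y * k → y = 1 := by
    intro k hk hk1 y hy hky
    have hb := Cfsg.Agent.S1128.result hS hdata.pair_mul (π k) (hmemC.1 (hKmem hk).1)
      (fun e => hk1 (hKC hk (one_mem K) (by rw [e, map_one])))
    refine hinjQ y hy (mem_bot.1 (hb ▸ mem_inf.2 ⟨hmemQ hy, mem_centralizer_singleton_iff.2 ?_⟩))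
    rw [← map_mul, ← map_mul, hky]
  have hEconj : ∀ k ∈ K, ∀ e ∈ block h hl, k * e * k⁻¹ ∈ block h hl := fun k hk e he => hconjM (hKM hk) he
  have hcard : Nat.card (Cfsg.involutionsIn (stabilizer (X ⧸ center X)
      ((1 : X ⧸ center X) : (X ⧸ center X) ⧸ N) : Set (X ⧸ center X))) + 1 = Nat.card (block h hl) := by
    rw [← Finite.card_option]
    refine Nat.card_congr (Equiv.trans (Equiv.optionCongr ?_) (Equiv.optionSubtypeNe (1 : block h hl)))
    have hmemD : ∀ a : {a : block h hl // a ≠ 1}, (a.1 : X) ∈ D ∧ Commute d (a.1 : X) := fun a =>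
      a.1.2.resolve_left fun e => a.2 (Subtype.ext e)
    refine (Equiv.ofBijective (fun a : {a : block h hl // a ≠ 1} => (⟨π (a.1 : X),
      (hInv _).2 ⟨_, (hmemD a).1, (hmemD a).2, rfl⟩⟩ : Cfsg.involutionsIn (stabilizer (X ⧸ center X)
        ((1 : X ⧸ center X) : (X ⧸ center X) ⧸ N) : Set (X ⧸ center X))))
      ⟨fun a b e => Subtype.ext (Subtype.ext (h.map_injOn hl (hmemD a).1 (hmemD b).1 (congrArg Subtype.val e))), ?_⟩).symm
    rintro ⟨e, he⟩
    obtain ⟨a, ha, hda, rfl⟩ := (hInv e).1 he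
    exact ⟨⟨⟨a, Or.inr ⟨ha, hda⟩⟩, fun e => invol_ne_one (h.ot.1.orderOf_eq a ha) (congrArg Subtype.val e)⟩, rfl⟩
  have hreg : ∀ e ∈ block h hl, e ≠ 1 → ∃! k, k ∈ K ∧ k * s * k⁻¹ = e := by
    intro e he he1
    obtain ⟨heD, hde⟩ := he.resolve_left he1
    obtain ⟨c, hc, hce⟩ := (Cfsg.Agent.S1122.result hS).2 (π s) hsb (π e) ((hInv _).2 ⟨e, heD, hde, rfl⟩)
    obtain ⟨k, hk, hkc⟩ := hKsurj c (hmemC.2 hc)
    have hke : k⁻¹ * s * k = e := by
      refine h.map_injOn hl (by simpa using h.ot.1.conj_mem s hsD k⁻¹) heD ?_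
      rw [map_mul, map_mul, map_inv, hkc, hce]
    refine ⟨k⁻¹, ⟨inv_mem hk, by rw [inv_inv, hke]⟩, fun k' ⟨hk', hk'e⟩ => ?_⟩
    have h1 : k * k' * s = s * (k * k') := by
      rw [← hke] at hk'e
      calc k * k' * s = k * (k' * s * k'⁻¹) * k' := by group
        _ = s * (k * k') := by rw [hk'e]; group
    by_contra hne
    exact invol_ne_one (h.ot.1.orderOf_eq s hsD) (hKfpf0 _ (mul_mem hk hk')
      (fun e1 => hne (eq_inv_of_mul_eq_one_right e1)) s (hEQ hsE) h1)
  have hQb : ∀ {g : X}, g ∈ Q → (π g) ∈ stabilizer (X ⧸ center X) ((1 : X ⧸ center X) : (X ⧸ center X) ⧸ N) :=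
    fun hg => hstab.ge (hQN (hmemQ hg))
  have hset : Setting Q (block h hl) K x s r :=
    { t_sq := mul_self h.ot.1 h.mem_x
      le := hEQ
      e_comm := fun e he y hy => by
        rcases he with rfl | ⟨he, hde⟩
        · exact Commute.one_left y
        have h1 := hMconj (hQM (hEQ (Or.inr ⟨he, hde⟩))) hy
        refine mul_inv_eq_iff_eq_mul.1 (hQπ h1 hy ?_)
        rw [map_mul, map_mul, map_inv, (hcen _ ((hInv _).2 ⟨e, he, hde, rfl⟩)).2 _ (hmemQ hy), mul_inv_cancel_right]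
      e_sq := fun e he => by
        rcases he with rfl | ⟨he, -⟩
        · exact one_mul 1
        · exact mul_self h.ot.1 he
      q_sq := fun y hy => hinv2 _ (mul_mem hy hy) (hinjQ _ (mul_mem (mul_mem hy hy) (mul_mem hy hy))
        (by rw [map_mul, map_mul]; exact sq_sq hdata hto hxN (hmemQ hy)))
      q_invol := hinv2
      k_comm := fun a ha b hb => hCcomm (hKmem ha).1 (hKmem hb).1
      k_q := fun k hk y hy => hMconj (hKM hk) hy
      k_e := hEconj
      inv := fun k hk => (hKmem hk).2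
      s_mem := hsE
      s_ne := invol_ne_one (h.ot.1.orderOf_eq s hsD)
      reg := hreg
      fpf := fun k hk hk1 y hy hδ => by
        let f : block h hl → block h hl := fun e => ⟨k * e * k⁻¹ * (e : X)⁻¹, mul_mem (hEconj k hk e e.2) (inv_mem e.2)⟩
        have hcm : ∀ a ∈ block h hl, ∀ b ∈ block h hl, a * b = b * a := fun a ha b hb => by
          rcases ha with rfl | ⟨ha, hda⟩
          · simp
          rcases hb with rfl | ⟨hb, hdb⟩
          · simp
          exact (h.clique hl ha h.d_mem hb hda.symm hdb).eq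
        have hf : Function.Injective f := by
          intro a b e
          have e' : k * a * k⁻¹ * (a : X)⁻¹ = k * b * k⁻¹ * (b : X)⁻¹ := congrArg Subtype.val e
          refine Subtype.ext (inv_mul_eq_one.1 (hKfpf0 k hk hk1 _ (hEQ (mul_mem (inv_mem a.2) b.2)) ?_))
          have e2 : k * b * k⁻¹ = k * a * k⁻¹ * ((a : X)⁻¹ * b) := by
            rw [← mul_assoc, e', inv_mul_cancel_right]
          calc k * ((a : X)⁻¹ * b) = k * (a : X)⁻¹ * k⁻¹ * (k * b * k⁻¹) * k := by group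
            _ = k * (a : X)⁻¹ * k⁻¹ * (k * a * k⁻¹ * ((a : X)⁻¹ * b)) * k := by rw [e2]
            _ = _ := by group
        obtain ⟨e, he⟩ := (Finite.injective_iff_surjective.1 hf) ⟨_, hδ⟩
        have he' : k * e * k⁻¹ * (e : X)⁻¹ = k * y * k⁻¹ * y⁻¹ := congrArg Subtype.val he
        have hey : (e : X)⁻¹ * y = 1 := by
          refine hKfpf0 k hk hk1 _ (mul_mem (inv_mem (hEQ e.2)) hy) ?_
          have e2 : k * y * k⁻¹ = k * e * k⁻¹ * ((e : X)⁻¹ * y) := by
            rw [← mul_assoc, he', inv_mul_cancel_right]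
          calc k * ((e : X)⁻¹ * y) = k * (e : X)⁻¹ * k⁻¹ * (k * y * k⁻¹) * k := by group
            _ = k * (e : X)⁻¹ * k⁻¹ * (k * e * k⁻¹ * ((e : X)⁻¹ * y)) * k := by rw [e2]
            _ = _ := by group
        rw [← inv_mul_eq_one.1 hey]
        exact e.2
      r_mem := hr
      rel := hrel
      not_t := fun y hy k hk e => by
        have h1 := mul_mem (hQM hy) (hKM hk)
        rw [e] at h1
        exact h.x_notMem hl h1
      uniq := fun y hy k hk hmem => by
        set a := ((1 : X ⧸ center X) : (X ⧸ center X) ⧸ N)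
        have hk' := hmemC.1 (hKmem hk).1
        have h1 : π (y * k) • (π x • a) = π x • a := by
          have h2 : π (x * (y * k) * x) • a = a := hQb hmem
          rw [map_mul, map_mul, mul_smul, mul_smul] at h2
          calc π (y * k) • π x • a = π x • (π x • π (y * k) • π x • a) := by
                rw [smul_smul (π x) (π x), ← map_mul, mul_self h.ot.1 h.mem_x, map_one, one_smul]
            _ = π x • a := by rw [h2]
        have hy0 : π y = 1 := by
          refine mem_bot.1 (hS.inf_eq_bot ▸ mem_inf.2 ⟨hmemQ hy, ?_⟩)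
          rw [mem_stabilizer_iff]
          rw [map_mul, mul_smul, mem_stabilizer_iff.1 hk'.1.2] at h1
          exact h1
        have hy1 := hinjQ y hy hy0
        subst hy1
        refine ⟨rfl, inv_eq_one.1 (hinjQ k⁻¹ ?_ ?_)⟩
        · rw [one_mul, (hKmem hk).2] at hmem; exact hmem
        · rw [one_mul, (hKmem hk).2] at hmem
          refine mem_bot.1 (hS.inf_eq_bot ▸ mem_inf.2 ⟨hmemQ hmem, ?_⟩)
          rw [map_inv]; exact inv_mem hk'.1.2 }
  have hcQ : Nat.card Q = Nat.card Qb := by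
    refine Nat.card_eq_of_bijective (fun y => ⟨π y, hmemQ y.2⟩)
      ⟨fun a b e => Subtype.ext (hQπ a.2 b.2 (congrArg Subtype.val e)), fun q => ?_⟩
    obtain ⟨y, hy, hye⟩ := hQsurj q q.2
    exact ⟨⟨y, hy⟩, Subtype.ext hye⟩
  have hcE : Nat.card (block h hl) = Nat.card {q : Qb // q * q = 1} := by
    refine Nat.card_eq_of_bijective (fun e => ⟨⟨π (e : X), hmemQ (hEQ e.2)⟩, Subtype.ext (by
      show π (e : X) * π (e : X) = 1
      rw [← map_mul, hset.e_sq e e.2, map_one])⟩) ⟨fun a b e => Subtype.ext (hQπ (hEQ a.2) (hEQ b.2)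
        (congrArg (fun q : {q : Qb // q * q = 1} => (q.1 : X ⧸ center X)) e)), ?_⟩
    rintro ⟨⟨q, hq⟩, hqq⟩
    obtain ⟨y, hy, rfl⟩ := hQsurj q hq
    have hyy : y * y = 1 := hinjQ _ (mul_mem hy hy) (by rw [map_mul]; exact congrArg Subtype.val hqq)
    exact ⟨⟨y, hinv2 y hy hyy⟩, rfl⟩
  have hKcyc : IsCyclic K :=
    isCyclic_of_injective ((π.comp K.subtype).codRestrict C fun k => (hKmem k.2).1)
      fun a b e => Subtype.ext (hKC a.2 b.2 (congrArg Subtype.val e))
  refine ⟨Qb, Q, K, s, r, ⟨hdata, hset, ?_, hQM, hKM, hinjQ, ?_, ?_, hKodd, hKcyc⟩⟩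
  · refine le_antisymm ?_ fun q hq => ?_
    · rintro _ ⟨y, hy, rfl⟩; exact hmemQ hy
    · obtain ⟨y, hy, rfl⟩ := hQsurj q hq; exact ⟨y, hy, rfl⟩
  · rw [hcQ, hcE]; exact hdata.card_cases
  · intro hrE h3
    have h2p : IsPGroup 2 (block h hl) := hQp.to_le hEQ
    obtain ⟨β, hβ⟩ := IsPGroup.iff_card.1 h2p
    have h3' : 3 ∣ Nat.card K := by
      have hKE := hset.card_E
      have hd3 := three_dvd hdata hto hxN (hstab.le hsb.1) (invol_iff.2 ⟨hsb.2.2, hsb.2.1⟩) (hmemQ hr) hrelb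
        ((hcen _ hsb).2 _ (hmemQ hr))
        (invol_iff.2 ⟨sq_sq hdata hto hxN (hmemQ hr), fun e => hrE (hinv2 r hr (hinjQ _ (mul_mem hr hr)
          (by rw [map_mul]; exact e)))⟩) (β := β) (by omega) (by rw [← hcQ, h3, hβ])
      rw [show Nat.card K = 2 ^ β - 1 by omega]
      exact hd3
    obtain ⟨⟨ω, hω⟩, hωo⟩ := exists_prime_orderOf_dvd_card' 3 h3'
    refine ⟨ω, hω, fun e => ?_, ?_⟩
    · rw [orderOf_mk, e, orderOf_one] at hωo
      exact absurd hωo (by norm_num)
    · have hp := pow_orderOf_eq_one (⟨ω, hω⟩ : K)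
      rw [hωo] at hp
      have hp' : ω ^ 3 = 1 := congrArg Subtype.val hp
      rwa [pow_succ, pow_two] at hp'

end Reduced

end CfsgLib.RootInvol.OddPartner
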