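import Cfsg.Agent.Lib.RootSub.OddPartner.Big

/-!
# Exact lifts to `⟨E_d, x⟩`
-/

set_option autoImplicit false
set_option linter.style.haveILetI false
set_option linter.unusedSectionVars false

namespace CfsgLib.RootInvol.OddPartner

open CfsgLib.RootInvol.OddTr Subgroup CfsgLib.Invol

universe u

variable {G : Type u} [Group G] [Finite G] {D : Set G}

namespace Rooted

variable (R : Rooted D) {d x : G} (hd : d ∈ D) (hx : x ∈ D) (hnc : ¬ Commute d x)
include R

/-- Members of the class with equal image are equal. -/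
theorem eq_of_mk {a b : genGroup D d x}
    (ha : ∃ j : genGroup D d x, j * ⟨d, (seed_sameClass R.ot hd hx hnc).memd⟩ * j⁻¹ = a)
    (hb : ∃ j : genGroup D d x, j * ⟨d, (seed_sameClass R.ot hd hx hnc).memd⟩ * j⁻¹ = b)
    (h : QuotientGroup.mk' (Cfsg.pCore 2 (genGroup D d x)) a =
      QuotientGroup.mk' (Cfsg.pCore 2 (genGroup D d x)) b) : a = b := by
  obtain ⟨j, rfl⟩ := ha
  obtain ⟨k, rfl⟩ := hb
  exact Subtype.ext (R.eq_of_mk_eq_conj hd hx hnc j k h)

/-- The block lifts to `E(d)`. -/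
theorem split_block {hl : ¬ NoLine (quotD (Cfsg.sameCommutingClass D d) d x (seed_sameClass R.ot hd hx hnc).memd)}
    {y : genGroup D d x} (hy : QuotientGroup.mk' (Cfsg.pCore 2 (genGroup D d x)) y ∈
      Reduced.block (seed_sameClass R.ot hd hx hnc).reduced hl) :
    ∃ a : genGroup D d x, (a : G) ∈ Cfsg.sameCommutingSubgroup D d ∧
      QuotientGroup.mk' (Cfsg.pCore 2 (genGroup D d x)) (a⁻¹ * y) = 1 := by
  set S := seed_sameClass R.ot hd hx hnc
  rcases hy with h1 | ⟨⟨j, hj⟩, hjc⟩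
  · exact ⟨1, one_mem _, by rw [inv_one, one_mul]; exact h1⟩
  · have h2 := S.reflect (g := 1) (k := j) (by
      rw [one_mul, inv_one, mul_one,
        show QuotientGroup.mk' _ (j * ⟨d, S.memd⟩ * j⁻¹) = _ from hj]
      exact hjc)
    simp only [OneMemClass.coe_one, one_mul, inv_one, mul_one] at h2
    refine ⟨j * ⟨d, S.memd⟩ * j⁻¹, subset_closure (mem_sameClass_iff.2
      ⟨S.conj_mem_D j, same_conj_gen R.ot hd (R.lined_mem hd) hx hnc j.2 h2⟩), ?_⟩
    rw [map_mul, map_inv, show QuotientGroup.mk' _ (j * ⟨d, S.memd⟩ * j⁻¹) = _ from hj, inv_mul_cancel]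

/-- `E(d)` has at most as many elements as the block. -/
theorem card_le_block (hl : ¬ NoLine (quotD (Cfsg.sameCommutingClass D d) d x (seed_sameClass R.ot hd hx hnc).memd)) :
    Nat.card (Cfsg.sameCommutingSubgroup D d) ≤
      Nat.card (Reduced.block (seed_sameClass R.ot hd hx hnc).reduced hl) := by
  set S := seed_sameClass R.ot hd hx hnc
  set π := QuotientGroup.mk' (Cfsg.pCore 2 (genGroup D d x))
  have hmem : ∀ v : Cfsg.sameCommutingSubgroup D d, π ⟨v, sameSubgroup_le_genGroup v.2⟩ ∈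
      Reduced.block S.reduced hl := by
    intro v
    rcases R.mk_sameSubgroup hd hx hnc (v := ⟨v, sameSubgroup_le_genGroup v.2⟩) v.2 with h1 | ⟨c, hc, h1⟩
    · exact Or.inl h1
    · rw [h1]
      exact Or.inr ⟨S.reduced.sub ⟨c, hc, rfl⟩,
        (show Commute (⟨d, S.memd⟩ : genGroup D d x) c from Subtype.ext (commute_sameClass hd hc).eq).map π⟩
  refine Nat.card_le_card_of_injective (fun v => (⟨_, hmem v⟩ : Reduced.block S.reduced hl)) fun a b e => ?_
  have h1 : π (⟨a, sameSubgroup_le_genGroup a.2⟩ * ⟨b, sameSubgroup_le_genGroup b.2⟩) = 1 := by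
    rw [map_mul, show π ⟨a, sameSubgroup_le_genGroup a.2⟩ = π ⟨b, sameSubgroup_le_genGroup b.2⟩ from
      congrArg Subtype.val e, ← map_mul, show (⟨b, sameSubgroup_le_genGroup b.2⟩ : genGroup D d x) *
        ⟨b, sameSubgroup_le_genGroup b.2⟩ = 1 from Subtype.ext (sameSubgroup_sq R.ot.1 hd b.2), map_one]
  have h2 := R.eq_one_of_central_gen hd hx hnc (mul_mem a.2 b.2) (congrArg Subtype.val
    (R.pCore_central hd hx hnc ((QuotientGroup.eq_one_iff _).1 h1) ⟨x, S.memx⟩).eq)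
  refine Subtype.ext ?_
  rw [eq_inv_of_mul_eq_one_left h2, inv_eq_of_mul_eq_one_right (sameSubgroup_sq R.ot.1 hd b.2)]

/-- An element of an odd subgroup inverted by `x` lifts to one inverted by `x`. -/
theorem exists_inverted {K : Subgroup (genGroup D d x ⧸ Cfsg.pCore 2 (genGroup D d x))}
    (hodd : Odd (Nat.card K)) {k : genGroup D d x ⧸ Cfsg.pCore 2 (genGroup D d x)} (hk : k ∈ K)
    (hinv : QuotientGroup.mk' (Cfsg.pCore 2 (genGroup D d x)) ⟨x, (seed_sameClass R.ot hd hx hnc).memx⟩ * k *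
      QuotientGroup.mk' (Cfsg.pCore 2 (genGroup D d x)) ⟨x, (seed_sameClass R.ot hd hx hnc).memx⟩ = k⁻¹) :
    ∃ j : genGroup D d x, QuotientGroup.mk' (Cfsg.pCore 2 (genGroup D d x)) j = k ∧
      (x : G) * (j : G) * x = (j : G)⁻¹ := by
  haveI : Fact (Nat.Prime 2) := ⟨Nat.prime_two⟩
  set π := QuotientGroup.mk' (Cfsg.pCore 2 (genGroup D d x))
  set x0 : genGroup D d x := ⟨x, (seed_sameClass R.ot hd hx hnc).memx⟩
  obtain ⟨n, hn⟩ := IsPGroup.iff_card.1 (CfsgLib.Coprime.pCore_isPGroup (G := genGroup D d x) 2)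
  have hpow : ∀ o ∈ (Cfsg.pCore 2 (genGroup D d x)), o ^ 2 ^ n = 1 := fun o ho => by
    have := pow_card_eq_one' (x := (⟨o, ho⟩ : (Cfsg.pCore 2 (genGroup D d x))))
    rw [hn] at this
    exact congrArg Subtype.val this
  have hcop : (Nat.card K).Coprime (2 ^ n) :=
    Nat.Coprime.pow_right n (Nat.coprime_two_right.2 hodd)
  obtain ⟨⟨k', hk'⟩, hk'e⟩ := (powCoprime hcop).surjective ⟨k, hk⟩
  have hk'e' : k' ^ 2 ^ n = k := congrArg Subtype.val hk'e
  obtain ⟨j0, rfl⟩ := QuotientGroup.mk'_surjective (Cfsg.pCore 2 (genGroup D d x)) k'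
  set j := j0 ^ 2 ^ n
  have hπj : π j = k := by rw [map_pow]; exact hk'e'
  have hjm : j ^ Nat.card K = 1 := by
    rw [← pow_mul, mul_comm, pow_mul]
    refine hpow _ ((QuotientGroup.eq_one_iff _).1 (show π (j0 ^ Nat.card K) = 1 from ?_))
    rw [map_pow]
    exact congrArg Subtype.val (pow_card_eq_one' (x := (⟨π j0, hk'⟩ : K)))
  refine ⟨j, hπj, ?_⟩
  have hxx : x0 * x0 = 1 := Subtype.ext (mul_self R.ot.1 hx)
  set o := x0 * j * x0 * j
  have ho : o ∈ (Cfsg.pCore 2 (genGroup D d x)) := (QuotientGroup.eq_one_iff _).1 (show π o = 1 by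
    rw [map_mul, map_mul, map_mul, hπj, hinv, inv_mul_cancel])
  have hcen := R.pCore_central hd hx hnc ho j⁻¹
  have e : x0 * j * x0 = o * j⁻¹ := by rw [mul_inv_cancel_right]
  have hx0m : (x0 * j * x0) ^ Nat.card K = 1 := by
    rw [show x0 * j * x0 = x0 * j * x0⁻¹ by rw [inv_eq_of_mul_eq_one_right hxx], conj_pow, hjm, mul_one,
      mul_inv_cancel]
  rw [e, hcen.mul_pow, inv_pow, hjm, inv_one, mul_one] at hx0m
  have ho1 : o = 1 := eq_one_of_odd_of_pow_two (hodd.of_dvd_nat (orderOf_dvd_of_pow_eq_one hx0m)) (hpow o ho)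
  rw [ho1, one_mul] at e
  exact congrArg Subtype.val e

end Rooted

end CfsgLib.RootInvol.OddPartner
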