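import Cfsg.Agent.Lib.RootSub.OddPartner.Lift
import Cfsg.Agent.Lib.SzUnique.Main
import Cfsg.Agent.S0727
import Cfsg.Agent.S1121

/-!
# The lined case: recognition
-/

set_option autoImplicit false
set_option linter.style.haveILetI false
set_option linter.unusedSectionVars false

namespace CfsgLib.RootInvol.OddPartner

open CfsgLib.RootInvol.OddTr Subgroup CfsgLib.Invol CfsgLib.SECrit.Shape MulAction

universe u

namespace Reduced

variable {X : Type u} [Group X] [Finite X] {D A : Set X} {d x : X} (h : Reduced D A d x) (hl : ¬ NoLine D)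
include h hl

/-- The centre is trivial and `X` is `Q K` and `Q K x Q`. -/
theorem center_eq_bot_of_lifted {Qb : Subgroup (X ⧸ center X)} {Q K : Subgroup X} {s r : X}
    (L : Lifted h hl Qb Q K s r) :
    center X = ⊥ ∧ (∀ g, Big Q K x g) ∧
      (Nat.card Q = Nat.card (block h hl) ∨ Nat.card Q = Nat.card (block h hl) ^ 2) := by
  have hbig := fun g => L.set'.big (h.gen_block hl) L.cardQ L.omega' g
  refine ⟨(Subgroup.eq_bot_iff_forall _).2 fun z hz => ?_, fun g => (hbig g).1, (hbig 1).2⟩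
  rcases (hbig z).1 with ⟨y, hy, k, hk, rfl⟩ | ⟨y, hy, k, hk, q, hq, e⟩
  · set π := QuotientGroup.mk' (center X)
    have h1 : π (y * k) = 1 := (QuotientGroup.eq_one_iff _).2 hz
    -- a two-element which is also in the odd group `K`
    obtain ⟨j, hj⟩ := L.data.two ⟨π y, L.mapQ ▸ mem_map_of_mem π hy⟩
    have hj' : π y ^ 2 ^ j = 1 := congrArg Subtype.val hj
    rw [map_mul] at h1
    have h2 : π y = (π k)⁻¹ := eq_inv_of_mul_eq_one_left h1
    have h3 : π y = 1 := eq_one_two_odd (N := K.map π) (L.odd_K.of_dvd_nat (card_map_dvd K π))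
      (h2 ▸ inv_mem (mem_map_of_mem π hk)) hj'
    have hy1 := L.injQ y hy h3
    subst hy1
    rw [one_mul] at hz ⊢
    refine L.set'.sq_eq_one hk ?_
    have h4 := L.set'.inv k hk
    rw [mem_center_iff.1 hz x, mul_assoc, mul_self h.ot.1 h.mem_x, mul_one] at h4
    exact eq_inv_iff_mul_eq_one.1 h4
  · exfalso
    refine h.x_notMem hl ?_
    have h1 : x = (y * k)⁻¹ * (z * q⁻¹) := by rw [e]; group
    have := mul_mem (inv_mem (mul_mem (L.leQ hy) (L.leK hk))) (mul_mem (h.center_le_blockStab hl hz) (inv_mem (L.leQ hq)))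
    rwa [← h1] at this

theorem recognise_lifted {Qb : Subgroup (X ⧸ center X)} {Q K : Subgroup X} {s r : X}
    (L : Lifted h hl Qb Q K s r) :
    (Nat.card Q = Nat.card (block h hl) →
      ∃ (F : Type) (_ : Field F) (_ : Fintype F), CharP F 2 ∧ Fintype.card F = Nat.card (block h hl) ∧
        Nonempty (X ≃* Matrix.ProjectiveSpecialLinearGroup (Fin 2) F)) ∧
    (Nat.card Q = Nat.card (block h hl) ^ 2 → Cfsg.Lie.IsoSuzuki X) := by
  classical
  haveI : Fact (Nat.Prime 2) := ⟨Nat.prime_two⟩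
  obtain ⟨hZ, hbig, -⟩ := h.center_eq_bot_of_lifted hl L
  have hS0 := L.set'
  have hdata := L.data
  set π := QuotientGroup.mk' (center X) with hπ
  have hπinj : Function.Injective π := (MonoidHom.ker_eq_bot_iff π).1 (by rw [hπ, QuotientGroup.ker_mk', hZ])
  let eX : X ≃* X ⧸ center X := MulEquiv.ofBijective π ⟨hπinj, QuotientGroup.mk'_surjective _⟩
  set N := (blockStab h hl).map π with hN
  set G := X ⧸ center X
  have hxN : π x ∉ N := fun e => h.x_notMem hl ((h.mem_map_iff hl).1 e)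
  have hto := h.orderOf_map hl h.mem_x
  have hS := setup_of hdata hto hxN
  haveI := faithfulSMul hdata
  set a : G ⧸ N := ((1 : G) : G ⧸ N) with ha
  set b : G ⧸ N := π x • a with hb
  have hstab : stabilizer G a = N := MulAction.stabilizer_quotient N
  have hab : a ≠ b := fun e => hxN (hstab.le (mem_stabilizer_iff.2 e.symm))
  have hqE : 4 ≤ Nat.card (block h hl) := h.two_le_block hl
  have hKc := hS0.card_E
  -- the two point stabiliser
  have hD : ∀ g ∈ stabilizer G a ⊓ stabilizer G b, ∃ k ∈ K, π k = g := by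
    intro g hg
    obtain ⟨g, rfl⟩ := QuotientGroup.mk'_surjective (center X) g
    rcases hbig g with ⟨y, hy, k, hk, rfl⟩ | ⟨y, hy, k, hk, q, hq, rfl⟩
    · refine ⟨k, hk, ?_⟩
      have hk2 : π k ∈ stabilizer G a ⊓ stabilizer G b := by
        refine mem_inf.2 ⟨hstab.ge ((h.mem_map_iff hl).2 (L.leK hk)), ?_⟩
        rw [mem_stabilizer_iff, hb, smul_smul]
        have hkx : k * x = x * k⁻¹ := by rw [hS0.t_mul_k (inv_mem hk), inv_inv]
        rw [← map_mul, hkx, map_mul, mul_smul,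
          mem_stabilizer_iff.1 (hstab.ge ((h.mem_map_iff hl).2 (inv_mem (L.leK hk))))]
      have hy2 : π y ∈ stabilizer G b := by
        have := mul_mem (mem_inf.1 hg).2 (inv_mem (mem_inf.1 hk2).2)
        rwa [← map_inv, ← map_mul, mul_inv_cancel_right] at this
      have h1 : π y = 1 := mem_bot.1 (hS.inf_eq_bot ▸ mem_inf.2 ⟨L.mapQ ▸ mem_map_of_mem π hy, hy2⟩)
      rw [map_mul, h1, one_mul]
    · exfalso
      refine h.x_notMem hl ?_
      have h1 := (h.mem_map_iff hl).1 (hstab.le (mem_inf.1 hg).1)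
      have h2 : x = (y * k)⁻¹ * (y * k * x * q) * q⁻¹ := by group
      have := mul_mem (mul_mem (inv_mem (mul_mem (L.leQ hy) (L.leK hk))) h1) (inv_mem (L.leQ hq))
      rwa [← h2] at this
  have hinvd : ∀ g ∈ stabilizer G a ⊓ stabilizer G b,
      g ∈ Cfsg.invertedBy (stabilizer G a ⊓ stabilizer G b) (π x) := by
    intro g hg
    refine ⟨hg, ?_⟩
    obtain ⟨k, hk, rfl⟩ := hD g hg
    rw [← map_inv, ← map_inv, ← map_mul, ← map_mul, inv_eq h.ot.1 h.mem_x, hS0.inv k hk]
  have hfix : ∀ u ∈ Qb, u ≠ 1 → ∀ c : G ⧸ N, u • c = c → c = a := by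
    intro u hu hu1 c hc
    by_contra hca
    obtain ⟨_, -, huniq⟩ := (Cfsg.Agent.S1119.result hS).1 c c hca hca
    exact hu1 (congrArg Subtype.val ((huniq ⟨u, hu⟩ hc).trans (huniq 1 (one_smul G c)).symm))
  have hsemi : ∀ g ∈ stabilizer G a ⊓ stabilizer G b, ∀ c : G ⧸ N, c ≠ a → c ≠ b → g • c = c → g = 1 := by
    intro g hg c hca hcb hgc
    by_contra hg1
    obtain ⟨⟨u, hu⟩, huc, huniq⟩ := (Cfsg.Agent.S1119.result hS).1 b c hab.symm hca
    have hga := mem_stabilizer_iff.1 (mem_inf.1 hg).1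
    have hgb := mem_stabilizer_iff.1 (mem_inf.1 hg).2
    have hgu : g * u * g⁻¹ ∈ Qb := (mem_normalizer_iff.1 (hdata.norm (hstab.le (mem_inf.1 hg).1)) u).1 hu
    have h1 := congrArg Subtype.val (huniq ⟨g * u * g⁻¹, hgu⟩ (by
      show (g * u * g⁻¹) • b = c
      rw [mul_smul, mul_smul, inv_smul_eq_iff.2 hgb.symm, show u • b = c from huc, hgc]))
    dsimp only at h1
    have h2 := Cfsg.Agent.S1128.result hS hdata.pair_mul g (hinvd g hg) hg1
    have hu1 : u = 1 := mem_bot.1 (h2 ▸ mem_inf.2 ⟨hu, mem_centralizer_singleton_iff.2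
      ((mul_inv_eq_iff_eq_mul.1 h1).symm)⟩)
    have huc' : u • b = c := huc
    rw [hu1, one_smul] at huc'
    exact hcb huc'.symm
  have h2t := hS.two_transitive
  have hthree : ∀ g : G, ∀ p q w : G ⧸ N, p ≠ q → q ≠ w → p ≠ w → g • p = p → g • q = q → g • w = w → g = 1 := by
    intro g p q w hpq hqw hpw hp hq hw
    obtain ⟨k, hk1, hk2⟩ := (is_two_pretransitive_iff.1 h2t) hpq hab
    have e : ∀ z : G ⧸ N, g • z = z → (k * g * k⁻¹) • (k • z) = k • z := fun z hz => by
      rw [mul_smul, mul_smul, inv_smul_smul, hz]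
    have h1 := hsemi (k * g * k⁻¹) (mem_inf.2 ⟨mem_stabilizer_iff.2 (hk1 ▸ e p hp), mem_stabilizer_iff.2 (hk2 ▸ e q hq)⟩)
      (k • w) (hk1 ▸ fun e1 => hpw (smul_left_cancel k e1).symm) (hk2 ▸ fun e1 => hqw (smul_left_cancel k e1).symm) (e w hw)
    calc g = k⁻¹ * (k * g * k⁻¹) * k := by group
      _ = 1 := by rw [h1]; group
  -- simplicity
  have htop : ∀ H : Subgroup G, H.Normal → H ≠ ⊥ → H = ⊤ := by
    intro H hH hne
    by_cases hev : Even (Nat.card H)
    swap
    · exact absurd (CfsgLib.HallNumbers.no_odd_normal hdata.oddCore_eq_bot H hH (Nat.not_even_iff_odd.1 hev)) hne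
    obtain ⟨y, hy, hyo⟩ := exists_invol_mem hev
    refine eq_top_iff.2 fun g _ => ?_
    obtain ⟨g, rfl⟩ := QuotientGroup.mk'_surjective (center X) g
    have hle : closure D ≤ H.comap π := (closure_le _).2 fun e he => by
      obtain ⟨k, hk⟩ := (Cfsg.Agent.S1121.result hS).2 y (π e) (invol_ne_one hyo) (invol_mul_self hyo)
        (h.map_ne_one hl he) (invol_mul_self (h.orderOf_map hl he))
      show π e ∈ H
      rw [← hk]
      exact hH.conj_mem y hy k
    exact hle (h.ot.1.generates ▸ mem_top g)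
  haveI hnt : Nontrivial G := ⟨⟨π x, 1, invol_ne_one hto⟩⟩
  haveI hsimp : IsSimpleGroup G := ⟨fun H hH => (em (H = ⊥)).imp_right (htop H hH)⟩
  haveI : Fintype (G ⧸ N) := Fintype.ofFinite _
  have hinj1 : ∀ g : X, π g = 1 → g = 1 := fun g e => hπinj (e.trans (map_one π).symm)
  have hQnt : ∃ u : G, u ∈ Qb ∧ u ≠ 1 :=
    ⟨π s, L.mapQ ▸ mem_map_of_mem π hS0.s_memQ, fun e => hS0.s_ne (hinj1 s e)⟩
  have hKnt : ∃ k ∈ K, k ≠ 1 := by
    by_contra hh
    push Not at hh
    have : Nat.card K = 1 := card_eq_one.2 ((Subgroup.eq_bot_iff_forall _).2 hh)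
    omega
  have hKD : ∀ k ∈ K, π k ∈ stabilizer G a ⊓ stabilizer G b := by
    intro k hk
    refine mem_inf.2 ⟨hstab.ge ((h.mem_map_iff hl).2 (L.leK hk)), ?_⟩
    rw [mem_stabilizer_iff, hb, smul_smul, ← map_mul,
      show k * x = x * k⁻¹ by rw [hS0.t_mul_k (inv_mem hk), inv_inv],
      map_mul, mul_smul, mem_stabilizer_iff.1 (hstab.ge ((h.mem_map_iff hl).2 (inv_mem (L.leK hk))))]
  have hZas : Cfsg.IsZassenhausGroup G (G ⧸ N) := by
    refine ⟨inferInstance, h2t, hthree, ?_, fun H hH htr => ?_⟩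
    · obtain ⟨k, hk, hk1⟩ := hKnt
      exact ⟨π k, fun e => hk1 (hinj1 k e), a, b, hab,
        (mem_inf.1 (hKD k hk)).1, (mem_inf.1 (hKD k hk)).2⟩
    · refine ⟨a, fun hbot => ?_⟩
      rcases em (H = ⊥) with e | e
      · obtain ⟨u, hu⟩ := htr.exists_smul_eq a b
        refine hab ?_
        rw [← hu]
        have : (u : G) = 1 := mem_bot.1 (e ▸ u.2)
        show a = (u : G) • a
        rw [this, one_smul]
      · obtain ⟨u, hu, hu1⟩ := hQnt
        have huH : u ∈ H := htop H hH e ▸ mem_top u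
        have h9 : (⟨u, huH⟩ : H) ∈ stabilizer H a :=
          mem_stabilizer_iff.2 (mem_stabilizer_iff.1 (hS.le hu) : u • a = a)
        exact hu1 (congrArg Subtype.val (mem_bot.1 (hbot.le h9)))
  have hodd := hS.odd_card
  have hΩ : Nat.card (G ⧸ N) = Nat.card Qb + 1 := hdata.card_points
  have hQbQ : Nat.card Qb = Nat.card Q := by
    rw [← L.mapQ]
    exact (Nat.card_congr (Q.equivMapOfInjective π hπinj).toEquiv).symm
  have P : CfsgLib.Char.FeitZ.Pt G a b Qb :=
    ⟨hZas, hab, hS.le, by rw [← Nat.card_eq_fintype_card, hΩ], hfix, hodd⟩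
  have hcEQ : Nat.card {q : Qb // q * q = 1} = Nat.card (block h hl) := by
    symm
    refine Nat.card_eq_of_bijective (fun e => ⟨⟨π (e : X), L.mapQ ▸ mem_map_of_mem π (hS0.le e.2)⟩, Subtype.ext (by
      show π (e : X) * π (e : X) = 1
      rw [← map_mul, hS0.e_sq e e.2, map_one])⟩) ⟨fun u v e => Subtype.ext (hπinj
        (congrArg (fun q : {q : Qb // q * q = 1} => (q.1 : G)) e)), ?_⟩
    rintro ⟨⟨q, hq⟩, hqq⟩
    rw [← L.mapQ] at hq
    obtain ⟨y, hy, rfl⟩ := hq
    exact ⟨⟨y, hS0.q_invol y hy (hπinj (by rw [map_mul, map_one]; exact congrArg Subtype.val hqq))⟩, rfl⟩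
  refine ⟨fun h1 => ?_, fun h2 => ?_⟩
  · obtain ⟨f, hf⟩ := IsPGroup.iff_card.1 hdata.two
    have hf1 : 1 ≤ f := by
      by_contra h0
      rw [show f = 0 by omega, pow_zero] at hf
      omega
    have h3 : IsMultiplyPretransitive G (G ⧸ N) 3 := by
      -- the two point stabiliser is transitive on the other points
      have htrans : ∀ c c' : G ⧸ N, c ≠ a → c ≠ b → c' ≠ a → c' ≠ b → ∃ g ∈ stabilizer G a ⊓ stabilizer G b, g • c = c' := by
        intro c c' hca hcb hc'a hc'b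
        have hmem : ∀ k : K, π k • c ≠ a ∧ π k • c ≠ b := fun k =>
          ⟨fun e => hca (smul_left_cancel _ (e.trans (mem_inf.1 (hKD k k.2)).1.symm)),
            fun e => hcb (smul_left_cancel _ (e.trans (mem_inf.1 (hKD k k.2)).2.symm))⟩
        have hbij := (Nat.bijective_iff_injective_and_card
          (fun k : K => (⟨π k • c, hmem k⟩ : {z : G ⧸ N // z ≠ a ∧ z ≠ b}))).2 ⟨fun k k' e => by
            refine Subtype.ext (inv_mul_eq_one.1 (hπinj ?_)).symm
            rw [map_one]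
            refine hsemi _ (hKD _ (mul_mem (inv_mem k'.2) k.2)) c hca hcb ?_
            rw [map_mul, mul_smul, show π k • c = π k' • c from congrArg Subtype.val e, map_inv, inv_smul_smul], by
            rw [Nat.card_eq_fintype_card (α := {z : G ⧸ N // z ≠ a ∧ z ≠ b}), Fintype.card_subtype,
              show Finset.univ.filter (fun z : G ⧸ N => z ≠ a ∧ z ≠ b) = Finset.univ \ {a, b} by ext z; simp,
              Finset.card_sdiff_of_subset (Finset.subset_univ _), Finset.card_pair hab, Finset.card_univ,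
              ← Nat.card_eq_fintype_card, hΩ]
            omega⟩
        obtain ⟨k, hk⟩ := hbij.2 ⟨c', hc'a, hc'b⟩
        exact ⟨π k, hKD k k.2, congrArg Subtype.val hk⟩
      refine ⟨fun v w => ?_⟩
      have hne : ∀ (v : Fin 3 ↪ G ⧸ N), v 0 ≠ v 1 ∧ v 2 ≠ v 0 ∧ v 2 ≠ v 1 := fun v =>
        ⟨fun e => absurd (v.injective e) (by decide), fun e => absurd (v.injective e) (by decide),
          fun e => absurd (v.injective e) (by decide)⟩
      obtain ⟨g, hg0, hg1⟩ := (is_two_pretransitive_iff.1 h2t) (hne v).1 hab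
      obtain ⟨g', hg0', hg1'⟩ := (is_two_pretransitive_iff.1 h2t) (hne w).1 hab
      obtain ⟨k, hk, hke⟩ := htrans (g • v 2) (g' • w 2)
        (hg0 ▸ fun e => (hne v).2.1 (smul_left_cancel g e)) (hg1 ▸ fun e => (hne v).2.2 (smul_left_cancel g e))
        (hg0' ▸ fun e => (hne w).2.1 (smul_left_cancel g' e)) (hg1' ▸ fun e => (hne w).2.2 (smul_left_cancel g' e))
      obtain ⟨hka, hkb⟩ := mem_inf.1 hk
      refine ⟨g'⁻¹ * k * g, Function.Embedding.ext fun i => ?_⟩
      show (g'⁻¹ * k * g) • v i = w i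
      rw [mul_smul, mul_smul, inv_smul_eq_iff]
      fin_cases i
      · show k • g • v 0 = g' • w 0
        rw [hg0, hg0', mem_stabilizer_iff.1 hka]
      · show k • g • v 1 = g' • w 1
        rw [hg1, hg1', mem_stabilizer_iff.1 hkb]
      · exact hke
    have hs3 : ∀ v : Fin 3 ↪ G ⧸ N, stabilizer G v = ⊥ := fun v => (Subgroup.eq_bot_iff_forall _).2 fun g hg => by
      have e : ∀ i, g • v i = v i := fun i => congrArg (fun w : Fin 3 ↪ G ⧸ N => w i) hg
      exact hthree g (v 0) (v 1) (v 2) (fun e => absurd (v.injective e) (by decide))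
        (fun e => absurd (v.injective e) (by decide)) (fun e => absurd (v.injective e) (by decide)) (e 0) (e 1) (e 2)
    set R := (toPermHom G (G ⧸ N)).range
    let φ : G ≃* R := MonoidHom.ofInjective toPerm_injective
    have hφ : ∀ (g : G) (ω : G ⧸ N), φ g • ω = g • ω := fun _ _ => rfl
    have h3R : IsMultiplyPretransitive R (G ⧸ N) 3 := by
      haveI : IsPretransitive G (Fin 3 ↪ G ⧸ N) := h3
      exact ⟨fun v w => (exists_smul_eq G v w).elim fun g hg => ⟨φ g, by
        rw [← hg]; ext i; exact hφ g (v i)⟩⟩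
    have hsR : ∀ v : Fin 3 ↪ G ⧸ N, stabilizer R v = ⊥ := fun v => (Subgroup.eq_bot_iff_forall _).2 fun p hp => by
      obtain ⟨g, rfl⟩ := φ.surjective p
      have hg : g ∈ stabilizer G v := by
        rw [mem_stabilizer_iff] at hp ⊢
        ext i
        exact (hφ g (v i)).symm.trans (congrArg (fun w : Fin 3 ↪ G ⧸ N => w i) hp)
      rw [hs3 v, mem_bot] at hg
      rw [hg, map_one]
    obtain ⟨F, i1, i2, hF, ⟨e⟩⟩ := Cfsg.Agent.S0727.result hf1
      (by rw [← Nat.card_eq_fintype_card, hΩ, hf]) R h3R hsR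
    obtain ⟨e2⟩ := CfsgLib.Char.SuzZ.nonempty_psl_equiv hf1 hF
    exact ⟨F, i1, i2, (CfsgLib.PushUp.charP_of_card (p := 2) hF).1, by omega, ⟨((eX.trans φ).trans e).trans e2⟩⟩
  · have hna : ∃ u v : Qb, u * v ≠ v * u := by
      by_contra hh
      push Not at hh
      have h5 := hdata.sq_eq_one_of_comm (fun u hu v hv => congrArg Subtype.val (hh ⟨u, hu⟩ ⟨v, hv⟩))
      rw [hcEQ, hQbQ, h2, pow_two] at h5
      nlinarith
    obtain ⟨F, i1, i2, m, hm, hF, ⟨e⟩⟩ := CfsgLib.SzUnique.isoSuzuki_of_pt P hdata.two hna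
    exact ⟨F, i1, i2, m, hm, hF, ⟨eX.trans e⟩⟩

theorem recognise (hC : CfsgLib.SECrit.CritThm.{u}) :
    4 ≤ Nat.card (block h hl) ∧
    ((∃ (F : Type) (_ : Field F) (_ : Fintype F), CharP F 2 ∧ Fintype.card F = Nat.card (block h hl) ∧
      Nonempty (X ≃* Matrix.ProjectiveSpecialLinearGroup (Fin 2) F)) ∨ Cfsg.Lie.IsoSuzuki X) := by
  obtain ⟨Qb, Q, K, s, r, L⟩ := h.exists_lifted hl hC
  obtain ⟨-, -, h1 | h2⟩ := h.center_eq_bot_of_lifted hl L
  · exact ⟨h.two_le_block hl, Or.inl ((h.recognise_lifted hl L).1 h1)⟩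
  · exact ⟨h.two_le_block hl, Or.inr ((h.recognise_lifted hl L).2 h2)⟩

end Reduced

end CfsgLib.RootInvol.OddPartner
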