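import Cfsg.Agent.Lib.RootSub.OddPartner.Apart
import Mathlib.Algebra.BigOperators.Group.Finset.Basic
import Mathlib.Data.Fintype.BigOperators

/-!
# The block of `d` at `f` has congruent members

Otherwise the group of the block and `x` separates the block, and a torus, regular on the block and fixing
`E(f)`, makes `d * g` a member.
-/

set_option autoImplicit false
set_option linter.style.haveILetI false
set_option linter.unusedSectionVars false

namespace CfsgLib.RootInvol.OddPartner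

open CfsgLib.RootInvol.OddTr Subgroup CfsgLib.Invol

universe u

variable {G : Type u} [Group G] [Finite G] {D : Set G}

namespace Cfg

variable {d x f g : G} (C : Cfg D d x f g) (M : Minimal D)
include C M

theorem seed_le : closure (blockAt D f d ∪ {x}) ≤ closure (comp D f d) :=
  closure_mono (Set.union_subset (fun _ h => h.1) (Set.singleton_subset_iff.2 (C.x_mem M)))

theorem base_seed_commute {v : G} (hv : v ∈ Cfsg.sameCommutingSubgroup D f) {j : G}
    (hj : j ∈ closure (blockAt D f d ∪ {x})) : Commute v j :=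
  commute_of_mem_closure_centre (fun a ha => by
    rcases ha with ha | ha
    · exact commute_sameSubgroup (C.block_sub M ha).1 (C.block_sub M ha).2 hv
    · rw [Set.mem_singleton_iff] at ha
      rw [ha]
      exact commute_sameSubgroup C.hx C.fx hv) hj

/-- **There are congruent members.** -/
theorem exists_mate (hC : CfsgLib.SECrit.CritThm.{u}) :
    ∃ c, Mate (comp D f d) d c ∧ c ≠ d := by
  classical
  by_contra hno
  push Not at hno
  haveI : Fact (Nat.Prime 2) := ⟨Nat.prime_two⟩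
  haveI : Fintype G := Fintype.ofFinite G
  have R := M.rooted
  set Y := comp D f d
  set T := blockAt D f d
  have hB : IsBlocks D Y := C.blocksY M
  have S := C.seed M
  set π := QuotientGroup.mk' (Cfsg.pCore 2 (closure (T ∪ {x})))
  set d0 : closure (T ∪ {x}) := ⟨d, S.memd⟩
  obtain ⟨kx, hkx, hkxe⟩ := S.exists_conj_x
  have hlift : ∀ {a : G}, a ∈ T → a ∈ closure (T ∪ {x}) := fun ha => subset_closure (Or.inl ha)
  have hnomate : ∀ a ∈ T, ∀ b ∈ T, Mate Y a b → a = b := by
    intro a ha b hb h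
    obtain ⟨k, hk, hke⟩ := hB.isConj ha.1 self_mem_comp
    have h1 := hB.mate_conj h hk
    rw [hke] at h1
    exact mul_left_cancel (mul_right_cancel (hke.trans (hno _ h1).symm))
  have hclass : ∀ {j : closure (T ∪ {x})}, Commute (π d0) (π (j * d0 * j⁻¹)) →
      (j : G) * d * (j : G)⁻¹ ∈ T := by
    intro j hj
    have h1 := S.reflect (g := 1) (k := j) (by rw [one_mul, inv_one, mul_one]; exact hj)
    simp only [OneMemClass.coe_one, one_mul, inv_one, mul_one] at h1
    exact ⟨hB.inner.conj j (C.seed_le M j.2) d self_mem_comp, h1⟩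
  -- what is congruent to the identity fixes the block of `x` up to commuting
  have hmove : ∀ o : closure (T ∪ {x}), π o = 1 → Commute x ((o : G) * x * (o : G)⁻¹) := by
    intro o ho
    set k0 : closure (T ∪ {x}) := ⟨kx, hkx⟩
    have e : π (o * k0 * d0 * (o * k0)⁻¹) = π (k0 * d0 * k0⁻¹) := by
      simp only [map_mul, map_inv, ho, one_mul]
    have h1 := S.reflect (g := k0) (k := o * k0) ((congrArg (Commute (π (k0 * d0 * k0⁻¹))) e).mpr (Commute.refl _))
    have e2 : ((o * k0 : closure (T ∪ {x})) : G) * d * ((o * k0 : closure (T ∪ {x})) : G)⁻¹ =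
        (o : G) * (kx * d * kx⁻¹) * (o : G)⁻¹ := by
      show (o : G) * kx * d * ((o : G) * kx)⁻¹ = _
      group
    rw [e2, show (k0 : G) = kx from rfl, hkxe] at h1
    exact h1
  have hinj : ∀ {a b : G} (ha : a ∈ T) (hb : b ∈ T),
      π ⟨a, hlift ha⟩ = π ⟨b, hlift hb⟩ → a = b := by
    intro a b ha hb e
    have ho : π (⟨a, hlift ha⟩ * ⟨b, hlift hb⟩) = 1 := by
      rw [map_mul, e, ← map_mul, show (⟨b, hlift hb⟩ : closure (T ∪ {x})) * ⟨b, hlift hb⟩ = 1 from
        Subtype.ext (mul_self R.ot.1 (C.block_sub M hb).1), map_one]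
    exact hnomate a ha b hb ⟨ha.1, hb.1, C.block_comm M ha hb, hB.kern_of ha.1 hb.1 (C.x_mem M)
      (C.block_comm M ha hb) (fun h => C.block_nc M ha h) (hmove _ ho)⟩
  have hl' : ¬ NoLine (quotD T d x S.memd) := by
    obtain ⟨l, hl, hp, hc⟩ := R.exists_line C.hd
    exact S.not_noLine (C.class_mem M hl) (C.class_mem M hp) hc
  obtain ⟨Q, K, s, r, Sh⟩ := S.reduced.exists_shape hl' hC
  obtain ⟨Qb, L⟩ := Sh.lifted
  have himage : ∀ {a : G} (ha : a ∈ T), π ⟨a, hlift ha⟩ ∈ Reduced.block S.reduced hl' ∧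
      π ⟨a, hlift ha⟩ ≠ 1 := by
    intro a ha
    obtain ⟨k, hk, hke⟩ := S.exists_conj_A ha
    have e : (⟨k, hk⟩ : closure (T ∪ {x})) * d0 * (⟨k, hk⟩ : closure (T ∪ {x}))⁻¹ = ⟨a, hlift ha⟩ :=
      Subtype.ext hke
    refine ⟨Or.inr ⟨⟨_, congrArg π e⟩, (show Commute d0 ⟨a, hlift ha⟩ from Subtype.ext ha.2.eq).map π⟩, ?_⟩
    rw [← e]
    exact S.mk_ne_one _
  -- the product of three
  have hgT : g ∈ T := C.g_mem M
  have hdT : d ∈ T := S.mem
  obtain ⟨w, hw, hwe⟩ : ∃ w, ∃ hw : w ∈ T, π ⟨w, hlift hw⟩ = π ⟨d, hlift hdT⟩ * π ⟨g, hlift hgT⟩ := by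
    rcases mul_mem (himage hdT).1 (himage hgT).1 with h1 | ⟨⟨j, hj⟩, hjc⟩
    · refine absurd (hinj hdT hgT ?_) fun e => C.ns (e ▸ rfl)
      rw [eq_inv_of_mul_eq_one_left h1, ← map_inv]
      exact congrArg π (Subtype.ext (inv_eq R.ot.1 C.hg))
    · have hj' := hclass (j := j) (by rw [show π (j * d0 * j⁻¹) = _ from hj]; exact hjc)
      exact ⟨_, hj', hj⟩
  set v := d * g * w with hvdef
  have hvA : v ∈ base D f d := mul_mem (mul_mem (subset_closure (Or.inl hdT)) (subset_closure (Or.inl hgT)))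
    (subset_closure (Or.inl hw))
  have hv1 : π (⟨d, hlift hdT⟩ * ⟨g, hlift hgT⟩ * ⟨w, hlift hw⟩) = 1 := by
    rw [map_mul, map_mul, ← hwe, ← map_mul, show (⟨w, hlift hw⟩ : closure (T ∪ {x})) * ⟨w, hlift hw⟩ = 1 from
      Subtype.ext (mul_self R.ot.1 (C.block_sub M hw).1), map_one]
  have hvx : Commute v x := by
    have hv0 : v ∈ closure (T ∪ {x}) := mul_mem (mul_mem (hlift hdT) (hlift hgT)) (hlift hw)
    have hπv : π ⟨v, hv0⟩ = 1 := hv1
    set j : closure (T ∪ {x}) := (⟨kx, hkx⟩ : closure (T ∪ {x}))⁻¹ * ⟨v, hv0⟩ * ⟨kx, hkx⟩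
    have hπj : π j = 1 := by rw [map_mul, map_mul, hπv, mul_one, map_inv, inv_mul_cancel]
    have hπd : π (j * d0 * j⁻¹) = π d0 := by
      rw [map_mul, map_mul, map_inv, hπj, one_mul, inv_one, mul_one]
    have hjT := hclass (j := j) (by rw [hπd])
    have e := hinj hjT hdT hπd
    have h2 : kx⁻¹ * v * kx * d * (kx⁻¹ * v * kx)⁻¹ = d := e
    have h3 := congrArg (fun q => kx * q * kx⁻¹) h2
    simp only [hkxe] at h3
    rw [← conj_eq_self_iff]
    refine Eq.trans ?_ h3
    rw [← hkxe]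
    group
  have hvE := C.fix_x M hC hvA hvx
  -- the torus
  letI : CommGroup (base D f d) :=
    { (inferInstance : Group (base D f d)) with
      mul_comm := fun a b => Subtype.ext (C.base_commute M a.2 b.2).eq }
  choose lift' hlift' using fun k : K => QuotientGroup.mk'_surjective
    (Cfsg.pCore 2 (closure (T ∪ {x}))) (k : closure (T ∪ {x}) ⧸ Cfsg.pCore 2 (closure (T ∪ {x})))
  have hmoveT : ∀ (k : K) {a : G}, a ∈ T → (lift' k : G) * a * (lift' k : G)⁻¹ ∈ T := by
    intro k a ha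
    have h1 : (lift' k : G) * d * (lift' k : G)⁻¹ ∈ T := hclass (j := lift' k) (by
      rw [map_mul, map_mul, map_inv, hlift' k]
      exact Sh.leK k.2)
    have h2 := hB.inner.conj _ (C.seed_le M (lift' k).2) a ha.1
    exact ⟨h2, hB.clique self_mem_comp h1.1 h2 h1.2 ((commute_conj_iff (lift' k : G)).2 ha.2)⟩
  let φ : K → T → T := fun k a => ⟨_, hmoveT k a.2⟩
  have hπφ : ∀ (k : K) (a : T), π ⟨_, hlift (φ k a).2⟩ = cj k.1 (π ⟨_, hlift a.2⟩) := by
    intro k a
    show π (lift' k * ⟨_, hlift a.2⟩ * (lift' k)⁻¹) = _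
    rw [map_mul, map_mul, map_inv, hlift' k]
    rfl
  have hbij : ∀ a : T, Function.Bijective fun k => φ k a := by
    intro a
    obtain ⟨ka, ⟨hka, hkae⟩, -⟩ := Sh.set'.reg _ (himage a.2).1 (himage a.2).2
    refine ⟨fun k k' e => ?_, fun b => ?_⟩
    · have h1 := congrArg (fun b : T => π ⟨_, hlift b.2⟩) e
      simp only [hπφ] at h1
      rw [← hkae] at h1
      have h2 : cj (k.1 * ka) s = cj (k'.1 * ka) s := by rw [← cj_cj, ← cj_cj]; exact h1
      exact Subtype.ext (mul_right_cancel (Sh.set'.cj_s_inj (mul_mem k.2 hka) (mul_mem k'.2 hka) h2))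
    · obtain ⟨kb, ⟨hkb, hkbe⟩, -⟩ := Sh.set'.reg _ (himage b.2).1 (himage b.2).2
      refine ⟨⟨kb * ka⁻¹, mul_mem hkb (inv_mem hka)⟩, Subtype.ext (hinj (φ _ a).2 b.2 ?_)⟩
      rw [hπφ, ← hkae, ← hkbe]
      simp [cj, mul_assoc]
  let toA : T → base D f d := fun a => ⟨a, subset_closure (Or.inl a.2)⟩
  let P : base D f d := ∏ a : T, toA a
  have hP : ∀ a : T, ∏ k : K, toA (φ k a) = P := fun a =>
    Fintype.prod_bijective _ (hbij a) _ _ fun _ => rfl
  have hodd : Odd (Fintype.card K) := by rw [← Nat.card_eq_fintype_card]; exact L.odd_K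
  have hkey : ∀ a b c : T, a.1 * b.1 * c.1 ∈ Cfsg.sameCommutingSubgroup D f →
      toA a * toA b * toA c = P := by
    intro a b c habc
    have h1 : ∀ k : K, toA (φ k a) * toA (φ k b) * toA (φ k c) = toA a * toA b * toA c := by
      intro k
      refine Subtype.ext ?_
      show (lift' k : G) * a.1 * (lift' k : G)⁻¹ * ((lift' k : G) * b.1 * (lift' k : G)⁻¹) *
        ((lift' k : G) * c.1 * (lift' k : G)⁻¹) = a.1 * b.1 * c.1
      have hcm : (lift' k : G) * (a.1 * b.1 * c.1) = a.1 * b.1 * c.1 * (lift' k : G) :=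
        (C.base_seed_commute M habc (lift' k).2).eq.symm
      calc _ = (lift' k : G) * (a.1 * b.1 * c.1) * (lift' k : G)⁻¹ := by group
        _ = _ := by rw [hcm, mul_inv_cancel_right]
    have h2 : (toA a * toA b * toA c) ^ Fintype.card K = P := by
      rw [← Finset.card_univ, ← Finset.prod_const, ← Finset.prod_congr rfl fun k _ => h1 k,
        Finset.prod_mul_distrib, Finset.prod_mul_distrib, hP, hP, hP,
        show P * P = 1 from Subtype.ext (C.base_sq M P.2), one_mul]
    obtain ⟨n, hn⟩ := hodd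
    rw [hn, pow_succ, pow_mul, pow_two,
      show (toA a * toA b * toA c) * (toA a * toA b * toA c) = 1 from
        Subtype.ext (C.base_sq M (toA a * toA b * toA c).2), one_pow, one_mul] at h2
    exact h2
  obtain ⟨l, hl, hp, hc⟩ := R.exists_line C.hd
  have e0 : d * l * (d * l) = 1 := mul_self R.ot.1 hp.1
  have hP1 := hkey ⟨d, hdT⟩ ⟨l, C.class_mem M hl⟩ ⟨d * l, C.class_mem M hp⟩
    (show d * l * (d * l) ∈ _ by rw [e0]; exact one_mem _)
  have hP2 := hkey ⟨d, hdT⟩ ⟨g, hgT⟩ ⟨w, hw⟩ hvE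
  have e : d * g * w = 1 := (congrArg Subtype.val (hP2.trans hP1.symm)).trans e0
  refine C.ns (same_of_line R.ot C.hd C.hg ?_ C.dg)
  rw [eq_inv_of_mul_eq_one_left e, inv_eq R.ot.1 (C.block_sub M hw).1]
  exact (C.block_sub M hw).1

end Cfg

end CfsgLib.RootInvol.OddPartner
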