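import Cfsg.Agent.Lib.RootSub.OddPartner.Relations
import Cfsg.Agent.Lib.RootSub.OddPartner.Lifts
import Cfsg.Agent.Lib.RootSub.OddPartner.Endgame

/-!
# No pair is of Suzuki type
-/

set_option autoImplicit false
set_option linter.style.haveILetI false
set_option linter.unusedSectionVars false

namespace CfsgLib.RootInvol.OddPartner

open CfsgLib.RootInvol.OddTr Subgroup CfsgLib.Invol

universe u

variable {G : Type u} [Group G] [Finite G] {D : Set G}

namespace Cfg

variable {d x f g : G} (C : Cfg D d x f g) (M : Minimal D)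
include C M

/-- The configuration does not exist. -/
theorem false_big (hC : CfsgLib.SECrit.CritThm.{u}) : False := by
  classical
  haveI : Fact (Nat.Prime 2) := ⟨Nat.prime_two⟩
  have R := M.rooted
  obtain ⟨p, hp, hdp, hxp, hfp⟩ := C.exists_f2 M
  set SS := seed_sameClass R.ot C.hd C.hx C.nc with hSS
  have hl := R.not_noLine C.hd C.hx C.nc
  obtain ⟨Q, K, s, r, Sh⟩ := SS.reduced.exists_shape hl hC
  set π := QuotientGroup.mk' (Cfsg.pCore 2 (genGroup D d x)) with hπ
  set x0 : genGroup D d x := ⟨x, SS.memx⟩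
  set d0 : genGroup D d x := ⟨d, SS.memd⟩
  obtain ⟨m, hm⟩ := SS.card_quot
  -- the Suzuki type
  have hq : Nat.card Q = Nat.card (Reduced.block SS.reduced hl) ^ 2 := by
    rcases Sh.cardQ with hq | hq
    · exact absurd ((R.small_iff hC C.hd C.hx C.nc).2 (hm ▸ (Sh.three_dvd hq).mul_right _)) C.big
    · exact hq
  have hrE : r ∉ Reduced.block SS.reduced hl := Sh.r_notMem hq
  have hn3 : ¬ 3 ∣ Nat.card (genGroup D d x) := fun h3 => by
    rw [show Nat.card (genGroup D d x) = _ from hm] at h3
    rcases Nat.prime_three.dvd_mul.1 h3 with h3 | h3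
    · exact Sh.three_not_dvd hq h3
    · exact absurd (Nat.prime_three.dvd_of_dvd_pow h3) (by norm_num)
  -- stabiliser lifts
  have hstab : ∀ {y : genGroup D d x}, π y ∈ Reduced.blockStab SS.reduced hl →
      Commute d ((y : G) * d * (y : G)⁻¹) := by
    intro y hy
    have h1 := SS.reflect (g := 1) (k := y) (by
      rw [one_mul, inv_one, mul_one, map_mul, map_mul, map_inv]; exact hy)
    simpa only [OneMemClass.coe_one, one_mul, inv_one, mul_one] using h1
  have hnorm : ∀ {y : genGroup D d x}, π y ∈ Reduced.blockStab SS.reduced hl →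
      (y : G) ∈ stabBoth (hull D f d) (Cfsg.sameCommutingSubgroup D f) := fun {y} hy =>
    C.norm_hull M y.2 (hstab hy)
  have hclassmk : ∀ {a : G} (ha : a ∈ Cfsg.sameCommutingClass D d),
      π ⟨a, sameClass_mem_genGroup ha⟩ ∈ Reduced.block SS.reduced hl ∧
        ∃ j : genGroup D d x, j * d0 * j⁻¹ = ⟨a, sameClass_mem_genGroup ha⟩ := by
    intro a ha
    obtain ⟨k, hk, hke⟩ := SS.exists_conj_A ha
    have e : (⟨k, hk⟩ : genGroup D d x) * d0 * (⟨k, hk⟩ : genGroup D d x)⁻¹ =
        ⟨a, sameClass_mem_genGroup ha⟩ := Subtype.ext hke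
    exact ⟨Or.inr ⟨⟨_, congrArg π e⟩,
      (show Commute d0 ⟨a, sameClass_mem_genGroup ha⟩ from Subtype.ext (commute_sameClass C.hd ha).eq).map π⟩,
      _, e⟩
  have hexact : ∀ {y : genGroup D d x}, π y ∈ Q → ∀ a ∈ Cfsg.sameCommutingClass D d, Commute (y : G) a := by
    intro y hy a ha
    obtain ⟨hab, j, hj⟩ := hclassmk ha
    have h1 : y * ⟨a, sameClass_mem_genGroup ha⟩ * y⁻¹ = ⟨a, sameClass_mem_genGroup ha⟩ :=
      R.eq_of_mk C.hd C.hx C.nc ⟨y * j, by show y * j * d0 * (y * j)⁻¹ = _; rw [← hj]; group⟩ ⟨j, hj⟩ (by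
        show π (y * ⟨a, sameClass_mem_genGroup ha⟩ * y⁻¹) = π ⟨a, sameClass_mem_genGroup ha⟩
        rw [map_mul, map_mul, map_inv, ← (Sh.set'.e_comm _ hab _ hy).eq, mul_inv_cancel_right])
    exact conj_eq_self_iff.1 (congrArg Subtype.val h1)
  -- the translation
  obtain ⟨a_s, has, hsmk⟩ : ∃ a, ∃ ha : a ∈ Cfsg.sameCommutingClass D d,
      π ⟨a, sameClass_mem_genGroup ha⟩ = s := by
    obtain ⟨y, hy⟩ := QuotientGroup.mk'_surjective (Cfsg.pCore 2 (genGroup D d x)) s
    obtain ⟨a, ha, hay⟩ := R.split_block C.hd C.hx C.nc (hl := hl) (y := y) (hy ▸ Sh.set'.s_mem)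
    have hπa : π a = s := by
      rw [map_mul, map_inv, inv_mul_eq_one] at hay
      exact hay.trans hy
    have ha' : (a : G) ∈ (Cfsg.sameCommutingSubgroup D d : Set G) := ha
    rw [R.sameSubgroup_eq C.hd] at ha'
    rcases ha' with ha' | ha'
    · exact ⟨a, ha', hπa⟩
    · refine absurd ?_ Sh.set'.s_ne
      rw [← hπa, show a = 1 from Subtype.ext (Set.mem_singleton_iff.1 ha'), map_one]
  have hrootrel : ∀ {y : genGroup D d x}, π y = r → x * a_s * x = (y : G)⁻¹ * x * (y : G) := by
    intro y hy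
    obtain ⟨-, j, hj⟩ := hclassmk has
    obtain ⟨kx, hkx, hkxe⟩ := SS.exists_conj_x
    have hkx' : (⟨kx, hkx⟩ : genGroup D d x) * d0 * (⟨kx, hkx⟩ : genGroup D d x)⁻¹ = x0 := Subtype.ext hkxe
    have hxx : x0⁻¹ = x0 := inv_eq_of_mul_eq_one_right (Subtype.ext (mul_self R.ot.1 C.hx))
    have h1 : x0 * ⟨a_s, sameClass_mem_genGroup has⟩ * x0 = y⁻¹ * x0 * y :=
      R.eq_of_mk C.hd C.hx C.nc
        ⟨x0 * j, by
          show x0 * j * d0 * (x0 * j)⁻¹ = _
          rw [mul_inv_rev, hxx, ← hj]; group⟩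
        ⟨y⁻¹ * ⟨kx, hkx⟩, by show y⁻¹ * ⟨kx, hkx⟩ * d0 * (y⁻¹ * ⟨kx, hkx⟩)⁻¹ = _; rw [← hkx']; group⟩ (by
        show π (x0 * ⟨a_s, sameClass_mem_genGroup has⟩ * x0) = π (y⁻¹ * x0 * y)
        rw [map_mul, map_mul, map_mul, map_mul, map_inv, hy, hsmk]
        exact Sh.set'.rel)
    exact congrArg Subtype.val h1
  -- quiet lifts
  let qu : Subgroup (genGroup D d x) := (quiet (blockAt D d f) (blockAt D d p)).comap (genGroup D d x).subtype
  have hquE : ∀ a : genGroup D d x, (a : G) ∈ Cfsg.sameCommutingSubgroup D d → a ∈ qu := by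
    intro a ha
    refine ⟨fun z => C.blockR_conj M hp hdp hxp hfp a.2 ?_, fun c hc => ?_⟩
    · show Commute d ((a : G) * d * (a : G)⁻¹)
      rw [(commute_sameSubgroup C.hd (Commute.refl d) ha).eq, mul_inv_cancel_right]
    · obtain ⟨hcD, hdc⟩ := comp_sub R.ot.1 C.hf C.fd.symm hc.1
      show (a : G) * c * (a : G)⁻¹ * c⁻¹ ∈ _
      rw [(commute_sameSubgroup hcD hdc ha).eq, mul_inv_cancel_right, mul_inv_cancel]
      exact one_mem _
  have hqucomm : ∀ {y z : genGroup D d x}, π y ∈ Reduced.blockStab SS.reduced hl →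
      π z ∈ Reduced.blockStab SS.reduced hl → y * z * y⁻¹ * z⁻¹ ∈ qu := fun {y z} hy hz =>
    C.commutator_quiet M hp hdp hxp hfp hC y.2 z.2 (hstab hy) (hstab hz)
  have hquconj : ∀ {y z : genGroup D d x}, π y ∈ Reduced.blockStab SS.reduced hl → π z ∈ Q → z ∈ qu →
      y * z * y⁻¹ ∈ qu ∧ y⁻¹ * z * y ∈ qu := by
    intro y z hy hz hzq
    have hy' : π y⁻¹ ∈ Reduced.blockStab SS.reduced hl := by rw [map_inv]; exact inv_mem hy
    have h1 := mul_mem (hqucomm hy (Sh.leQ hz)) hzq
    have h2 := mul_mem (hqucomm hy' (Sh.leQ hz)) hzq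
    rw [inv_mul_cancel_right] at h1 h2
    rw [inv_inv] at h2
    exact ⟨h1, h2⟩
  -- lifts of the torus
  have hKodd : Odd (Nat.card K) := by obtain ⟨Qb, L⟩ := Sh.lifted; exact L.odd_K
  choose jK hjK hjKx using fun k : K =>
    R.exists_inverted C.hd C.hx C.nc hKodd k.2 (Sh.set'.inv k.1 k.2)
  have hjKM : ∀ k : K, π (jK k) ∈ Reduced.blockStab SS.reduced hl := fun k => (hjK k).symm ▸ Sh.leK k.2
  have h4 : 4 ≤ Nat.card (Reduced.block SS.reduced hl) := Sh.two_le
  have hcK : Nat.card K + 1 = Nat.card (Reduced.block SS.reduced hl) := Sh.set'.card_E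
  -- the quiet square root
  obtain ⟨r0, hr0, hr0q⟩ : ∃ y : genGroup D d x, π y = r ∧ y ∈ qu := by
    obtain ⟨k0, hk0⟩ : ∃ k : K, (k : _) ≠ (1 : K) := by
      by_contra hall
      push Not at hall
      haveI : Subsingleton K := ⟨fun a b => (hall a).trans (hall b).symm⟩
      have : Nat.card K = 1 := Nat.card_unique
      omega
    obtain ⟨r', hr'⟩ := QuotientGroup.mk'_surjective (Cfsg.pCore 2 (genGroup D d x)) r
    set y := jK k0 * r' * (jK k0)⁻¹ * r'⁻¹
    have hy : y ∈ qu := hqucomm (hjKM k0) (hr'.symm ▸ Sh.leQ Sh.set'.r_mem)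
    have hπy : π y = k0.1 * r * k0.1⁻¹ * r⁻¹ := by
      rw [map_mul, map_mul, map_mul, map_inv, map_inv, hjK, show π r' = r from hr']
    have hyQ : π y ∈ Q := hπy ▸ mul_mem (Sh.set'.k_q _ k0.2 r Sh.set'.r_mem) (inv_mem Sh.set'.r_mem)
    have hyE : π y ∉ Reduced.block SS.reduced hl := fun h =>
      hrE (Sh.set'.fpf _ k0.2 (fun e => hk0 (Subtype.ext e)) r Sh.set'.r_mem (hπy ▸ h))
    obtain ⟨k, hk, e, he, hye⟩ := Sh.set'.exists_class hrE hq _ hyQ hyE
    obtain ⟨ye, hye0⟩ := QuotientGroup.mk'_surjective (Cfsg.pCore 2 (genGroup D d x)) e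
    obtain ⟨a, ha, hae⟩ := R.split_block C.hd C.hx C.nc (hl := hl) (y := ye) (hye0 ▸ he)
    have hπa : π a = e := by
      rw [map_mul, map_inv, inv_mul_eq_one] at hae
      exact hae.trans hye0
    have hz : π (y * a⁻¹) = k * r * k⁻¹ := by
      rw [map_mul, map_inv, hπa, hye]
      exact mul_inv_cancel_right _ e
    refine ⟨(jK ⟨k, hk⟩)⁻¹ * (y * a⁻¹) * jK ⟨k, hk⟩, ?_,
      (hquconj (hjKM _) (hz ▸ Sh.set'.k_q k hk r Sh.set'.r_mem) (mul_mem hy (inv_mem (hquE a ha)))).2⟩
    rw [map_mul, map_mul, map_inv, hz, hjK]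
    group
  -- the group acting
  let P0 : Subgroup (genGroup D d x) := Q.comap π ⊓ qu
  have hP0 : ∀ {y : genGroup D d x}, y ∈ P0 → π y ∈ Q ∧ y ∈ qu := fun h => h
  have hr0P : r0 ∈ P0 := ⟨show π r0 ∈ Q from hr0 ▸ Sh.set'.r_mem, hr0q⟩
  have hPconj : ∀ (k : K) {y : genGroup D d x}, y ∈ P0 →
      jK k * y * (jK k)⁻¹ ∈ P0 ∧ (jK k)⁻¹ * y * jK k ∈ P0 := by
    intro k y hy
    obtain ⟨h1, h2⟩ := hquconj (hjKM k) (hP0 hy).1 (hP0 hy).2
    refine ⟨⟨show π _ ∈ Q from ?_, h1⟩, ⟨show π _ ∈ Q from ?_, h2⟩⟩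
    · rw [map_mul, map_mul, map_inv, hjK]; exact Sh.set'.k_q _ k.2 _ (hP0 hy).1
    · rw [map_mul, map_mul, map_inv, hjK]
      simpa using Sh.set'.k_q _ (inv_mem k.2) _ (hP0 hy).1
  -- the module
  letI : CommGroup (hull D f d) :=
    { (inferInstance : Group (hull D f d)) with
      mul_comm := fun a b => Subtype.ext (C.base_commute M a.2.1 b.2.1).eq }
  letI : CommGroup (base D f d) :=
    { (inferInstance : Group (base D f d)) with
      mul_comm := fun a b => Subtype.ext (C.base_commute M a.2 b.2).eq }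
  haveI : ((Cfsg.sameCommutingSubgroup D f).subgroupOf (hull D f d)).Normal :=
    ⟨fun n hn g => by rw [mul_comm g n, mul_inv_cancel_right]; exact hn⟩
  haveI : ((setStab (blockAt D d p)).subgroupOf (base D f d)).Normal :=
    ⟨fun n hn g => by rw [mul_comm g n, mul_inv_cancel_right]; exact hn⟩
  set U := hull D f d with hU
  set Ef := Cfsg.sameCommutingSubgroup D f with hEf
  set N := Ef.subgroupOf U with hN
  set W := (setStab (blockAt D d p)).subgroupOf (base D f d) with hW
  letI : CommGroup (U ⧸ N) :=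
    { (inferInstance : Group (U ⧸ N)) with
      mul_comm := fun a b => by
        induction a using QuotientGroup.induction_on with
        | _ a =>
        induction b using QuotientGroup.induction_on with
        | _ b => exact (QuotientGroup.mk_mul N a b).symm.trans ((congrArg QuotientGroup.mk (show a * b = b * a from Subtype.ext (C.base_commute M a.2.1 b.2.1).eq)).trans (QuotientGroup.mk_mul N b a)) }
  letI : CommGroup (base D f d ⧸ W) :=
    { (inferInstance : Group (base D f d ⧸ W)) with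
      mul_comm := fun a b => by
        induction a using QuotientGroup.induction_on with
        | _ a =>
        induction b using QuotientGroup.induction_on with
        | _ b => exact (QuotientGroup.mk_mul W a b).symm.trans ((congrArg QuotientGroup.mk (show a * b = b * a from Subtype.ext (C.base_commute M a.2 b.2).eq)).trans (QuotientGroup.mk_mul W b a)) }
  choose T hT using fun a : Cfsg.sameCommutingClass D d => C.exists_shift_aut M hC a.2
  let ν : genGroup D d x → U ⧸ N → U ⧸ N := fun y v =>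
    if h : (y : G) ∈ stabBoth U Ef then conjAut U Ef ⟨y, h⟩ v else v
  let ψ : P0 →* MulAut (U ⧸ N) := (conjAut U Ef).comp
    (((genGroup D d x).subtype.comp P0.subtype).codRestrict (stabBoth U Ef)
      fun y => hnorm (Sh.leQ (hP0 y.2).1))
  let κ : K → MulAut (U ⧸ N) := fun k => conjAut U Ef ⟨jK k, hnorm (hjKM k)⟩
  let ρ : MulAut (U ⧸ N) := ψ ⟨r0, hr0P⟩
  have hψ : ∀ (y : P0) (u : U), ∃ hu, ψ y (QuotientGroup.mk u) =
      QuotientGroup.mk ⟨((y : genGroup D d x) : G) * u * ((y : genGroup D d x) : G)⁻¹, hu⟩ :=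
    fun y u => ⟨_, rfl⟩
  have hκ : ∀ (k : K) (u : U), ∃ hu, κ k (QuotientGroup.mk u) =
      QuotientGroup.mk ⟨(jK k : G) * u * (jK k : G)⁻¹, hu⟩ := fun k u => ⟨_, rfl⟩
  have hconjψ : ∀ (k : K) (y : P0),
      κ k * ψ y * (κ k)⁻¹ = ψ ⟨_, (hPconj k y.2).1⟩ ∧ (κ k)⁻¹ * ψ y * κ k = ψ ⟨_, (hPconj k y.2).2⟩ := by
    intro k y
    constructor <;> simp only [κ, ψ, MonoidHom.comp_apply, ← map_inv, ← map_mul] <;> rfl
  -- elements over the block commute with the shifts
  have hblock : ∀ y : P0, π y ∈ Reduced.block SS.reduced hl → ∀ a, Commute (ψ y) (T a) := by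
    intro y hy a
    obtain ⟨e, he, heo⟩ := R.split_block C.hd C.hx C.nc (hl := hl) hy
    set o : genGroup D d x := e⁻¹ * (y : genGroup D d x) with ho
    have hoc := R.pCore_central C.hd C.hx C.nc ((QuotientGroup.eq_one_iff o).1 heo)
    have hox : Commute (o : G) x := congrArg Subtype.val (hoc x0).eq
    have hoa : Commute (o : G) (a : G) := congrArg Subtype.val (hoc ⟨a.1, sameClass_mem_genGroup a.2⟩).eq
    have heU : ∀ {u : G}, u ∈ U → (e : G) * u * (e : G)⁻¹ = u := fun {u} hu => by
      rw [(C.base_commute M (closure_mono (fun _ hc => Or.inl (C.class_mem M hc)) he) hu.1).eq,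
        mul_inv_cancel_right]
    have hπo : π o ∈ Reduced.blockStab SS.reduced hl := by rw [show π o = 1 from heo]; exact one_mem _
    have hyo : ∀ {u : G}, u ∈ U → ((y : genGroup D d x) : G) * u * ((y : genGroup D d x) : G)⁻¹ =
        (o : G) * u * (o : G)⁻¹ := by
      intro u hu
      rw [show ((y : genGroup D d x) : G) = (e : G) * (o : G) by rw [ho]; simp,
        show (e : G) * o * u * ((e : G) * o)⁻¹ = e * ((o : G) * u * (o : G)⁻¹) * (e : G)⁻¹ by group]
      exact heU (((hnorm hπo).1 u).2 hu)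
    refine MulEquiv.ext fun v => ?_
    induction v using QuotientGroup.induction_on with
    | _ u =>
      rw [MulAut.mul_apply, MulAut.mul_apply, hT]
      obtain ⟨hu, e1⟩ := hψ y u
      obtain ⟨hu', e2⟩ := hψ y ⟨shift x a u, (C.shift_mem M hC a.2 u.2).1⟩
      rw [e1, e2, hT]
      refine congrArg QuotientGroup.mk (Subtype.ext ?_)
      show ((y : genGroup D d x) : G) * shift x a u * ((y : genGroup D d x) : G)⁻¹ =
        shift x a (((y : genGroup D d x) : G) * u * ((y : genGroup D d x) : G)⁻¹)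
      rw [hyo u.2, hyo (C.shift_mem M hC a.2 u.2).1, shift_conj_central hox hoa]
  have hrot : ∀ k : K, rot (V := U ⧸ N) ρ κ k = ψ ⟨_, (hPconj k hr0P).2⟩ := fun k => (hconjψ k ⟨r0, hr0P⟩).2
  have hright : ∀ y : P0, π y ∉ Reduced.block SS.reduced hl →
      ∃ k : K, ∀ a, Commute ((rot (V := U ⧸ N) ρ κ k)⁻¹ * ψ y) (T a) := by
    intro y hy
    obtain ⟨k, hk, e, he, hye⟩ := Sh.set'.exists_class hrE hq _ (hP0 y.2).1 hy
    refine ⟨⟨k⁻¹, inv_mem hk⟩, fun a => ?_⟩
    rw [hrot, ← map_inv, ← map_mul]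
    refine hblock _ ?_ a
    show π (((jK _)⁻¹ * r0 * jK _)⁻¹ * (y : genGroup D d x)) ∈ _
    rw [map_mul, map_inv, map_mul, map_mul, map_inv, hjK, hr0, hye, cj]
    simpa [mul_assoc] using he
  -- the quadratic map
  have hsecB : ∀ {u : G}, u ∈ U → sec D f d u ∈ base D f d := fun hu => (C.sec_mem M hC hu).1
  let η : U ⧸ N → base D f d ⧸ W := fun v =>
    Quotient.liftOn' v (fun u => QuotientGroup.mk ⟨sec D f d u, hsecB u.2⟩) fun a b h => by
      rw [QuotientGroup.leftRel_apply] at h
      refine congrArg QuotientGroup.mk (Subtype.ext ?_)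
      refine (C.sec_congr M hC a.2 b.2 ?_).symm
      have h' : (a : G)⁻¹ * b ∈ Ef := h
      rwa [C.hull_inv M a.2] at h'
  let Hf : Subgroup (base D f d ⧸ W) := (Ef.subgroupOf (base D f d)).map (QuotientGroup.mk' W)
  have hsub : ∀ {v : G}, v ∈ U → v⁻¹ = v := fun hv => C.hull_inv M hv
  -- the pairing
  have hpair : ∀ u : U, ∃ y : G, y⁻¹ = y ∧ (∀ v : U, (v : G) * y * v * y ∈ Ef) ∧ ∀ (v : U) h,
      η (QuotientGroup.mk (u * v)) * η (QuotientGroup.mk u) * η (QuotientGroup.mk v) =
        QuotientGroup.mk ⟨(v : G) * y * v * y, h⟩ := by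
    intro u
    obtain ⟨w, hw⟩ := (T ⟨d, self_mem_sameClass C.hd⟩).surjective (QuotientGroup.mk u)
    induction w using QuotientGroup.induction_on with
    | _ w0 =>
      rw [hT, QuotientGroup.eq] at hw
      have h0 : shift x d (w0 : G) * u ∈ Ef := by
        have h' : (shift x d (w0 : G))⁻¹ * u ∈ Ef := hw
        rwa [hsub (C.shift_mem M hC (self_mem_sameClass C.hd) w0.2).1] at h'
      refine ⟨x * w0 * x, C.conj_x_inv M w0.2, fun v => C.comm_conj M hC v.2 w0.2, fun v h => ?_⟩
      refine (QuotientGroup.mk_mul W _ _).symm.trans ?_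
      refine congrArg QuotientGroup.mk (Subtype.ext ?_)
      show sec D f d ((u : G) * v) * sec D f d u * sec D f d v = _
      rw [C.sec_mul M hC u.2 v.2 w0.2 h0]
      have hcu := hsecB u.2
      have hcv := hsecB v.2
      rw [mul_assoc (_ * _ * _), (C.base_commute M (mul_mem hcu hcv) h).eq, mul_assoc,
        (C.base_commute M hcv hcu).mul_mul_mul_comm, C.base_sq M hcu, C.base_sq M hcv, one_mul, mul_one]
  have hHmem : ∀ {z : G} (hz : z ∈ Ef) (h : z ∈ base D f d),
      (QuotientGroup.mk ⟨z, h⟩ : base D f d ⧸ W) ∈ Hf := fun hz h => ⟨⟨_, h⟩, hz, rfl⟩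
  -- the data
  have hE : Endgame (V := U ⧸ N) (H := base D f d ⧸ W) ρ T ⟨a_s, has⟩ κ ψ.range η Hf := by
    refine
      { sq := fun v => ?_, sq' := fun h => ?_, nontriv := ?_, two := ?_, rho := ⟨_, rfl⟩
        rho_sq := ?_, rel := fun a => ?_, tran := fun k a => ?_, conj := fun k y hy => ?_
        fpf := fun v hv => ?_, cover := fun y hy => ?_, apart := fun k k' hkk => ?_
        eta_ne := fun v hv => ?_, eta_fix := fun y hy v => ?_, pair_mem := fun u v => ?_
        pair_mul := fun u v w => ?_, card := ?_, four := hcK ▸ h4 }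
    · induction v using QuotientGroup.induction_on with
      | _ u =>
        rw [← QuotientGroup.mk_mul, show u * u = 1 from Subtype.ext (C.hull_sq M u.2), QuotientGroup.mk_one]
    · induction h using QuotientGroup.induction_on with
      | _ u =>
        rw [← QuotientGroup.mk_mul, show u * u = 1 from Subtype.ext (C.base_sq M u.2), QuotientGroup.mk_one]
    · obtain ⟨c, hc, hcd⟩ := C.exists_mate M hC
      refine ⟨QuotientGroup.mk ⟨d * c, C.mate_hull M hc⟩, fun h => hcd ?_⟩
      exact (C.mate_unique M ((C.blocksY M).mate_refl R.ot.1 self_mem_comp) hc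
        ((QuotientGroup.eq_one_iff (⟨d * c, C.mate_hull M hc⟩ : U)).1 h)).symm
    · have hQ : IsPGroup 2 Q := by
        rintro ⟨z, hz⟩
        exact ⟨2, Subtype.ext (by
          show z ^ 2 ^ 2 = 1
          rw [show (2 : ℕ) ^ 2 = 2 * 2 from rfl, pow_mul, pow_two z, pow_two]
          exact Sh.set'.e_sq _ (Sh.set'.q_sq z hz))⟩
      have hP : IsPGroup 2 P0 := (hQ.comap_of_ker_isPGroup π (by
        rw [QuotientGroup.ker_mk']; exact CfsgLib.Coprime.pCore_isPGroup (G := genGroup D d x) 2)).to_le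
          inf_le_left
      exact hP.of_surjective ψ.rangeRestrict ψ.rangeRestrict_surjective
    · rw [← map_mul]
      exact hblock _ (show π (r0 * r0) ∈ _ by rw [map_mul, hr0]; exact Sh.set'.q_sq r Sh.set'.r_mem) _
    · refine MulEquiv.ext fun v => ?_
      induction v using QuotientGroup.induction_on with
      | _ u =>
        rw [MulAut.mul_apply, MulAut.mul_apply, MulAut.mul_apply, hT ⟨a_s, has⟩]
        obtain ⟨hu, e1⟩ := hψ ⟨r0, hr0P⟩ u
        rw [e1, hT, hT]
        obtain ⟨hu', e2⟩ := hψ ⟨r0, hr0P⟩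
          ⟨shift x a (shift x a_s u), (C.shift_mem M hC a.2 (C.shift_mem M hC has u.2).1).1⟩
        rw [e2, QuotientGroup.eq]
        show (shift x a ((r0 : G) * u * (r0 : G)⁻¹))⁻¹ *
          ((r0 : G) * shift x a (shift x a_s u) * (r0 : G)⁻¹) ∈ Ef
        rw [hsub (C.shift_mem M hC a.2 hu).1]
        exact C.shift_root M hC a.2 has r0.2 (hexact (hP0 hr0P).1 a a.2) (hrootrel hr0) u.2
    · have hjd := hstab (hjKM k)
      have hb : (jK k : G) * a * (jK k : G)⁻¹ ∈ Cfsg.sameCommutingClass D d := by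
        refine mem_sameClass_iff.2 ⟨R.ot.1.conj_mem _ a.2.1 _, ?_⟩
        exact (same_conj_gen R.ot C.hd (R.lined_mem C.hd) C.hx C.nc (jK k).2 hjd).trans
          ((mem_sameClass_iff.1 a.2).2.conj R.ot.1 _)
      refine ⟨⟨_, hb⟩, MulEquiv.ext fun v => ?_⟩
      induction v using QuotientGroup.induction_on with
      | _ u =>
        rw [MulAut.mul_apply, MulAut.mul_apply]
        obtain ⟨hu, e1⟩ := hκ k u
        rw [e1, hT, hT]
        obtain ⟨hu', e2⟩ := hκ k ⟨shift x a ((jK k : G) * u * (jK k : G)⁻¹), (C.shift_mem M hC a.2 hu).1⟩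
        rw [e2]
        exact congrArg QuotientGroup.mk
          (Subtype.ext (shift_inverted (hjKx k) (mul_self R.ot.1 C.hx)))
    · obtain ⟨z, rfl⟩ := hy
      exact ⟨⟨_, (hconjψ k z).1.symm⟩, ⟨_, (hconjψ k z).2.symm⟩⟩
    · induction v using QuotientGroup.induction_on with
      | _ u =>
        rw [hT, QuotientGroup.eq] at hv
        have hv' : (shift x a_s (u : G))⁻¹ * u ∈ Ef := hv
        rw [hsub (C.shift_mem M hC has u.2).1] at hv'
        refine (QuotientGroup.eq_one_iff u).2 (C.shift_fix M hC has (pow_orderOf_eq_one (a_s * x)) ?_ u.2 hv')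
        intro h3
        refine hn3 (h3.trans ?_)
        have := orderOf_dvd_natCard ((⟨a_s, sameClass_mem_genGroup has⟩ : genGroup D d x) * x0)
        rwa [← orderOf_coe] at this
    · obtain ⟨z, rfl⟩ := hy
      by_cases hz : π z ∈ Reduced.block SS.reduced hl
      · exact Or.inl (hblock z hz)
      · exact Or.inr (hright z hz)
    · have hmk : ∀ k : K, π ((jK k)⁻¹ * r0 * jK k) = cj k.1⁻¹ r := fun k => by
        rw [map_mul, map_mul, map_inv, hjK, hr0, cj, inv_inv]
      have := hright ((⟨_, (hPconj k hr0P).2⟩ : P0)⁻¹ * ⟨_, (hPconj k' hr0P).2⟩) fun h => hkk ?_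
      · rw [map_mul, map_inv, ← hrot, ← hrot] at this
        exact this
      · have h' : π (((jK k)⁻¹ * r0 * jK k)⁻¹ * ((jK k')⁻¹ * r0 * jK k')) ∈
            Reduced.block SS.reduced hl := h
        rw [map_mul, map_inv, hmk, hmk] at h'
        have hkm := Sh.set'.cj_memQ (inv_mem k.2) Sh.set'.r_mem
        have h1 : Eqv (Reduced.block SS.reduced hl) (cj k'.1⁻¹ r) (cj k.1⁻¹ r) := by
          show _ * _ ∈ _
          have := (Sh.set'.e_comm _ h' _ hkm).eq
          rw [mul_inv_cancel_left] at this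
          rw [← this, mul_inv_cancel_right]
          exact h'
        have h2 := Sh.set'.eqv_cj k.2 h1
        rw [cj_cj, cj_cj, mul_inv_cancel, cj_one] at h2
        exact Subtype.ext (mul_inv_eq_one.1 (Sh.set'.eqv_fpf (mul_mem k.2 (inv_mem k'.2)) Sh.set'.r_mem h2 hrE))
    · induction v using QuotientGroup.induction_on with
      | _ u =>
        intro h
        obtain ⟨hm', hs'⟩ := C.sec_spec M hC u.2
        set c := mateOf D f d u
        have hW' : sec D f d (u : G) ∈ setStab (blockAt D d p) :=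
          (QuotientGroup.eq_one_iff (⟨sec D f d u, hsecB u.2⟩ : base D f d)).1 h
        have hcd : c = d := by
          by_contra hcd
          have hcD := (C.block_sub M (C.mate_mem M hm')).1
          have hns : ¬ OddTr.Same D d c := fun hs => by
            have h1 : d * c ∈ (Cfsg.sameCommutingSubgroup D d : Set G) :=
              mul_mem (subset_closure (self_mem_sameClass C.hd))
                (subset_closure (mem_sameClass_iff.2 ⟨hcD, hs⟩))
            rw [R.sameSubgroup_eq C.hd] at h1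
            rcases h1 with h1 | h1
            · exact (C.blocksY M).not_mate (C.class_mem M h1).1 hm'
            · exact hcd (by
                rw [eq_inv_of_mul_eq_one_right (Set.mem_singleton_iff.1 h1), inv_eq R.ot.1 C.hd])
          have hcp := C.apart_f2 M hcD hm'.2.2.1 (C.block_sub M (C.mate_mem M hm')).2
            (C.block_nc M (C.mate_mem M hm')) hns hp hdp hfp
          refine not_commute_conj R.ot hcD hp hcp ?_
          have h2 := ((hW' p).2 ⟨self_mem_comp, Commute.refl p⟩).2
          rwa [sec, show d * c * p * (d * c)⁻¹ = d * (c * p * c⁻¹) * d⁻¹ by group,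
            (hm'.2.2.1.mul_right hdp).mul_right hm'.2.2.1.inv_right |>.eq, mul_inv_cancel_right] at h2
        refine hv ((QuotientGroup.eq_one_iff u).2 ?_)
        have h1 : d * c * (u : G) ∈ Ef := hs'
        rw [hcd, mul_self R.ot.1 C.hd, one_mul] at h1
        exact h1
    · obtain ⟨z, rfl⟩ := hy
      induction v using QuotientGroup.induction_on with
      | _ u =>
        obtain ⟨hu, e1⟩ := hψ z u
        rw [e1]
        set y : G := ((z : genGroup D d x) : G) with hydef
        obtain ⟨hm', hs'⟩ := C.sec_spec M hC u.2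
        set c := mateOf D f d u with hcdef
        have hyd : y * d * y⁻¹ = d := by
          rw [(hexact (hP0 z.2).1 d (self_mem_sameClass C.hd)).eq, mul_inv_cancel_right]
        have hm2 := (C.blocksY M).mate_conj hm' (C.gen_le M (z : genGroup D d x).2)
        rw [← hydef, hyd] at hm2
        have he2 : d * (y * c * y⁻¹) * (y * u * y⁻¹) ∈ Ef := by
          nth_rw 1 [← hyd]
          rw [show y * d * y⁻¹ * (y * c * y⁻¹) * (y * u * y⁻¹) = y * (d * c * u) * y⁻¹ by group,
            ← (C.class_f_commute M (show d * c * u ∈ Ef from hs') (z : genGroup D d x).2).eq,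
            mul_inv_cancel_right]
          exact hs'
        refine QuotientGroup.eq.2 (show (sec D f d (y * u * y⁻¹))⁻¹ * sec D f d u ∈ setStab (blockAt D d p) from ?_)
        rw [hsub (C.sec_mem M hC hu), C.sec_eq M hC hu hm2 he2, sec, ← hcdef,
          show d * (y * c * y⁻¹) * (d * c) = d * (y * c * y⁻¹ * d) * c by simp only [mul_assoc],
          ← hm2.2.2.1.eq, ← mul_assoc d d, mul_self R.ot.1 C.hd, one_mul]
        by_cases hcd : c = d
        · rw [hcd, hyd, mul_self R.ot.1 C.hd]; exact one_mem _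
        have hcT : c ∈ blockAt D d f := by
          have hcD := (C.block_sub M (C.mate_mem M hm')).1
          refine ⟨C.mem_R M hcD hm'.2.2.1 (C.block_sub M (C.mate_mem M hm')).2
            (C.block_nc M (C.mate_mem M hm')) fun hs => ?_, (C.block_sub M (C.mate_mem M hm')).2⟩
          have h1 : d * c ∈ (Cfsg.sameCommutingSubgroup D d : Set G) :=
            mul_mem (subset_closure (self_mem_sameClass C.hd))
              (subset_closure (mem_sameClass_iff.2 ⟨hcD, hs⟩))
          rw [R.sameSubgroup_eq C.hd] at h1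
          rcases h1 with h1 | h1
          · exact (C.blocksY M).not_mate (C.class_mem M h1).1 hm'
          · exact hcd (by
              rw [eq_inv_of_mul_eq_one_right (Set.mem_singleton_iff.1 h1), inv_eq R.ot.1 C.hd])
        have := (hP0 z.2).2.2 c hcT
        rwa [inv_eq R.ot.1 (C.block_sub M (C.mate_mem M hm')).1] at this
    · induction u using QuotientGroup.induction_on with
      | _ u =>
      induction v using QuotientGroup.induction_on with
      | _ v =>
        obtain ⟨y, hyi, hy, hval⟩ := hpair u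
        rw [← QuotientGroup.mk_mul, hval v (C.class_f_hull M (hy v)).1]
        exact hHmem (hy v) _
    · induction u using QuotientGroup.induction_on with
      | _ u =>
      induction v using QuotientGroup.induction_on with
      | _ v =>
      induction w using QuotientGroup.induction_on with
      | _ w =>
        obtain ⟨y, hyi, hy, hval⟩ := hpair u
        simp only [← QuotientGroup.mk_mul]
        rw [hval (v * w) (C.class_f_hull M (hy _)).1, hval v (C.class_f_hull M (hy v)).1,
          hval w (C.class_f_hull M (hy w)).1, ← QuotientGroup.mk_mul]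
        refine congrArg QuotientGroup.mk (Subtype.ext ?_)
        show (v : G) * w * y * ((v : G) * w) * y = (v : G) * y * v * y * ((w : G) * y * w * y)
        have hvw := C.base_commute M v.2.1 w.2.1
        have hz := (C.class_f_hull M (hy w)).1
        have hzc := C.base_commute M hz v.2.1
        calc (v : G) * w * y * ((v : G) * w) * y = (v : G) * w * y * ((w : G) * v) * y :=
              congrArg (fun q => (v : G) * w * y * q * y) hvw.eq
          _ = v * ((w : G) * y * w * y) * (y⁻¹ * (v * y)) := by group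
          _ = ((w : G) * y * w * y) * ((v : G) * y⁻¹ * (v * y)) := by
              rw [← hzc.eq]; simp only [mul_assoc]
          _ = _ := by
              rw [hyi, show (v : G) * y * (v * y) = (v : G) * y * v * y by simp only [mul_assoc]]
              exact (C.base_commute M hz (C.class_f_hull M (hy v)).1).eq
    · refine (Nat.le_trans (Nat.le_trans (Nat.le_of_dvd Nat.card_pos (card_map_dvd _ _)) ?_)
        (R.card_le_block C.hd C.hx C.nc hl)).trans hcK.ge
      rw [Nat.card_congr (subgroupOfEquivOfLe (show Ef ≤ base D f d from fun e he => (C.class_f_hull M he).1)).toEquiv]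
      obtain ⟨k, hk⟩ := R.cls f C.hf d C.hd
      refine Nat.card_le_card_of_injective
        (fun e : Ef => (⟨k * e * k⁻¹, hk ▸ sameSubgroup_conj R.ot.1 e.2 k⟩ : Cfsg.sameCommutingSubgroup D d))
        fun a b e => Subtype.ext (mul_left_cancel (mul_right_cancel (congrArg Subtype.val e)))
  haveI : Finite (Cfsg.sameCommutingClass D d) := Set.Finite.to_subtype (Set.toFinite _)
  exact hE.false_of_endgame

end Cfg

end CfsgLib.RootInvol.OddPartner
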