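import Cfsg.Agent.Lib.RootSub.OddPartner.Torus

/-!
# The operators on `U` modulo `E(f)`
-/

set_option autoImplicit false
set_option linter.style.haveILetI false
set_option linter.unusedSectionVars false

namespace CfsgLib.RootInvol.OddPartner

open CfsgLib.RootInvol.OddTr Subgroup CfsgLib.Invol

universe u

variable {G : Type u} [Group G] {D : Set G}

/-- The elements normalising two subgroups. -/
def stabBoth (U N : Subgroup G) : Subgroup G := setStab (U : Set G) ⊓ setStab (N : Set G)

section Act

variable (U N : Subgroup G) [hN : (N.subgroupOf U).Normal]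

/-- Conjugation on `U` modulo `N`. -/
def conjQuot (y : stabBoth U N) : U ⧸ N.subgroupOf U →* U ⧸ N.subgroupOf U :=
  QuotientGroup.map _ _ (((MulAut.conj (y : G)).toMonoidHom.comp U.subtype).codRestrict U
    fun u => ((y.2.1 (u : G)).2 u.2 : (y : G) * u * (y : G)⁻¹ ∈ U))
    fun u hu => (y.2.2 (u : G)).2 hu

theorem conjQuot_mk (y : stabBoth U N) (u : U) :
    conjQuot U N y (QuotientGroup.mk u) = QuotientGroup.mk ⟨_, (y.2.1 (u : G)).2 u.2⟩ := rfl

theorem conjQuot_comp (y z : stabBoth U N) (v : U ⧸ N.subgroupOf U) :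
    conjQuot U N (y * z) v = conjQuot U N y (conjQuot U N z v) := by
  induction v using QuotientGroup.induction_on with
  | _ u =>
    rw [conjQuot_mk, conjQuot_mk, conjQuot_mk]
    refine congrArg QuotientGroup.mk (Subtype.ext ?_)
    show (y : G) * z * u * ((y : G) * z)⁻¹ = (y : G) * ((z : G) * u * (z : G)⁻¹) * (y : G)⁻¹
    group

theorem conjQuot_one (v : U ⧸ N.subgroupOf U) : conjQuot U N 1 v = v := by
  induction v using QuotientGroup.induction_on with
  | _ u =>
    rw [conjQuot_mk]
    refine congrArg QuotientGroup.mk (Subtype.ext ?_)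
    show (1 : G) * u * (1 : G)⁻¹ = u
    group

/-- Conjugation as automorphisms. -/
def conjAut : stabBoth U N →* MulAut (U ⧸ N.subgroupOf U) where
  toFun y :=
    { conjQuot U N y with
      invFun := conjQuot U N y⁻¹
      left_inv := fun v => by
        show conjQuot U N y⁻¹ (conjQuot U N y v) = v
        rw [← conjQuot_comp, inv_mul_cancel, conjQuot_one]
      right_inv := fun v => by
        show conjQuot U N y (conjQuot U N y⁻¹ v) = v
        rw [← conjQuot_comp, mul_inv_cancel, conjQuot_one] }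
  map_one' := MulEquiv.ext fun v => conjQuot_one U N v
  map_mul' y z := MulEquiv.ext fun v => conjQuot_comp U N y z v

theorem conjAut_mk (y : stabBoth U N) (u : U) :
    conjAut U N y (QuotientGroup.mk u) = QuotientGroup.mk ⟨_, (y.2.1 (u : G)).2 u.2⟩ := rfl

end Act

variable [Finite G]

namespace Cfg

variable {d x f g : G} (C : Cfg D d x f g) (M : Minimal D)
include C M

theorem gen_le : genGroup D d x ≤ closure (comp D f d) :=
  closure_mono (Set.union_subset (fun _ ha => (C.class_mem M ha).1) (Set.singleton_subset_iff.2 (C.x_mem M)))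

theorem class_f_commute {e y : G} (he : e ∈ Cfsg.sameCommutingSubgroup D f) (hy : y ∈ genGroup D d x) :
    Commute e y :=
  commute_of_mem_genGroup (fun _ ha => commute_sameSubgroup ha.1 (C.f_class M ha) he)
    (commute_sameSubgroup C.hx C.fx he) hy

theorem norm_hull {y : G} (hy : y ∈ genGroup D d x) (h : Commute d (y * d * y⁻¹)) :
    y ∈ stabBoth (hull D f d) (Cfsg.sameCommutingSubgroup D f) := by
  have R := M.rooted
  have hs := same_conj_gen R.ot C.hd (R.lined_mem C.hd) C.hx C.nc hy h
  have hs' : OddTr.Same D d (y⁻¹ * d * y⁻¹⁻¹) := by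
    have := hs.conj R.ot.1 y⁻¹
    rw [show y⁻¹ * (y * d * y⁻¹) * y⁻¹⁻¹ = d by group] at this
    exact this.symm
  have key : ∀ {w : G}, w ∈ genGroup D d x → OddTr.Same D d (w * d * w⁻¹) →
      (∀ u ∈ hull D f d, w * u * w⁻¹ ∈ hull D f d) ∧
        ∀ e ∈ Cfsg.sameCommutingSubgroup D f, w * e * w⁻¹ ∈ Cfsg.sameCommutingSubgroup D f := by
    intro w hw hw'
    have hwY := C.gen_le M hw
    refine ⟨fun u hu => ⟨C.base_conj M ?_ (fun z hz => ?_) hu.1, blockFix_conj (C.inner_norm M hwY) hu.2⟩,
      fun e he => ?_⟩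
    · exact commute_of_mem_genGroup (fun _ ha => C.f_class M ha) C.fx hw
    · refine ⟨(C.blocksY M).inner.conj w hwY z hz.1, ?_⟩
      exact (hw'.iff ((C.blocksY M).inner.sub ((C.blocksY M).inner.conj w hwY z hz.1))).2
        ((commute_conj_iff w).2 hz.2)
    · rw [← (C.class_f_commute M he hw).eq, mul_inv_cancel_right]
      exact he
  have hk := key hy hs
  have hk' := key (inv_mem hy) hs'
  refine ⟨fun z => ⟨fun hz => ?_, hk.1 z⟩, fun z => ⟨fun hz => ?_, hk.2 z⟩⟩
  · have := hk'.1 _ hz
    rwa [show y⁻¹ * (y * z * y⁻¹) * y⁻¹⁻¹ = z by group] at this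
  · have := hk'.2 _ hz
    rwa [show y⁻¹ * (y * z * y⁻¹) * y⁻¹⁻¹ = z by group] at this

/-- The shift by a member of the class of `d` as an automorphism. -/
theorem exists_shift_aut (hC : CfsgLib.SECrit.CritThm.{u}) {a : G} (ha : a ∈ Cfsg.sameCommutingClass D d)
    [hN : ((Cfsg.sameCommutingSubgroup D f).subgroupOf (hull D f d)).Normal] :
    ∃ T : MulAut (hull D f d ⧸ (Cfsg.sameCommutingSubgroup D f).subgroupOf (hull D f d)),
      ∀ w : hull D f d,
        T (QuotientGroup.mk w) = QuotientGroup.mk ⟨shift x a w, (C.shift_mem M hC ha w.2).1⟩ := by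
  set N := (Cfsg.sameCommutingSubgroup D f).subgroupOf (hull D f d)
  let φ : hull D f d →* hull D f d ⧸ N :=
    MonoidHom.mk' (fun w => QuotientGroup.mk ⟨shift x a w, (C.shift_mem M hC ha w.2).1⟩) fun w w' => by
      rw [← QuotientGroup.mk_mul, QuotientGroup.eq]
      show (shift x a (w * w' : G))⁻¹ * (shift x a (w : G) * shift x a (w' : G)) ∈ Cfsg.sameCommutingSubgroup D f
      rw [C.hull_inv M (C.shift_mem M hC ha (mul_mem w.2 w'.2)).1]
      exact C.shift_mul M hC ha w.2 w'.2
  have hker : N ≤ φ.ker := fun w hw => MonoidHom.mem_ker.2 ((QuotientGroup.eq_one_iff _).2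
    (show shift x a (w : G) ∈ Cfsg.sameCommutingSubgroup D f by rw [C.shift_one M hC ha (show (w : G) ∈ Cfsg.sameCommutingSubgroup D f from hw)]; exact one_mem _))
  let ψ := QuotientGroup.lift N φ hker
  have hinj : Function.Injective ψ := by
    rw [injective_iff_map_eq_one]
    intro v
    induction v using QuotientGroup.induction_on with
    | _ w =>
      intro h
      exact (QuotientGroup.eq_one_iff w).2 (C.shift_inj M hC ha w.2
        ((QuotientGroup.eq_one_iff (⟨shift x a w, (C.shift_mem M hC ha w.2).1⟩ : hull D f d)).1 h))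
  exact ⟨MulEquiv.ofBijective ψ ⟨hinj, Finite.surjective_of_injective hinj⟩, fun w => rfl⟩

end Cfg

end CfsgLib.RootInvol.OddPartner
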