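import Cfsg.Agent.Lib.RootSub.OddPartner.Bruhat
import Mathlib.GroupTheory.OrderOfElement

/-!
# The pairs `r_c r_d⁻¹`

No such pair of the class of `r` modulo `E` has `s_c s_d = s`.  Hence an element of order three of `K`
puts `r` into `E`, and for `Q` of order the square of `E` the pairs fill the coset of `r`.
-/

set_option autoImplicit false

namespace CfsgLib.RootInvol.OddPartner

variable {X : Type*} [Group X]

/-- Conjugation, as a function of two variables. -/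
def cj (c y : X) : X := c * y * c⁻¹

theorem cj_cj (a b y : X) : cj a (cj b y) = cj (a * b) y := by simp [cj, mul_assoc]

theorem cj_mul (a x y : X) : cj a (x * y) = cj a x * cj a y := by simp [cj, mul_assoc]

theorem cj_inv (a x : X) : cj a x⁻¹ = (cj a x)⁻¹ := by simp [cj, mul_assoc]

theorem cj_one (x : X) : cj 1 x = x := by simp [cj]

/-- Congruence modulo `E`. -/
def Eqv (E : Subgroup X) (a b : X) : Prop := a * b⁻¹ ∈ E

namespace Setting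

variable {Q E K : Subgroup X} {t s r : X} (S : Setting Q E K t s r)
include S

theorem cj_memQ {c y : X} (hc : c ∈ K) (hy : y ∈ Q) : cj c y ∈ Q := S.k_q c hc y hy

theorem cj_memE {c y : X} (hc : c ∈ K) (hy : y ∈ E) : cj c y ∈ E := S.k_e c hc y hy

omit S in
theorem eqv_refl (a : X) : Eqv E a a := by simp [Eqv]

omit S in
theorem eqv_symm {a b : X} (h : Eqv E a b) : Eqv E b a := by
  have := inv_mem h; simpa [Eqv] using this

omit S in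
theorem eqv_trans {a b c : X} (h : Eqv E a b) (h' : Eqv E b c) : Eqv E a c := by
  have := mul_mem h h'; simpa [Eqv, mul_assoc] using this

omit S in
theorem eqv_one {a : X} : Eqv E a 1 ↔ a ∈ E := by simp [Eqv]

theorem eqv_mul {a b c d : X} (hb : b ∈ Q) (h : Eqv E a b) (h' : Eqv E c d) :
    Eqv E (a * c) (b * d) := by
  show a * c * (b * d)⁻¹ ∈ E
  rw [show a * c * (b * d)⁻¹ = a * b⁻¹ * (b * (c * d⁻¹) * b⁻¹) by simp [mul_assoc],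
    ← (S.e_comm _ h' b hb).eq, mul_inv_cancel_right]
  exact mul_mem h h'

theorem eqv_inv {a : X} (ha : a ∈ Q) : Eqv E a⁻¹ a := by
  show a⁻¹ * a⁻¹ ∈ E
  exact S.q_sq _ (inv_mem ha)

theorem eqv_inv_congr {a b : X} (hb : b ∈ Q) (ha : a ∈ Q) (h : Eqv E a b) : Eqv E a⁻¹ b⁻¹ :=
  eqv_trans (eqv_trans (S.eqv_inv ha) h) (eqv_symm (S.eqv_inv hb))

theorem eqv_comm {a b : X} (ha : a ∈ Q) (hb : b ∈ Q) : Eqv E (a * b) (b * a) := by
  have h1 : Eqv E (a⁻¹ * b⁻¹) (a * b) := S.eqv_mul ha (S.eqv_inv ha) (S.eqv_inv hb)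
  have h2 : Eqv E (b * a)⁻¹ (b * a) := S.eqv_inv (mul_mem hb ha)
  rw [mul_inv_rev] at h2
  exact eqv_trans (eqv_symm h1) h2

theorem eqv_cj {c a b : X} (hc : c ∈ K) (h : Eqv E a b) : Eqv E (cj c a) (cj c b) := by
  have h1 := S.cj_memE hc h
  rwa [cj_mul, cj_inv] at h1

theorem eqv_self_mul {a : X} (ha : a ∈ Q) : Eqv E (a * a) 1 := eqv_one.2 (S.q_sq a ha)

/-- `[k] y ≡ y` only for `y ∈ E`. -/
theorem eqv_fpf {k y : X} (hk : k ∈ K) (hy : y ∈ Q) (h : Eqv E (cj k y) y) (hne : y ∉ E) : k = 1 :=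
  by_contra fun hk1 => hne (S.fpf k hk hk1 y hy h)

/-- The parameter of an element of `E` is unique. -/
theorem cj_s_inj {a b : X} (ha : a ∈ K) (hb : b ∈ K) (h : cj a s = cj b s) : a = b := by
  refine (S.reg _ (S.cj_memE ha S.s_mem) ?_).unique ⟨ha, rfl⟩ ⟨hb, h.symm⟩
  simp [cj, S.s_ne]

theorem cj_s_ne {a : X} : cj a s ≠ 1 := by simp [cj, S.s_ne]

/-- The parameter of `s_c s_d`. -/
theorem exists_sum {c d : X} (hc : c ∈ K) (hd : d ∈ K) (hne : c ≠ d) :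
    ∃ σ ∈ K, cj c s * cj d s = cj σ s := by
  obtain ⟨σ, ⟨hσ, hσe⟩, -⟩ := S.reg _ (mul_mem (S.cj_memE hc S.s_mem) (S.cj_memE hd S.s_mem))
    (fun e => hne (S.cj_s_inj hc hd (by
      rw [mul_eq_one_iff_eq_inv.1 e, inv_eq_of_mul_eq_one_right (S.e_sq _ (S.cj_memE hd S.s_mem))])))
  exact ⟨σ, hσ, hσe.symm⟩

theorem sq_eq_one {k : X} (hk : k ∈ K) (h : k * k = 1) : k = 1 := by
  have hks := S.cj_memE hk S.s_mem
  by_cases hz : s * cj k s = 1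
  · refine S.cj_s_inj hk (one_mem K) ?_
    rw [cj_one, eq_inv_of_mul_eq_one_right hz, S.s_inv]
  · obtain ⟨a, ⟨ha, hae⟩, -⟩ := S.reg _ (mul_mem S.s_mem hks) hz
    have h1 : cj (k * a) s = cj a s := by
      rw [← cj_cj, show cj a s = s * cj k s from hae, cj_mul, cj_cj, h, cj_one]
      exact (S.e_comm _ hks s S.s_memQ).eq
    simpa using S.cj_s_inj (mul_mem hk ha) ha h1

theorem sq_inj {a b : X} (ha : a ∈ K) (hb : b ∈ K) (h : a * a = b * b) : a = b := by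
  refine mul_inv_eq_one.1 (S.sq_eq_one (mul_mem ha (inv_mem hb)) ?_)
  have hab := (S.k_comm a ha b⁻¹ (inv_mem hb)).eq
  rw [mul_assoc a, ← mul_assoc b⁻¹, ← hab, mul_assoc a b⁻¹, ← mul_assoc a a, h]
  group

theorem tri_r : Tri Q K t r r 1 s := by
  refine ⟨S.r_mem, one_mem _, S.s_memQ, ?_⟩
  have h := congrArg (fun u => r * u * (r⁻¹ * t * r * t * s)) S.rel
  have h2 : r⁻¹ * t * r = t * s * t := S.rel.symm
  have h3 : t * r = r * (t * s * t) := by rw [← h2]; simp [mul_assoc]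
  rw [h3]
  simp [mul_assoc, S.t_sq]

theorem tri_r_inv : Tri Q K t r⁻¹ s 1 r⁻¹ := by
  simpa [S.s_inv] using S.tri_inv S.tri_r

theorem tri_s : Tri Q K t s r⁻¹ 1 r :=
  ⟨inv_mem S.r_mem, one_mem _, S.r_mem, by rw [mul_one, S.rel]⟩

theorem tri_cj_r {c : X} (hc : c ∈ K) : Tri Q K t (cj c r) (cj c⁻¹ r) (c * c)⁻¹ (cj c⁻¹ s) := by
  simpa [cj] using S.tri_conj hc S.tri_r

theorem tri_cj_r_inv {c : X} (hc : c ∈ K) :
    Tri Q K t (cj c r)⁻¹ (cj c⁻¹ s) (c * c)⁻¹ (cj c⁻¹ r)⁻¹ := by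
  simpa [cj, S.s_inv, mul_assoc] using S.tri_inv (S.tri_cj_r hc)

theorem tri_cj_s {c : X} (hc : c ∈ K) :
    Tri Q K t (cj c s) (cj c⁻¹ r)⁻¹ (c * c)⁻¹ (cj c⁻¹ r) := by
  simpa [cj, mul_assoc] using S.tri_conj hc S.tri_s

/-- The decomposition of a pair. -/
theorem tri_pair {c d σ : X} (hc : c ∈ K) (hd : d ∈ K) (hσK : σ ∈ K) (hσ : cj c s * cj d s = cj σ s) :
    Tri Q K t (cj c r * (cj d r)⁻¹) (cj c⁻¹ (r * (cj (d * σ⁻¹) r)⁻¹)) (σ * σ)⁻¹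
      (cj d⁻¹ (cj (c * σ⁻¹) r * r⁻¹)) := by
  have hcdK : (c * d)⁻¹ ∈ K := inv_mem (mul_mem hc hd)
  set m := (c * d)⁻¹ * σ with hm
  have hmK : m ∈ K := mul_mem hcdK hσK
  have hz : cj c⁻¹ s * cj d⁻¹ s = cj m s := by
    rw [hm, ← cj_cj, ← hσ, cj_mul, cj_cj, cj_cj,
      show (c * d)⁻¹ * c = d⁻¹ by group,
      show (c * d)⁻¹ * d = c⁻¹ by rw [(S.k_comm c hc d hd).eq]; group]
    exact (S.e_comm _ (S.cj_memE (inv_mem hc) S.s_mem) _ (S.le (S.cj_memE (inv_mem hd) S.s_mem))).eq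
  have h := S.tri_mul (S.tri_cj_r hc) (S.tri_cj_r_inv hd) (hz ▸ S.tri_cj_s hmK)
  have hcm : ∀ {a b : X}, a ∈ K → b ∈ K → a * b = b * a := fun ha hb => (S.k_comm _ ha _ hb).eq
  have hcd := hcm hc hd
  have hmi : m⁻¹ = σ⁻¹ * (c * d) := by rw [hm]; simp
  have e1 : (c * c)⁻¹ * m⁻¹ = c⁻¹ * (d * σ⁻¹) := by
    rw [hmi, hcm (inv_mem hσK) (mul_mem hc hd)]; group
  have e2 : (d * d)⁻¹ * m⁻¹ = d⁻¹ * (c * σ⁻¹) := by
    rw [hmi, hcm (inv_mem hσK) (mul_mem hc hd), hcd]; group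
  have e3 : (c * c)⁻¹ * (m * m)⁻¹ * (d * d)⁻¹ = (σ * σ)⁻¹ := by
    rw [hm]
    have key : ∀ (a b w : K), ((a * a)⁻¹ * (((a * b)⁻¹ * w) * ((a * b)⁻¹ * w))⁻¹ * (b * b)⁻¹ : K) = (w * w)⁻¹ := by
      intro a b w
      letI : CommGroup K := { (inferInstance : Group K) with
        mul_comm := fun x y => Subtype.ext (hcm x.2 y.2) }
      generalize hu : (a * b)⁻¹ * w = u
      rw [show w = a * b * u by rw [← hu, mul_inv_cancel_left], ← mul_inv, ← mul_inv]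
      congr 1
      ac_rfl
    simpa using congrArg Subtype.val (key ⟨c, hc⟩ ⟨d, hd⟩ ⟨σ, hσK⟩)
  simp only [cj] at h ⊢
  rw [e3] at h
  have g1 : c⁻¹ * (r * (d * σ⁻¹ * r * (d * σ⁻¹)⁻¹)⁻¹) * c⁻¹⁻¹ =
      c⁻¹ * r * c⁻¹⁻¹ * ((c * c)⁻¹ * (m⁻¹ * r * m⁻¹⁻¹)⁻¹ * (c * c)⁻¹⁻¹) := by
    rw [show (c * c)⁻¹ * (m⁻¹ * r * m⁻¹⁻¹)⁻¹ * (c * c)⁻¹⁻¹
      = ((c * c)⁻¹ * m⁻¹) * r⁻¹ * ((c * c)⁻¹ * m⁻¹)⁻¹ by group, e1]
    group
  have g2 : d⁻¹ * (c * σ⁻¹ * r * (c * σ⁻¹)⁻¹ * r⁻¹) * d⁻¹⁻¹ =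
      (d * d)⁻¹ * (m⁻¹ * r * m⁻¹⁻¹) * (d * d)⁻¹⁻¹ * (d⁻¹ * r * d⁻¹⁻¹)⁻¹ := by
    rw [show (d * d)⁻¹ * (m⁻¹ * r * m⁻¹⁻¹) * (d * d)⁻¹⁻¹
      = ((d * d)⁻¹ * m⁻¹) * r * ((d * d)⁻¹ * m⁻¹)⁻¹ by group, e2]
    group
  rw [g1, g2]
  exact h

/-- If `s_c s_d = s` then `r_c r_d` is not of the class of `r`. -/
theorem no_pair (hr : r ∉ E) {c d : X} (hc : c ∈ K) (hd : d ∈ K) (hσ : cj c s * cj d s = s) :
    ¬ Eqv E (cj c r * (cj d r)⁻¹) r := by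
  intro hy
  set y := cj c r * (cj d r)⁻¹ with hydef
  have hcQ := S.cj_memQ hc S.r_mem
  have hdQ := S.cj_memQ hd S.r_mem
  have hyQ : y ∈ Q := mul_mem hcQ (inv_mem hdQ)
  have ht := S.tri_pair hc hd (one_mem K) (by rw [cj_one]; exact hσ)
  simp only [inv_one, mul_one] at ht
  -- the classes
  have hdc : Eqv E (cj c r) (r * cj d r) := by
    have h1 := S.eqv_mul S.r_mem hy (eqv_refl (cj d r))
    rwa [hydef, inv_mul_cancel_right] at h1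
  have hsum : Eqv E (cj c r * r) (cj d r) := by
    have h1 := S.eqv_mul (mul_mem S.r_mem hdQ) hdc (eqv_refl r)
    refine eqv_trans h1 ?_
    have h2 := S.eqv_mul S.r_mem (eqv_refl r) (S.eqv_comm hdQ S.r_mem)
    rw [← mul_assoc] at h2
    refine eqv_trans h2 ?_
    have h3 := S.eqv_mul (one_mem Q) (S.eqv_self_mul S.r_mem) (eqv_refl (cj d r))
    rwa [one_mul, mul_assoc] at h3
  have hsum' : Eqv E (r * cj d r) (cj c r) := eqv_symm hdc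
  have hf : Eqv E (cj d⁻¹ (cj c r * r⁻¹)) r := by
    have h1 : Eqv E (cj c r * r⁻¹) (cj d r) :=
      eqv_trans (S.eqv_mul hcQ (eqv_refl _) (S.eqv_inv S.r_mem)) hsum
    have h2 := S.eqv_cj (inv_mem hd) h1
    rwa [cj_cj d⁻¹ d, inv_mul_cancel, cj_one] at h2
  have hg : Eqv E (cj c⁻¹ (r * (cj d r)⁻¹)) r := by
    have h1 : Eqv E (r * (cj d r)⁻¹) (cj c r) :=
      eqv_trans (S.eqv_mul S.r_mem (eqv_refl _) (S.eqv_inv hdQ)) hsum'
    have h2 := S.eqv_cj (inv_mem hc) h1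
    rwa [cj_cj c⁻¹ c, inv_mul_cancel, cj_one] at h2
  set gy := cj c⁻¹ (r * (cj d r)⁻¹)
  set fy := cj d⁻¹ (cj c r * r⁻¹)
  have hfQ : fy ∈ Q := ht.2.2.1
  have hne : y * y ≠ 1 := fun e => hr (eqv_one.1 (eqv_trans (eqv_symm hy) (eqv_one.2 (S.q_invol y hyQ e))))
  have hzE : fy * gy ∈ E := eqv_one.1 (eqv_trans (S.eqv_mul S.r_mem hf hg) (S.eqv_self_mul S.r_mem))
  have hz1 : fy * gy ≠ 1 := S.comp_ne (mul_mem hyQ hyQ) hne ht ht
  obtain ⟨m, ⟨hm, hme⟩, -⟩ := S.reg _ hzE hz1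
  obtain ⟨k, ⟨hk, hke⟩, -⟩ := S.reg _ (S.q_sq y hyQ) hne
  have h := S.tri_mul ht ht ((show cj m s = fy * gy from hme) ▸ S.tri_cj_s hm)
  have h' : Tri Q K t (y * y) (cj k⁻¹ r)⁻¹ (k * k)⁻¹ (cj k⁻¹ r) := (show cj k s = y * y from hke) ▸ S.tri_cj_s hk
  obtain ⟨-, e2, e3⟩ := S.tri_unique h h'
  simp only [one_mul, mul_one, inv_one] at e2 e3
  have hmk : m = k := S.sq_inj hm hk (inv_injective e2)
  rw [hmk] at e3
  exact S.tri_ne hyQ ht (mul_eq_left.1 e3)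

end Setting

end CfsgLib.RootInvol.OddPartner
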