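import Cfsg.Agent.Lib.Invol.SECriterion.Shape.Rank
import Cfsg.Agent.S1130
import Cfsg.Agent.S1131
import Cfsg.Agent.S1122
import Cfsg.Agent.S1123
import Cfsg.Agent.S1128
import Cfsg.Agent.S1119

/-!
# The regular two-group of a core-free strongly embedded subgroup and a chosen swap
-/

set_option autoImplicit false
set_option linter.style.haveILetI false

namespace CfsgLib.RootInvol.OddPartner

open Subgroup CfsgLib.Invol MulAction CfsgLib.SECrit.Shape

universe u

variable {G : Type u} [Group G] [Finite G] {H Q : Subgroup G} (h : Data H Q)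
include h

/-- The rank one setup with a given involution outside `H` as the swap. -/
theorem setup_of {t : G} (hto : orderOf t = 2) (htH : t ∉ H) :
    Cfsg.IsRankOneSetup G (G ⧸ H) ((1 : G) : G ⧸ H) t Q := by
  set a : G ⧸ H := ((1 : G) : G ⧸ H) with ha
  have hstab : ∀ g : G, g • a = a ↔ g ∈ H := fun g => by
    rw [ha, MulAction.Quotient.smul_coe, smul_eq_mul, mul_one, QuotientGroup.eq, mul_one, inv_mem_iff]
  have hta : ∀ g : G, g • (t • a) = t • a ↔ t⁻¹ * g * t ∈ H := fun g => by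
    rw [← hstab, mul_smul (t⁻¹ * g) t, mul_smul t⁻¹ g, inv_smul_eq_iff]
  -- `Q` is transitive on the other points
  have htr : ∀ b c : G ⧸ H, b ≠ a → c ≠ a → ∃ y ∈ Q, y • b = c := by
    intro b c hb hc
    obtain ⟨g, rfl⟩ := QuotientGroup.mk_surjective b
    obtain ⟨k, rfl⟩ := QuotientGroup.mk_surjective c
    have hg : g ∉ H := fun e => hb (QuotientGroup.eq.2 (by simpa using inv_mem e))
    have hk : k ∉ H := fun e => hc (QuotientGroup.eq.2 (by simpa using inv_mem e))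
    obtain ⟨y, ⟨hy, hyk⟩, -⟩ := h.reg g k hg hk
    exact ⟨y, hy, by rw [MulAction.Quotient.smul_coe, smul_eq_mul]; exact (QuotientGroup.eq.2 hyk).symm⟩
  refine ⟨?_, invol_mul_self hto, invol_ne_one hto, ?_, ?_, ?_, ?_, ?_, h.even_card, ?_⟩
  · refine MulAction.is_two_pretransitive_iff.2 fun {p q r s} hpq hrs => ?_
    obtain ⟨g, rfl⟩ := MulAction.exists_smul_eq G a p
    obtain ⟨k, rfl⟩ := MulAction.exists_smul_eq G a r
    obtain ⟨y, hy, hyq⟩ := htr (g⁻¹ • q) (k⁻¹ • s)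
      (fun e => hpq (by rw [← e, smul_inv_smul])) (fun e => hrs (by rw [← e, smul_inv_smul]))
    refine ⟨k * y * g⁻¹, ?_, ?_⟩
    · rw [mul_smul, mul_smul, inv_smul_smul, (hstab y).2 (h.le hy)]
    · rw [mul_smul, mul_smul, hyq, smul_inv_smul]
  · rw [MulAction.mem_stabilizer_iff, hstab]; exact htH
  · intro y hy
    rw [MulAction.mem_stabilizer_iff, hstab]
    exact h.le hy
  · intro g hg y hy
    rw [MulAction.mem_stabilizer_iff, hstab] at hg
    exact (mem_normalizer_iff.1 (h.norm hg) y).1 hy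
  · rw [eq_bot_iff]
    rintro y ⟨hy, hyt⟩
    obtain ⟨w, -, huniq⟩ := h.reg t t htH htH
    refine mem_bot.2 ((huniq y ⟨hy, ?_⟩).trans (huniq 1 ⟨one_mem _, ?_⟩).symm)
    · rw [← mul_assoc]; exact (hta y).1 hyt
    · rw [one_mul, inv_mul_cancel]; exact one_mem _
  · refine le_antisymm (sup_le ?_ inf_le_left) fun g hg => ?_
    · intro y hy
      rw [MulAction.mem_stabilizer_iff, hstab]
      exact h.le hy
    · rw [MulAction.mem_stabilizer_iff, hstab] at hg
      obtain ⟨y, hy, d, ⟨hd, ⟨d', hd', hdd⟩⟩, rfl⟩ := CfsgLib.Bender.Full.exists_mul h.le h.reg htH hg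
      refine mul_mem (mem_sup_left hy) (mem_sup_right ⟨(hstab d).2 hd, (hta d).2 ?_⟩)
      rw [← show t * d' * t⁻¹ = d from hdd]
      simpa [mul_assoc] using hd'
  · refine (h.se.2.2 t htH).of_dvd_nat (card_dvd_of_le ?_)
    rintro g ⟨hg1, hg2⟩
    exact ⟨(hstab g).1 hg1, t⁻¹ * g * t, (hta g).1 hg2, by simp [mul_assoc]⟩


theorem faithfulSMul : FaithfulSMul G (G ⧸ H) := ⟨fun {g₁ g₂} hg => by
  refine inv_mul_eq_one.1 (h.faithful fun b => ?_)
  rw [mul_smul, ← hg, inv_smul_smul]⟩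

/-- The squares in `Q` square to one. -/
theorem sq_sq {t : G} (hto : orderOf t = 2) (htH : t ∉ H) {y : G} (hy : y ∈ Q) : y * y * (y * y) = 1 := by
  haveI := faithfulSMul h
  haveI : Fact (Nat.Prime 2) := ⟨Nat.prime_two⟩
  obtain ⟨S, hS'⟩ : ∃ S : Sylow 2 Q, (S : Subgroup Q) = ⊤ :=
    ⟨⟨⊤, h.two.to_subgroup ⊤ |>.of_equiv (MulEquiv.refl _), fun _ hle => le_antisymm le_top hle⟩, rfl⟩
  rcases Cfsg.Agent.S1132.result (setup_of h hto htH) h.pair_mul S with hab | hsuz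
  · have hcomm : ∀ a ∈ Q, ∀ b ∈ Q, a * b = b * a := fun a ha b hb =>
      congrArg (fun t : (S : Subgroup Q) => ((t : Q) : G))
        (hab.is_comm.comm (⟨⟨a, ha⟩, hS' ▸ mem_top _⟩ : (S : Subgroup Q)) ⟨⟨b, hb⟩, hS' ▸ mem_top _⟩)
    have hbij := (Nat.bijective_iff_injective_and_card (fun u : {u : Q // u * u = 1} => u.1)).2
      ⟨Subtype.val_injective, (h.sq_eq_one_of_comm hcomm).symm⟩
    obtain ⟨⟨u, hu⟩, hue⟩ := hbij.2 ⟨y, hy⟩
    dsimp only at hue
    have e : y * y = 1 := congrArg Subtype.val (hue ▸ hu)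
    rw [e, mul_one]
  · obtain ⟨-, hcen⟩ := Cfsg.Agent.S1137.result hsuz
    have h1 := hcen _ ((Cfsg.Agent.S1138.result hsuz).1 ⟨⟨y, hy⟩, hS' ▸ mem_top _⟩)
    exact congrArg (fun t : (S : Subgroup Q) => ((t : Q) : G)) h1

end CfsgLib.RootInvol.OddPartner
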