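import Cfsg.Agent.Lib.RootSub.OddPartner.Operators

/-!
# Relations between the shifts
-/

set_option autoImplicit false
set_option linter.style.haveILetI false
set_option linter.unusedSectionVars false

namespace CfsgLib.RootInvol.OddPartner

open CfsgLib.RootInvol.OddTr Subgroup CfsgLib.Invol

universe u

variable {G : Type u} [Group G] [Finite G] {D : Set G}

/-- An element inverted by `x` conjugates the shift by `a` to the shift by its conjugate. -/
theorem shift_inverted {x a j w : G} (hj : x * j * x = j⁻¹) (hx : x * x = 1) :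
    j * shift x a (j * w * j⁻¹) * j⁻¹ = shift x (j * a * j⁻¹) w := by
  have h1 : x * j = j⁻¹ * x := by rw [← hj, mul_assoc, hx, mul_one]
  have h2 : j⁻¹ * x = x * j := h1.symm
  have e : x * (j * w * j⁻¹) * x = j⁻¹ * (x * w * x) * j := by
    calc x * (j * w * j⁻¹) * x = x * j * w * (j⁻¹ * x) := by simp only [mul_assoc]
      _ = j⁻¹ * x * w * (x * j) := by rw [h1, h2]
      _ = _ := by simp only [mul_assoc]
  rw [shift, shift, e]
  group

theorem shift_conj_central {x a o w : G} (hox : Commute o x) (hoa : Commute o a) :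
    shift x a (o * w * o⁻¹) = o * shift x a w * o⁻¹ := by
  have e : x * (o * w * o⁻¹) * x = o * (x * w * x) * o⁻¹ := by
    calc x * (o * w * o⁻¹) * x = x * o * w * (o⁻¹ * x) := by simp only [mul_assoc]
      _ = o * x * w * (x * o⁻¹) := by rw [hox.eq, hox.inv_left.eq]
      _ = _ := by simp only [mul_assoc]
  have ea : a = o * a * o⁻¹ := by rw [hoa.eq, mul_inv_cancel_right]
  rw [shift, shift, e]
  nth_rewrite 1 [ea]
  nth_rewrite 2 [ea]
  group

namespace Cfg

variable {d x f g : G} (C : Cfg D d x f g) (M : Minimal D) (hC : CfsgLib.SECrit.CritThm.{u})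
include C M hC

/-- The relation of the shifts with the square root `r` of the translation `s`. -/
theorem shift_root {a s r w : G} (ha : a ∈ Cfsg.sameCommutingClass D d) (hs : s ∈ Cfsg.sameCommutingClass D d)
    (hr : r ∈ genGroup D d x) (hra : Commute r a) (hrel : x * s * x = r⁻¹ * x * r) (hw : w ∈ hull D f d) :
    shift x a (r * w * r⁻¹) * (r * shift x a (shift x s w) * r⁻¹) ∈ Cfsg.sameCommutingSubgroup D f := by
  have R := M.rooted
  have hxx : x * x = 1 := mul_self R.ot.1 C.hx
  have hxi : x⁻¹ = x := inv_eq R.ot.1 C.hx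
  have hsi : s⁻¹ = s := inv_eq R.ot.1 hs.1
  have hss : s * s = 1 := mul_self R.ot.1 hs.1
  have haa : a * a = 1 := mul_self R.ot.1 ha.1
  set S := shift x s w with hSdef
  have hS := (C.shift_mem M hC hs hw).1
  have haw : a * w * a = w := by
    rw [(C.base_commute M hw.1 (subset_closure (Or.inl (C.class_mem M ha)))).symm.eq, mul_assoc, haa, mul_one]
  set y := x * w * x with hy
  have hyy : y * y = 1 := by
    rw [hy, show x * w * x * (x * w * x) = x * (w * (x * x) * w) * x by simp only [mul_assoc], hxx, mul_one,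
      C.hull_sq M hw, mul_one, hxx]
  have hsys : s * y * s = S * y := by
    rw [hSdef, shift, ← hy, mul_assoc (s * y * s), hyy, mul_one]
  set z := x * S * x with hz
  have hxr : x * r = r * (x * s * x) := by rw [hrel]; group
  have hrx : r⁻¹ * x = x * s * x * r⁻¹ := by
    have := congrArg (·⁻¹) hxr
    simpa only [mul_inv_rev, hxi, hsi, mul_assoc] using this
  have e : x * (r * w * r⁻¹) * x = r * (z * w) * r⁻¹ := by
    calc x * (r * w * r⁻¹) * x = x * r * w * (r⁻¹ * x) := by simp only [mul_assoc]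
      _ = r * (x * (s * y * s) * x) * r⁻¹ := by rw [hxr, hrx, hy]; simp only [mul_assoc]
      _ = r * (z * w) * r⁻¹ := by
        rw [hsys, hz, hy, show x * (S * (x * w * x)) * x = x * S * x * w * (x * x) by simp only [mul_assoc],
          hxx, mul_one]
  have e2 : shift x a (r * w * r⁻¹) = r * (shift x a S * (z * w * z * w)) * r⁻¹ := by
    have ea : a = r * a * r⁻¹ := by rw [hra.eq, mul_inv_cancel_right]
    rw [shift, shift, e, ← hz]
    calc a * (r * (z * w) * r⁻¹) * a * (r * (z * w) * r⁻¹)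
        = r * a * r⁻¹ * (r * (z * w) * r⁻¹) * (r * a * r⁻¹) * (r * (z * w) * r⁻¹) := by rw [← ea]
      _ = r * (a * z * (w * a) * (z * w)) * r⁻¹ := by group
      _ = r * (a * z * (a * (a * w * a)) * (z * w)) * r⁻¹ := by
        rw [show a * (a * w * a) = a * a * (w * a) by simp only [mul_assoc], haa, one_mul]
      _ = r * (a * z * a * z * (z * w * z * w)) * r⁻¹ := by
        have hzz : z * z = 1 := by
          rw [hz, show x * S * x * (x * S * x) = x * (S * (x * x) * S) * x by simp only [mul_assoc], hxx,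
            mul_one, C.hull_sq M hS, mul_one, hxx]
        rw [haw, show a * z * a * z * (z * w * z * w) = a * z * a * (z * z) * w * (z * w) by
          simp only [mul_assoc], hzz, mul_one]
        simp only [mul_assoc]
  have hsh := (C.shift_mem M hC ha hS).1
  have hzw : z * w * z * w ∈ Cfsg.sameCommutingSubgroup D f := by
    have h1 := inv_mem (C.comm_conj M hC hw hS)
    have hzi : z⁻¹ = z := C.conj_x_inv M hS
    have e0 : (w * z * w * z)⁻¹ = z * w * z * w := by
      simp only [mul_inv_rev, hzi, C.hull_inv M hw, mul_assoc]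
    rw [← e0]
    exact h1
  rw [e2, show r * (shift x a S * (z * w * z * w)) * r⁻¹ * (r * shift x a S * r⁻¹) =
    r * (shift x a S * (z * w * z * w) * shift x a S) * r⁻¹ by group,
    (C.base_commute M hsh.1 (C.class_f_hull M hzw).1).eq, mul_assoc _ (shift x a S), C.hull_sq M hsh, mul_one,
    ← (C.class_f_commute M hzw hr).eq, mul_inv_cancel_right]
  exact hzw

/-- With three not dividing the order no shift by `s` fixes anything. -/
theorem shift_fix {s : G} (hs : s ∈ Cfsg.sameCommutingClass D d) {n : ℕ} (hn : (s * x) ^ n = 1)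
    (h3 : ¬ 3 ∣ n) {w : G} (hw : w ∈ hull D f d) (h : shift x s w * w ∈ Cfsg.sameCommutingSubgroup D f) :
    w ∈ Cfsg.sameCommutingSubgroup D f := by
  have R := M.rooted
  have hxx : x * x = 1 := mul_self R.ot.1 C.hx
  have hxi : x⁻¹ = x := inv_eq R.ot.1 C.hx
  have hsi : s⁻¹ = s := inv_eq R.ot.1 hs.1
  have hss : s * s = 1 := mul_self R.ot.1 hs.1
  set g := s * x
  have hgX : g ∈ genGroup D d x := mul_mem (subset_closure (Or.inl hs)) (subset_closure (Or.inr rfl))
  have hgi : g⁻¹ = x * s := by rw [mul_inv_rev, hxi, hsi]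
  set S := shift x s w with hSdef
  have hS := (C.shift_mem M hC hs hw).1
  set y := x * w * x with hy
  have hww := C.hull_sq M hw
  have hyy : y * y = 1 := by
    rw [hy, show x * w * x * (x * w * x) = x * (w * (x * x) * w) * x by simp only [mul_assoc], hxx, mul_one,
      hww, mul_one, hxx]
  have hsw : s * w * s = w := by
    rw [(C.base_commute M hw.1 (subset_closure (Or.inl (C.class_mem M hs)))).symm.eq, mul_assoc, hss, mul_one]
  -- the cycle
  have gw : g * w * g⁻¹ = S * w * (w * y) := by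
    rw [hgi, ← mul_assoc (S * w), mul_assoc S w w, hww, mul_one, hSdef, shift, ← hy,
      mul_assoc (s * y * s) y y, hyy, mul_one, hy, show g = s * x from rfl]
    simp only [mul_assoc]
  have gy : g * y * g⁻¹ = w := by
    rw [hgi, hy, show s * x * (x * w * x) * (x * s) = s * (x * x) * w * (x * x) * s by simp only [mul_assoc],
      hxx, mul_one, mul_one, hsw]
  have hcg : ∀ {e : G}, e ∈ Cfsg.sameCommutingSubgroup D f → g * e * g⁻¹ = e := fun he => by
    rw [← (C.class_f_commute M he hgX).eq, mul_inv_cancel_right]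
  -- `g ^ 2`
  obtain ⟨e₂, he₂, g2⟩ : ∃ e ∈ Cfsg.sameCommutingSubgroup D f, g ^ 2 * w * (g ^ 2)⁻¹ = e * y := by
    refine ⟨S * w * (S * w) * (w * y * w * y), mul_mem (mul_mem h h) (C.comm_conj M hC hw hw), ?_⟩
    rw [show g ^ 2 * w * (g ^ 2)⁻¹ = g * (g * w * g⁻¹) * g⁻¹ by
      rw [pow_two]; simp only [mul_inv_rev, mul_assoc], gw,
      show g * (S * w * (w * y)) * g⁻¹ = g * (S * w) * g⁻¹ * (g * w * g⁻¹) * (g * y * g⁻¹) by group,
      hcg h, gw, gy, show S * w * (S * w) * (w * y * w * y) * y = S * w * (S * w) * (w * y) * w * (y * y) by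
        simp only [mul_assoc], hyy, mul_one]
    simp only [mul_assoc]
  obtain ⟨e₃, he₃, g3⟩ : ∃ e ∈ Cfsg.sameCommutingSubgroup D f, g ^ 3 * w * (g ^ 3)⁻¹ = e * w := by
    refine ⟨e₂, he₂, ?_⟩
    rw [show g ^ 3 * w * (g ^ 3)⁻¹ = g * (g ^ 2 * w * (g ^ 2)⁻¹) * g⁻¹ by
      rw [pow_succ' g 2]; simp only [mul_inv_rev, mul_assoc], g2,
      show g * (e₂ * y) * g⁻¹ = g * e₂ * g⁻¹ * (g * y * g⁻¹) by group, hcg he₂, gy]
  have hq : ∀ q : ℕ, ∃ e ∈ Cfsg.sameCommutingSubgroup D f,
      g ^ (3 * q) * w * (g ^ (3 * q))⁻¹ = e * w := by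
    intro q
    induction q with
    | zero => exact ⟨1, one_mem _, by simp⟩
    | succ q ih =>
      obtain ⟨e, he, hqe⟩ := ih
      have hc : Commute e (g ^ 3) := C.class_f_commute M he (pow_mem hgX 3)
      refine ⟨e * e₃, mul_mem he he₃, ?_⟩
      rw [show 3 * (q + 1) = 3 + 3 * q by omega, pow_add,
        show g ^ 3 * g ^ (3 * q) * w * (g ^ 3 * g ^ (3 * q))⁻¹ =
          g ^ 3 * (g ^ (3 * q) * w * (g ^ (3 * q))⁻¹) * (g ^ 3)⁻¹ by group, hqe,
        show g ^ 3 * (e * w) * (g ^ 3)⁻¹ = g ^ 3 * e * (g ^ 3)⁻¹ * (g ^ 3 * w * (g ^ 3)⁻¹) by group, g3,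
        ← hc.eq, mul_inv_cancel_right, ← mul_assoc]
  obtain ⟨i, hi, hni⟩ : ∃ i, (i = 1 ∨ i = 2) ∧ n = i + 3 * (n / 3) := ⟨n % 3, by omega, by omega⟩
  obtain ⟨e, he, hqe⟩ := hq (n / 3)
  have hfin : e * (g ^ i * w * (g ^ i)⁻¹) = w := by
    have h1 : g ^ n * w * (g ^ n)⁻¹ = w := by rw [hn]; simp
    rw [hni, pow_add, show g ^ i * g ^ (3 * (n / 3)) * w * (g ^ i * g ^ (3 * (n / 3)))⁻¹ =
      g ^ i * (g ^ (3 * (n / 3)) * w * (g ^ (3 * (n / 3)))⁻¹) * (g ^ i)⁻¹ by group, hqe,
      show g ^ i * (e * w) * (g ^ i)⁻¹ = g ^ i * e * (g ^ i)⁻¹ * (g ^ i * w * (g ^ i)⁻¹) by group,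
      ← (C.class_f_commute M he (pow_mem hgX i)).eq, mul_inv_cancel_right] at h1
    exact h1
  rcases hi with rfl | rfl
  · rw [pow_one, gw, show e * (S * w * (w * y)) = e * (S * w) * w * y by simp only [mul_assoc]] at hfin
    have hy' : y ∈ hull D f d := by
      have h1 : y = (e * (S * w) * w)⁻¹ * w := by rw [eq_inv_mul_iff_mul_eq]; exact hfin
      rw [h1]
      exact mul_mem (inv_mem (mul_mem (C.class_f_hull M (mul_mem he h)) hw)) hw
    have hyE : y ∈ Cfsg.sameCommutingSubgroup D f := by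
      have h1 : e * (S * w) * w * y = e * (S * w) * y * w := by
        rw [mul_assoc _ w y, (C.base_commute M hw.1 hy'.1).eq, ← mul_assoc]
      rw [h1] at hfin
      rw [eq_inv_of_mul_eq_one_right (mul_eq_right.1 hfin)]
      exact inv_mem (mul_mem he h)
    have h2 : w = x * y * x := by
      rw [hy, show x * (x * w * x) * x = x * x * w * (x * x) by simp only [mul_assoc], hxx, mul_one, one_mul]
    rw [h2, (commute_sameSubgroup C.hx C.fx hyE).symm.eq, mul_assoc, hxx, mul_one]
    exact hyE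
  · rw [g2, ← mul_assoc] at hfin
    have hyw : y * w ∈ Cfsg.sameCommutingSubgroup D f := by
      have h1 : y = (e * e₂)⁻¹ * w := by rw [eq_inv_mul_iff_mul_eq]; exact hfin
      rw [h1, mul_assoc, hww, mul_one]
      exact inv_mem (mul_mem he he₂)
    have hx' := blockFix_move hw.2 (C.x_mem M)
    have e1 : x * (w * x * w⁻¹) = y * w := by
      rw [C.hull_inv M hw, hy]; simp only [mul_assoc]
    have e2 := C.eq_of_mul_mem M C.hx (R.ot.1.conj_mem x C.hx w) hx'.2 C.hd C.fd (fun h => C.nc h.symm)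
      (e1 ▸ hyw)
    exact C.fix_x M hC hw.1 (conj_eq_self_iff.1 e2.symm)

end Cfg

end CfsgLib.RootInvol.OddPartner
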