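import Cfsg.Agent.Lib.RootSub.OddPartner.Reduce
import Cfsg.Agent.Lib.RootSub.OddTr.Main

/-!
# Conjugates of `d` inside `⟨E_d, x⟩` that commute with `d`

They have the same commuting members as `d`, in any group generated by odd transpositions in which `d`
lies on a line.  For a member `g` commuting with `d` one descends through sets `Y` containing `g` and the
generators: the central members are dropped, and while `d` and `x` are joined in `Y` one passes to the
members commuting with a common neighbour of `d`, `g`, `x`; when they are not, commuting is transitive.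
-/

set_option autoImplicit false

namespace CfsgLib.RootInvol.OddPartner

open CfsgLib.RootInvol.OddTr Subgroup

universe u

variable {G : Type u} [Group G] {D : Set G}

theorem self_mem_sameClass {d : G} (hd : d ∈ D) : d ∈ Cfsg.sameCommutingClass D d := ⟨hd, rfl⟩

theorem mem_sameClass_iff {d a : G} : a ∈ Cfsg.sameCommutingClass D d ↔ a ∈ D ∧ OddTr.Same D d a := by
  constructor
  · exact fun ha => ⟨ha.1, same_of_iff fun f hf => (same_iff ha hf).symm⟩
  · rintro ⟨ha, hs⟩
    refine ⟨ha, Set.ext fun f => ⟨fun hf => ⟨hf.1, ?_⟩, fun hf => ⟨hf.1, ?_⟩⟩⟩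
    · exact ((hs.iff hf.1).1 (show Commute f d from hf.2).symm).symm.eq
    · exact ((hs.iff hf.1).2 (show Commute f a from hf.2).symm).symm.eq

theorem commute_sameClass {d a : G} (hd : d ∈ D) (ha : a ∈ Cfsg.sameCommutingClass D d) : Commute d a :=
  ((same_iff ha hd).2 (Commute.refl d)).symm

theorem commute_of_mem_genGroup {g d x : G} (hgE : ∀ a ∈ Cfsg.sameCommutingClass D d, Commute g a)
    (hgx : Commute g x) {k : G} (hk : k ∈ genGroup D d x) : Commute g k :=
  commute_of_mem_closure_centre (fun a ha => by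
    rcases ha with ha | ha
    · exact hgE a ha
    · rw [Set.mem_singleton_iff] at ha
      exact ha ▸ hgx) hk

theorem lined_subset (hD : Cfsg.IsOddTranspositionSet D) {d : G} (hd : d ∈ D) (hl : Lined D d) {Y : Set G}
    (hY : Cfsg.sameCommutingClass D d ⊆ Y) : Lined Y d := by
  obtain ⟨l, hl', hne, hc, hp⟩ := hl
  exact ⟨l, hY (mem_sameClass_iff.2 ⟨hl', same_of_line hD hd hl' hp hc⟩), hne, hc,
    hY (mem_sameClass_iff.2 ⟨hp, same_of_line' hD hd hl' hp hc⟩)⟩

variable [Finite G]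

/-- The descent. -/
theorem commute_conj_gen (hD : Cfsg.IsOddTranspositionSet D) {d x k g : G} (hd : d ∈ D) (hl : Lined D d)
    (hxd : ¬ Commute d x) (hk : k ∈ genGroup D d x) (hkd : Commute d (k * d * k⁻¹)) (hg : Commute d g)
    (Y : Set G) (hY : IsInner D Y) (hEY : Cfsg.sameCommutingClass D d ⊆ Y) (hxY : x ∈ Y) (hgY : g ∈ Y) :
    Commute g (k * d * k⁻¹) := by
  induction hn : Y.ncard using Nat.strong_induction_on generalizing Y with
  | _ n ih =>
    subst hn
    by_cases hgx : Commute g x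
    · have hgE : ∀ a ∈ Cfsg.sameCommutingClass D d, Commute g a := fun a ha =>
        ((same_iff ha (hY.sub hgY)).2 hg).symm
      exact ((commute_of_mem_genGroup hgE hgx hk).mul_right hg.symm).mul_right
        (commute_of_mem_genGroup hgE hgx hk).inv_right
    have hdY : d ∈ Y := hEY (self_mem_sameClass hd)
    have hax : ∀ a ∈ Cfsg.sameCommutingClass D d, ¬ Commute a x := fun a ha h =>
      hxd ((same_iff ha (hY.sub hxY)).1 h)
    by_cases hc : ∃ f ∈ Y, ∀ z ∈ Y, Commute f z
    · obtain ⟨f, hf, hfc⟩ := hc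
      let Y' : Set G := {y | y ∈ Y ∧ ∃ z ∈ Y, ¬ Commute y z}
      have hle : Y' ⊆ Y := fun y hy => hy.1
      refine ih Y'.ncard (Set.ncard_lt_ncard ⟨hle, fun h => ?_⟩ (Set.toFinite _)) Y'
        ⟨fun y hy => hY.sub hy.1, fun j hj b hb => ?_⟩ (fun a ha => ⟨hEY ha, x, hxY, hax a ha⟩)
        ⟨hxY, d, hdY, fun h => hxd h.symm⟩ ⟨hgY, x, hxY, hgx⟩ rfl
      · obtain ⟨z, hz, hfz⟩ := (h hf).2
        exact hfz (hfc z hz)
      · have hjY : j ∈ closure Y := closure_mono hle hj
        obtain ⟨z, hz, hbz⟩ := hb.2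
        exact ⟨hY.conj j hjY b hb.1, j * z * j⁻¹, hY.conj j hjY z hz, fun h => hbz ((commute_conj_iff j).1 h)⟩
    have hlY := lined_subset hD hd hl hEY
    by_cases hr : Reach Y d x
    · obtain ⟨f, hfY, a, b, c⟩ := common₃ (inner_oddTr hD hY) (goal (inner_oddTr hD hY))
        (d := lift hdY) (e := lift hgY) (x := lift hxY) hdY hgY hxY (lined_inner hdY hlY)
        (commute_coe_iff.1 hg) (fun h => hgx (commute_coe_iff.2 h)) (fun h => hxd (commute_coe_iff.2 h))
        (reach_inner hdY hxY hr)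
      push Not at hc
      obtain ⟨z, hz, hfz⟩ := hc f hfY
      let Y' : Set G := {y | y ∈ Y ∧ Commute (f : G) y}
      have hle : Y' ⊆ Y := fun y hy => hy.1
      refine ih Y'.ncard (Set.ncard_lt_ncard ⟨hle, fun h => hfz (h hz).2⟩ (Set.toFinite _)) Y'
        ⟨fun y hy => hY.sub hy.1, fun j hj y hy => ⟨hY.conj j (closure_mono hle hj) y hy.1, ?_⟩⟩
        (fun y hy => ⟨hEY hy, ?_⟩) ⟨hxY, commute_coe_iff.2 c⟩ ⟨hgY, commute_coe_iff.2 b⟩ rfl
      · exact conj_commute (commute_of_mem_closure_centre (fun _ h => h.2) hj) hy.2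
      · exact ((same_iff hy (hY.sub hfY)).2 (commute_coe_iff.2 a).symm).symm
    · have hkY : k ∈ closure Y :=
        (closure_mono (Set.union_subset hEY (Set.singleton_subset_iff.2 hxY))) hk
      exact (isBlocks hD hY hdY hlY hxY hr).clique hgY hdY (hY.conj k hkY d hdY) hg.symm hkd

/-- **Conjugates in `⟨E_d, x⟩` commuting with `d` have the same commuting members as `d`.** -/
theorem same_conj_gen (hD : Cfsg.IsOddTranspositionSet D) {d x k : G} (hd : d ∈ D) (hl : Lined D d)
    (hx : x ∈ D) (hxd : ¬ Commute d x) (hk : k ∈ genGroup D d x) (hkd : Commute d (k * d * k⁻¹)) :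
    OddTr.Same D d (k * d * k⁻¹) := by
  have hsub : cls D d ⊆ cls D (k * d * k⁻¹) := fun g hg => ⟨hg.1,
    (commute_conj_gen hD hd hl hxd hk hkd hg.2 D ⟨subset_rfl, fun j _ b hb => hD.1.conj_mem b hb j⟩
      (fun a ha => ha.1) hx hg.1).symm⟩
  refine Set.eq_of_subset_of_ncard_le hsub ?_ (Set.toFinite _)
  rw [cls_conj hD.1, Set.ncard_image_of_injective _ fun p q e => mul_left_cancel (mul_right_cancel e)]

/-- The same, for two commuting conjugates. -/
theorem same_of_conj_gen (hD : Cfsg.IsOddTranspositionSet D) {d x j k : G} (hd : d ∈ D) (hl : Lined D d)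
    (hx : x ∈ D) (hxd : ¬ Commute d x) (hj : j ∈ genGroup D d x) (hk : k ∈ genGroup D d x)
    (h : Commute (j * d * j⁻¹) (k * d * k⁻¹)) : OddTr.Same D (j * d * j⁻¹) (k * d * k⁻¹) := by
  have h2 : Commute d (j⁻¹ * k * d * (j⁻¹ * k)⁻¹) := by
    have := (commute_conj_iff j⁻¹).2 h
    rwa [show j⁻¹ * (j * d * j⁻¹) * j⁻¹⁻¹ = d by group,
      show j⁻¹ * (k * d * k⁻¹) * j⁻¹⁻¹ = j⁻¹ * k * d * (j⁻¹ * k)⁻¹ by group] at this
  have := (same_conj_gen hD hd hl hx hxd (mul_mem (inv_mem hj) hk) h2).conj hD.1 j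
  rwa [show j * (j⁻¹ * k * d * (j⁻¹ * k)⁻¹) * j⁻¹ = k * d * k⁻¹ by group] at this

/-- A member in a subgroup with the middle of two of its members. -/
theorem exists_mid_mem (hD : Cfsg.IsOddTranspositionSet D) {H : Subgroup G} {x y : G} (hx : x ∈ D) (hy : y ∈ D)
    (h : ¬ Commute x y) (hxH : x ∈ H) (hyH : y ∈ H) :
    ∃ w ∈ D, w * x * w = y ∧ ¬ Commute w x ∧ ∃ k ∈ H, k * x * k⁻¹ = w := by
  obtain ⟨w, hw, hwy, hwx⟩ := exists_mid hD hx hy h
  refine ⟨w, hw, hwy, hwx, ?_⟩
  have hxi := inv_eq hD.1 hx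
  have sw := mul_self hD.1 hw
  have hwi := inv_eq hD.1 hw
  have e1 : w * (w * x) * w⁻¹ = x * w := by rw [← mul_assoc w w, sw, one_mul, hwi]
  -- `xy = (xw)²` and `xw` has odd order
  have hsq : x * y = (x * w) ^ 2 := by rw [← hwy, pow_two]; simp only [mul_assoc]
  have hodd : Odd (orderOf (x * w)) := by
    rw [← e1, show w * (w * x) * w⁻¹ = MulAut.conj w (w * x) from rfl, MulEquiv.orderOf_eq]
    exact (oddAdj_of_not_commute hD hw hx hwx).2.2.2
  have hxw : x * w ∈ H := by
    obtain ⟨j, hj⟩ := hodd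
    have e : (x * w) = ((x * w) ^ 2) ^ (j + 1) := by
      rw [← pow_mul, show 2 * (j + 1) = orderOf (x * w) + 1 by omega, pow_succ, pow_orderOf_eq_one, one_mul]
    rw [e, ← hsq]
    exact pow_mem (mul_mem hxH hyH) _
  have hwH : w ∈ H := by
    have := mul_mem hxH hxw
    rwa [← mul_assoc, mul_self hD.1 hx, one_mul] at this
  obtain ⟨k, hk, hke⟩ := exists_conj hD hx hw (fun e => hwx e.symm) hxH hwH
  exact ⟨k, hk, hke⟩

end CfsgLib.RootInvol.OddPartner
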