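import Cfsg.Agent.Lib.RootSub.OddPartner.Mates

/-!
# The elements fixing the blocks

`U` is the part of the abelian group fixing every block at `f`.  Modulo `E(f)` it is the set of congruent
members of `d`, the translates by `x` of `U` commute with it, and a member of `E_d` shifts them into `U`
injectively.
-/

set_option autoImplicit false
set_option linter.style.haveILetI false
set_option linter.unusedSectionVars false

namespace CfsgLib.RootInvol.OddPartner

open CfsgLib.RootInvol.OddTr Subgroup CfsgLib.Invol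

universe u

variable {G : Type u} [Group G] {D : Set G}

/-- The stabiliser of a set under conjugation. -/
def setStab (S : Set G) : Subgroup G where
  carrier := {v | ∀ z, v * z * v⁻¹ ∈ S ↔ z ∈ S}
  one_mem' z := by simp
  mul_mem' {v w} hv hw z := by
    rw [show v * w * z * (v * w)⁻¹ = v * (w * z * w⁻¹) * v⁻¹ by group]
    exact (hv _).trans (hw z)
  inv_mem' {v} hv z := by
    have := hv (v⁻¹ * z * v⁻¹⁻¹)
    rw [show v * (v⁻¹ * z * v⁻¹⁻¹) * v⁻¹ = z by group] at this
    exact this.symm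

/-- The elements fixing every block of `Y`. -/
def blockFix (Y : Set G) : Subgroup G where
  carrier := {v | ∀ y ∈ Y, (v * y * v⁻¹ ∈ Y ∧ v⁻¹ * y * v ∈ Y) ∧
    ∀ z ∈ Y, (Commute (v * y * v⁻¹) z ↔ Commute y z) ∧ (Commute (v⁻¹ * y * v) z ↔ Commute y z)}
  one_mem' y hy := by simp [hy]
  mul_mem' {v w} hv hw y hy := by
    rw [show v * w * y * (v * w)⁻¹ = v * (w * y * w⁻¹) * v⁻¹ by group,
      show (v * w)⁻¹ * y * (v * w) = w⁻¹ * (v⁻¹ * y * v) * w by group]
    have h1 := hv _ (hw y hy).1.1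
    have h2 := hw _ (hv y hy).1.2
    exact ⟨⟨h1.1.1, h2.1.2⟩, fun z hz => ⟨(h1.2 z hz).1.trans ((hw y hy).2 z hz).1,
      (h2.2 z hz).2.trans ((hv y hy).2 z hz).2⟩⟩
  inv_mem' {v} hv y hy := by
    rw [inv_inv]
    exact ⟨(hv y hy).1.symm, fun z hz => ((hv y hy).2 z hz).symm⟩

theorem blockFix_move {Y : Set G} {v y : G} (hv : v ∈ blockFix Y) (hy : y ∈ Y) :
    v * y * v⁻¹ ∈ Y ∧ Commute y (v * y * v⁻¹) :=
  ⟨(hv y hy).1.1, (((hv y hy).2 y hy).1.2 (Commute.refl y)).symm⟩

theorem blockFix_conj {Y : Set G} {g v : G} (hg : ∀ y ∈ Y, g * y * g⁻¹ ∈ Y ∧ g⁻¹ * y * g ∈ Y)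
    (hv : v ∈ blockFix Y) : g * v * g⁻¹ ∈ blockFix Y := by
  intro y hy
  obtain ⟨hy1, hy2⟩ := hg y hy
  obtain ⟨⟨a, b⟩, h⟩ := hv _ hy2
  have e1 : g * v * g⁻¹ * y * (g * v * g⁻¹)⁻¹ = g * (v * (g⁻¹ * y * g) * v⁻¹) * g⁻¹ := by group
  have e2 : (g * v * g⁻¹)⁻¹ * y * (g * v * g⁻¹) = g * (v⁻¹ * (g⁻¹ * y * g) * v) * g⁻¹ := by group
  rw [e1, e2]
  refine ⟨⟨(hg _ a).1, (hg _ b).1⟩, fun z hz => ?_⟩
  have hz' := h _ (hg z hz).2
  have hy' : Commute (g⁻¹ * y * g) (g⁻¹ * z * g) ↔ Commute y z := by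
    rw [← commute_conj_iff g⁻¹ (a := y) (b := z), inv_inv]
  constructor
  · rw [← commute_conj_iff g⁻¹, inv_inv, show g⁻¹ * (g * (v * (g⁻¹ * y * g) * v⁻¹) * g⁻¹) * g =
      v * (g⁻¹ * y * g) * v⁻¹ by group]
    exact hz'.1.trans hy'
  · rw [← commute_conj_iff g⁻¹, inv_inv, show g⁻¹ * (g * (v⁻¹ * (g⁻¹ * y * g) * v) * g⁻¹) * g =
      v⁻¹ * (g⁻¹ * y * g) * v by group]
    exact hz'.2.trans hy'

/-- The part of the abelian group fixing every block at `f`. -/
def hull (D : Set G) (f d : G) : Subgroup G := base D f d ⊓ blockFix (comp D f d)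

/-- A congruent member of `d` for `w`. -/
noncomputable def mateOf (D : Set G) (f d w : G) : G :=
  Classical.epsilon fun c => Mate (comp D f d) d c ∧ d * c * w ∈ Cfsg.sameCommutingSubgroup D f

/-- The element of `d` times a congruent member in the coset of `w`. -/
noncomputable def sec (D : Set G) (f d w : G) : G := d * mateOf D f d w

/-- The shift by a member of the class of `d`. -/
def shift (x a w : G) : G := a * (x * w * x) * a * (x * w * x)

variable [Finite G]

namespace Cfg

variable {d x f g : G} (C : Cfg D d x f g) (M : Minimal D)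
include C M

theorem hull_sq {v : G} (hv : v ∈ hull D f d) : v * v = 1 := C.base_sq M hv.1

theorem hull_inv {v : G} (hv : v ∈ hull D f d) : v⁻¹ = v := inv_eq_of_mul_eq_one_right (C.hull_sq M hv)

theorem inner_norm {k : G} (hk : k ∈ closure (comp D f d)) :
    ∀ y ∈ comp D f d, k * y * k⁻¹ ∈ comp D f d ∧ k⁻¹ * y * k ∈ comp D f d := fun y hy =>
  ⟨(C.blocksY M).inner.conj k hk y hy, by
    simpa using (C.blocksY M).inner.conj k⁻¹ (inv_mem hk) y hy⟩

theorem kern_iff {v : G} :
    Kern (comp D f d) v ↔ v ∈ closure (comp D f d) ∧ v ∈ blockFix (comp D f d) := by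
  have hB := C.blocksY M
  refine ⟨fun h => ⟨h.1, fun y hy => ?_⟩, fun h => ⟨h.1, fun y hy => (blockFix_move h.2 hy).2⟩⟩
  have key : ∀ {v}, Kern (comp D f d) v → ∀ z ∈ comp D f d, (Commute (v * y * v⁻¹) z ↔ Commute y z) :=
    fun {v} hv z hz =>
      ⟨fun h' => hB.clique hy (hB.inner.conj v hv.1 y hy) hz (hv.2 y hy) h',
        fun h' => hB.clique (hB.inner.conj v hv.1 y hy) hy hz (hv.2 y hy).symm h'⟩
  refine ⟨C.inner_norm M h.1 y hy, fun z hz => ⟨key h z hz, ?_⟩⟩
  have := key (hB.kern_inv h) z hz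
  rwa [inv_inv] at this

theorem class_f_hull {e : G} (he : e ∈ Cfsg.sameCommutingSubgroup D f) : e ∈ hull D f d := by
  refine ⟨closure_mono Set.subset_union_right he, fun y hy => ?_⟩
  obtain ⟨hyD, hfy⟩ := comp_sub M.rooted.ot.1 C.hd C.fd hy
  have hc := commute_sameSubgroup hyD hfy he
  rw [hc.eq, mul_inv_cancel_right, mul_assoc, ← hc.eq, inv_mul_cancel_left]
  exact ⟨⟨hy, hy⟩, fun z _ => ⟨Iff.rfl, Iff.rfl⟩⟩

theorem fix_block {v y : G} (hv : v ∈ blockFix (comp D f d)) (hy : y ∈ blockAt D f d) :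
    v * y * v⁻¹ ∈ blockAt D f d :=
  ⟨(blockFix_move hv hy.1).1, (((hv y hy.1).2 d self_mem_comp).1.2 hy.2.symm).symm⟩

/-- What fixes `f` and permutes the block normalises the abelian group. -/
theorem base_conj {v a : G} (hvf : Commute f v) (hvT : ∀ y ∈ blockAt D f d, v * y * v⁻¹ ∈ blockAt D f d)
    (ha : a ∈ base D f d) : v * a * v⁻¹ ∈ base D f d := by
  have : base D f d ≤ (base D f d).comap (MulAut.conj v).toMonoidHom := (closure_le _).2 fun b hb => by
    refine subset_closure ?_
    rcases hb with hb | hb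
    · exact Or.inl (hvT b hb)
    · refine Or.inr ?_
      have := sameClass_conj M.rooted.ot.1 hb v
      rwa [hvf.symm.eq, mul_inv_cancel_right] at this
  exact this ha

theorem mate_mem {c : G} (hc : Mate (comp D f d) d c) : c ∈ blockAt D f d := ⟨hc.2.1, hc.2.2.1⟩

theorem mate_hull {c : G} (hc : Mate (comp D f d) d c) : d * c ∈ hull D f d :=
  ⟨mul_mem (subset_closure (Or.inl ⟨self_mem_comp, Commute.refl d⟩))
    (subset_closure (Or.inl (C.mate_mem M hc))), ((C.kern_iff M).1 hc.2.2.2).2⟩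

/-- Commuting members of `Y` with product in `E(f)` are equal. -/
theorem eq_of_mul_mem {a b y : G} (ha : a ∈ D) (hb : b ∈ D) (hab : Commute a b)
    (hy : y ∈ D) (hfy : Commute f y) (hay : ¬ Commute a y)
    (he : a * b ∈ Cfsg.sameCommutingSubgroup D f) : a = b := by
  have R := M.rooted
  by_contra hne
  have he' : a * b ∈ (Cfsg.sameCommutingSubgroup D f : Set G) := he
  rw [R.sameSubgroup_eq C.hf] at he'
  rcases he' with he' | he'
  · refine hay (((same_of_line' R.ot ha hb he'.1 hab).iff hy).2 ?_)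
    exact (same_iff he' hy).2 hfy
  · exact hne (by rw [eq_inv_of_mul_eq_one_left (Set.mem_singleton_iff.1 he'), inv_eq R.ot.1 hb])

theorem mate_unique {c c' : G} (hc : Mate (comp D f d) d c) (hc' : Mate (comp D f d) d c')
    (he : c * c' ∈ Cfsg.sameCommutingSubgroup D f) : c = c' :=
  C.eq_of_mul_mem M (C.block_sub M (C.mate_mem M hc)).1 (C.block_sub M (C.mate_mem M hc')).1
    (C.block_comm M (C.mate_mem M hc) (C.mate_mem M hc')) C.hx C.fx (C.block_nc M (C.mate_mem M hc)) he

theorem x_norm : ∀ y ∈ comp D f d, x * y * x⁻¹ ∈ comp D f d ∧ x⁻¹ * y * x ∈ comp D f d :=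
  C.inner_norm M (subset_closure (C.x_mem M))

theorem conj_x {w : G} (hw : w ∈ blockFix (comp D f d)) : x * w * x ∈ blockFix (comp D f d) := by
  have := blockFix_conj (C.x_norm M) hw
  rwa [inv_eq M.rooted.ot.1 C.hx] at this

theorem conj_x_f {w : G} (hw : w ∈ base D f d) : Commute f (x * w * x) :=
  (C.fx.mul_right (C.base_commute_f M hw)).mul_right C.fx

theorem conj_x_inv {w : G} (hw : w ∈ hull D f d) : (x * w * x)⁻¹ = x * w * x := by
  simp only [mul_inv_rev, C.hull_inv M hw, inv_eq M.rooted.ot.1 C.hx, mul_assoc]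

variable (hC : CfsgLib.SECrit.CritThm.{u})
include hC

theorem exists_sec {w : G} (hw : w ∈ hull D f d) :
    ∃ c, Mate (comp D f d) d c ∧ d * c * w ∈ Cfsg.sameCommutingSubgroup D f := by
  classical
  have R := M.rooted
  have hB : IsBlocks D (comp D f d) := C.blocksY M
  have hxY : x ∈ comp D f d := C.x_mem M
  set Md : Set G := {c | Mate (comp D f d) d c}
  set Mx : Set G := {c | Mate (comp D f d) x c}
  let Φ : G → G := fun c => d * c * x * (d * c)⁻¹
  have hmap : Φ '' Md ⊆ Mx := by
    rintro _ ⟨c, hc, rfl⟩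
    exact hB.mate_kern R.ot.1 hxY hc.2.2.2
  have hinj : Set.InjOn Φ Md := by
    intro c hc c' hc' e
    refine C.mate_unique M hc hc' (C.fix_x M hC (mul_mem (subset_closure (Or.inl (C.mate_mem M hc)))
      (subset_closure (Or.inl (C.mate_mem M hc')))) ?_)
    have hu := C.mate_hull M hc
    have hu' := C.mate_hull M hc'
    have h1 := commute_mul_of_conj (p := d * c) (q := d * c') (C.hull_sq M hu) e.symm
    have hcd : d * c * (d * c') = c * c' := by
      rw [(show Commute d c from hc.2.2.1).eq, mul_assoc c d, ← mul_assoc d d, mul_self R.ot.1 C.hd, one_mul]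
    rwa [hcd] at h1
  have hcard : Mx.ncard ≤ Md.ncard := by
    obtain ⟨k, hk, hke⟩ := hB.isConj hxY self_mem_comp
    refine Set.ncard_le_ncard_of_injOn (fun c => k * c * k⁻¹) (fun c hc => ?_)
      (fun a _ b _ e => mul_left_cancel (mul_right_cancel e)) (Set.toFinite _)
    have := hB.mate_conj hc hk
    rwa [hke] at this
  have heq : Φ '' Md = Mx := Set.eq_of_subset_of_ncard_le hmap
    (by rw [Set.InjOn.ncard_image hinj]; exact hcard) (Set.toFinite _)
  have hx' := blockFix_move hw.2 hxY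
  have hmate : w * x * w⁻¹ ∈ Mx := by
    refine ⟨hxY, hx'.1, hx'.2, (C.kern_iff M).2 ⟨mul_mem (subset_closure hxY) (subset_closure hx'.1), ?_⟩⟩
    rw [show x * (w * x * w⁻¹) = x * w * x * w⁻¹ by group]
    exact mul_mem (C.conj_x M hw.2) (inv_mem hw.2)
  rw [← heq] at hmate
  obtain ⟨c, hc, hce⟩ := hmate
  refine ⟨c, hc, C.fix_x M hC (mul_mem (C.mate_hull M hc).1 hw.1) ?_⟩
  exact commute_mul_of_conj (C.hull_sq M (C.mate_hull M hc)) hce.symm

theorem sec_spec {w : G} (hw : w ∈ hull D f d) :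
    Mate (comp D f d) d (mateOf D f d w) ∧ sec D f d w * w ∈ Cfsg.sameCommutingSubgroup D f :=
  Classical.epsilon_spec (C.exists_sec M hC hw)

theorem sec_mem {w : G} (hw : w ∈ hull D f d) : sec D f d w ∈ hull D f d :=
  C.mate_hull M (C.sec_spec M hC hw).1

theorem sec_eq {w c : G} (hw : w ∈ hull D f d) (hc : Mate (comp D f d) d c)
    (he : d * c * w ∈ Cfsg.sameCommutingSubgroup D f) : sec D f d w = d * c := by
  obtain ⟨hm, hs⟩ := C.sec_spec M hC hw
  have h1 := C.sec_mem M hC hw
  refine congrArg (d * ·) (C.mate_unique M hm hc ?_)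
  have := mul_mem hs he
  rwa [show sec D f d w * w * (d * c * w) = mateOf D f d w * c by
    rw [(C.base_commute M (C.mate_hull M hc).1 hw.1).eq, show sec D f d w * w * (w * (d * c)) =
      sec D f d w * (w * w) * (d * c) by simp only [mul_assoc], C.hull_sq M hw, mul_one, sec,
      (show Commute d (mateOf D f d w) from hm.2.2.1).eq, mul_assoc _ d, ← mul_assoc d d,
      mul_self M.rooted.ot.1 C.hd, one_mul]] at this

theorem sec_congr {w w' : G} (hw : w ∈ hull D f d) (hw' : w' ∈ hull D f d)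
    (he : w * w' ∈ Cfsg.sameCommutingSubgroup D f) : sec D f d w' = sec D f d w := by
  obtain ⟨hm, hs⟩ := C.sec_spec M hC hw
  refine C.sec_eq M hC hw' hm ?_
  have := mul_mem hs he
  rwa [show sec D f d w * w * (w * w') = sec D f d w * (w * w) * w' by simp only [mul_assoc],
    C.hull_sq M hw, mul_one] at this

/-- `U` and its translate by `x` commute modulo `E(f)`. -/
theorem comm_conj {u w : G} (hu : u ∈ hull D f d) (hw : w ∈ hull D f d) :
    u * (x * w * x) * u * (x * w * x) ∈ Cfsg.sameCommutingSubgroup D f := by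
  have R := M.rooted
  have hB : IsBlocks D (comp D f d) := C.blocksY M
  have hxY : x ∈ comp D f d := C.x_mem M
  set y := x * w * x with hy
  have hyF := C.conj_x M hw.2
  have hyi : y⁻¹ = y := C.conj_x_inv M hw
  have hui := C.hull_inv M hu
  have hwi := C.hull_inv M hw
  have hxx : x * x = 1 := mul_self R.ot.1 C.hx
  have hbase : u * y * u * y ∈ base D f d := by
    have h1 := mul_mem hu.1 (C.base_conj M (C.conj_x_f M hw.1) (fun z hz => C.fix_block M hyF hz) hu.1)
    rwa [hyi, show u * (y * u * y) = u * y * u * y by simp only [mul_assoc]] at h1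
  refine C.fix_x M hC hbase ?_
  have move : ∀ {v z : G}, v ∈ blockFix (comp D f d) → z ∈ comp D f d → Commute x z → v⁻¹ = v →
      v * z * v ∈ comp D f d ∧ Commute x (v * z * v) := by
    intro v z hv hz hxz hvi
    have h := blockFix_move hv hz
    rw [hvi] at h
    exact ⟨h.1, hB.clique hxY hz h.1 hxz h.2⟩
  have hconj : ∀ {z : G}, Commute x z → y * z * y = x * (w * z * w) * x := by
    intro z hxz
    calc y * z * y = x * w * (x * z * x) * w * x := by rw [hy]; simp only [mul_assoc]
      _ = _ := by rw [hxz.eq, mul_assoc z, hxx, mul_one]; simp only [mul_assoc]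
  have drop : ∀ {z : G}, Commute x z → x * z * x = z := fun h => by rw [h.eq, mul_assoc, hxx, mul_one]
  obtain ⟨h1Y, h1⟩ := move hw.2 hxY (Commute.refl x) hwi
  obtain ⟨h2Y, h2⟩ := move hu.2 h1Y h1 hui
  obtain ⟨h3Y, h3⟩ := move hw.2 h2Y h2 hwi
  have huw : u * w = w * u := (C.base_commute M hu.1 hw.1).eq
  rw [← conj_eq_self_iff]
  calc u * y * u * y * x * (u * y * u * y)⁻¹ = u * (y * (u * (y * x * y) * u) * y) * u := by
        simp only [mul_inv_rev, hyi, hui, mul_assoc]
    _ = u * (y * (u * (w * x * w) * u) * y) * u := by rw [hconj (Commute.refl x), drop h1]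
    _ = u * (w * (u * (w * x * w) * u) * w) * u := by rw [hconj h2, drop h3]
    _ = u * w * (u * w) * x * (w * u * (w * u)) := by simp only [mul_assoc]
    _ = x := by
      rw [huw, show w * u * (w * u) = 1 by
        rw [(C.base_commute M hu.1 hw.1).mul_mul_mul_comm, C.hull_sq M hw, C.hull_sq M hu, one_mul],
        one_mul, mul_one]

theorem shift_mem {a w : G} (ha : a ∈ Cfsg.sameCommutingClass D d) (hw : w ∈ hull D f d) :
    shift x a w ∈ hull D f d ∧ shift x a w = a * ((x * w * x) * a * (x * w * x)⁻¹) := by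
  have haT := C.class_mem M ha
  have hyF := C.conj_x M hw.2
  have e : shift x a w = a * ((x * w * x) * a * (x * w * x)⁻¹) := by
    rw [shift, C.conj_x_inv M hw]; simp only [mul_assoc]
  refine ⟨⟨e ▸ mul_mem (subset_closure (Or.inl haT)) (subset_closure (Or.inl (C.fix_block M hyF haT))), ?_⟩, e⟩
  have := mul_mem (blockFix_conj (C.inner_norm M (subset_closure haT.1)) hyF) hyF
  rwa [inv_eq M.rooted.ot.1 ha.1] at this

/-- The shift is a homomorphism modulo `E(f)`. -/
theorem shift_mul {a w w' : G} (ha : a ∈ Cfsg.sameCommutingClass D d) (hw : w ∈ hull D f d)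
    (hw' : w' ∈ hull D f d) :
    shift x a (w * w') * (shift x a w * shift x a w') ∈ Cfsg.sameCommutingSubgroup D f := by
  have hxx : x * x = 1 := mul_self M.rooted.ot.1 C.hx
  have haa : a * a = 1 := mul_self M.rooted.ot.1 ha.1
  set y := x * w * x with hy
  set y' := x * w' * x with hy'
  have hyy : y * y = 1 := by
    rw [hy, show x * w * x * (x * w * x) = x * (w * (x * x) * w) * x by simp only [mul_assoc], hxx, mul_one,
      C.hull_sq M hw, mul_one, hxx]
  have e1 : x * (w * w') * x = y * y' := by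
    rw [hy, hy', show x * w * x * (x * w' * x) = x * (w * (x * x) * w') * x by simp only [mul_assoc], hxx,
      mul_one]
  have hcy : y * y' = y' * y := by
    rw [← e1, (C.base_commute M hw.1 hw'.1).eq, hy, hy',
      show x * w' * x * (x * w * x) = x * (w' * (x * x) * w) * x by simp only [mul_assoc], hxx, mul_one]
  have h1 := (C.shift_mem M hC ha hw).1
  have h2 := (C.shift_mem M hC ha hw').1
  have hb := C.comm_conj M hC h2 hw
  set s1 := shift x a w with hs1
  set s2 := shift x a w' with hs2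
  have key : shift x a (w * w') = s1 * y * s2 * y := by
    rw [hs1, hs2, shift, shift, shift, e1, ← hy, ← hy']
    calc a * (y * y') * a * (y * y') = a * y * (a * a) * y' * a * (y' * y) := by
          rw [haa, mul_one, ← hcy]; simp only [mul_assoc]
      _ = a * y * a * (y * y) * (a * y' * a * y') * y := by rw [hyy, mul_one]; simp only [mul_assoc]
      _ = _ := by simp only [mul_assoc]
  have h12 := C.base_commute M h1.1 h2.1
  rw [key, show s1 * y * s2 * y * (s1 * s2) = s1 * s2 * (s2 * y * s2 * y) * (s1 * s2) by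
    rw [show s1 * s2 * (s2 * y * s2 * y) = s1 * (s2 * s2) * y * s2 * y by simp only [mul_assoc],
      C.hull_sq M h2, mul_one],
    (C.base_commute M (mul_mem h1.1 h2.1) (C.class_f_hull M hb).1).eq, mul_assoc,
    h12.symm.mul_mul_mul_comm, C.hull_sq M h1, C.hull_sq M h2, one_mul, mul_one]
  exact hb

theorem shift_one {a e : G} (ha : a ∈ Cfsg.sameCommutingClass D d)
    (he : e ∈ Cfsg.sameCommutingSubgroup D f) : shift x a e = 1 := by
  have R := M.rooted
  have h1 : x * e * x = e := by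
    rw [(commute_sameSubgroup C.hx C.fx he).symm.eq, mul_assoc, mul_self R.ot.1 C.hx, mul_one]
  rw [shift, h1, (commute_sameSubgroup ha.1 (C.f_class M ha) he).symm.eq, mul_assoc e, mul_self R.ot.1 ha.1,
    mul_one, sameSubgroup_sq R.ot.1 C.hf he]

theorem shift_inj {a w : G} (ha : a ∈ Cfsg.sameCommutingClass D d) (hw : w ∈ hull D f d)
    (h : shift x a w ∈ Cfsg.sameCommutingSubgroup D f) : w ∈ Cfsg.sameCommutingSubgroup D f := by
  have R := M.rooted
  have hB : IsBlocks D (comp D f d) := C.blocksY M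
  have haT := C.class_mem M ha
  have hy := C.fix_block M (C.conj_x M hw.2) haT
  rw [(C.shift_mem M hC ha hw).2] at h
  have e := C.eq_of_mul_mem M ha.1 (C.block_sub M hy).1 (C.block_comm M haT hy) C.hx C.fx
    (C.block_nc M haT) h
  have hay : Commute (x * w * x) a := conj_eq_self_iff.1 e.symm
  obtain ⟨g', C'⟩ := (C.left M ha).rev M hC
  have hx' := blockFix_move hw.2 (C.x_mem M)
  have hcomp : comp D f x = comp D f d := comp_eq (C.x_mem M)
  have hτ : x * (w * x * w⁻¹) ∈ base D f x := by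
    refine mul_mem (subset_closure (Or.inl ⟨self_mem_comp, Commute.refl x⟩)) (subset_closure (Or.inl ⟨?_, hx'.2⟩))
    rw [hcomp]
    exact hx'.1
  have h1 := C'.fix_x M hC hτ (by
    rw [show x * (w * x * w⁻¹) = x * w * x * w⁻¹ by group]
    exact hay.mul_left (C.base_commute M hw.1 (subset_closure (Or.inl haT))).inv_left)
  have e2 := C.eq_of_mul_mem M C.hx (R.ot.1.conj_mem x C.hx w) hx'.2 C.hd C.fd (fun h => C.nc h.symm) h1
  exact C.fix_x M hC hw.1 (conj_eq_self_iff.1 e2.symm)

/-- The section is quadratic. -/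
theorem sec_mul {u w w0 : G} (hu : u ∈ hull D f d) (hw : w ∈ hull D f d) (hw0 : w0 ∈ hull D f d)
    (h0 : shift x d w0 * u ∈ Cfsg.sameCommutingSubgroup D f) :
    sec D f d (u * w) = sec D f d u * sec D f d w * (w * (x * w0 * x) * w * (x * w0 * x)) := by
  have R := M.rooted
  have hB : IsBlocks D (comp D f d) := C.blocksY M
  set y := x * w0 * x with hy
  have hyF := C.conj_x M hw0.2
  have hyi : y⁻¹ = y := C.conj_x_inv M hw0
  have hdT : d ∈ blockAt D f d := ⟨self_mem_comp, Commute.refl d⟩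
  have hyd := blockFix_move hyF (show d ∈ comp D f d from self_mem_comp)
  obtain ⟨hsm, hse⟩ := C.shift_mem M hC (self_mem_sameClass C.hd) hw0
  have hmu : Mate (comp D f d) d (y * d * y⁻¹) := by
    refine ⟨self_mem_comp, hyd.1, hyd.2, (C.kern_iff M).2 ⟨mul_mem (subset_closure self_mem_comp)
      (subset_closure hyd.1), ?_⟩⟩
    rw [← hse]
    exact hsm.2
  have hsu : sec D f d u = d * (y * d * y⁻¹) := C.sec_eq M hC hu hmu (by rw [← hse]; exact h0)
  obtain ⟨hm, hs⟩ := C.sec_spec M hC hw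
  set c := mateOf D f d w with hc
  have hnorm : ∀ z ∈ comp D f d, y * z * y⁻¹ ∈ comp D f d ∧ y⁻¹ * z * y ∈ comp D f d :=
    fun z hz => (hyF z hz).1
  have hmy : Mate (comp D f d) (y * d * y⁻¹) (y * c * y⁻¹) := by
    refine ⟨hyd.1, (hnorm c hm.2.1).1, (commute_conj_iff y).2 hm.2.2.1, (C.kern_iff M).2
      ⟨mul_mem (subset_closure hyd.1) (subset_closure (hnorm c hm.2.1).1), ?_⟩⟩
    rw [show y * d * y⁻¹ * (y * c * y⁻¹) = y * (d * c) * y⁻¹ by group]
    exact blockFix_conj hnorm ((C.kern_iff M).1 hm.2.2.2).2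
  have hm2 := hB.mate_trans R.ot.1 hmu hmy
  -- the correction
  set e0 := sec D f d w * w
  have he0y : Commute e0 y := by
    refine (commute_sameSubgroup C.hx C.fx hs).mul_right ?_ |>.mul_right (commute_sameSubgroup C.hx C.fx hs)
    exact C.base_commute M (C.class_f_hull M hs).1 hw0.1
  have hz := C.comm_conj M hC hw hw0
  set z := w * y * w * y with hzdef
  have hswy : y * sec D f d w * y = sec D f d w * z := by
    have h1 : sec D f d w = e0 * w := by rw [mul_assoc, C.hull_sq M hw, mul_one]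
    rw [h1, ← mul_assoc y, ← he0y.eq, hzdef, show e0 * w * (w * y * w * y) = e0 * (w * w) * y * w * y by
      simp only [mul_assoc], C.hull_sq M hw, mul_one]
  have hd' : d * (y * c * y⁻¹) = sec D f d u * sec D f d w * z := by
    rw [mul_assoc _ _ z, ← hswy, hsu, sec, ← hc, hyi,
      show d * (y * d * y) * (y * (d * c) * y) = d * (y * d * (y * y) * d * c * y) by simp only [mul_assoc],
      show y * y = 1 by nth_rw 1 [← hyi]; exact inv_mul_cancel y, mul_one,
      mul_assoc y d d, mul_self R.ot.1 C.hd, mul_one]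
  rw [C.sec_eq M hC (mul_mem hu hw) hm2 ?_, hd']
  rw [hd']
  have hcm := C.base_commute M (C.sec_mem M hC hw).1 hu.1
  have hu0 := (C.sec_spec M hC hu).2
  have : sec D f d u * sec D f d w * z * (u * w) = sec D f d u * u * (sec D f d w * w) * z := by
    rw [mul_assoc _ z, (C.base_commute M (C.class_f_hull M hz).1 (mul_mem hu.1 hw.1)).eq, ← mul_assoc,
      hcm.mul_mul_mul_comm]
  rw [this]
  exact mul_mem (mul_mem hu0 hs) hz

end Cfg

end CfsgLib.RootInvol.OddPartner
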