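import Cfsg.Agent.Lib.RootSub.OddTr.Basic
import Cfsg.Prelude.Def_RootSubgroups

/-!
# A class of members with the same commuting members, and an odd partner

The reduced situation: `X` has no normal two-subgroup and is generated by members `A` with the same
commuting members as `d` and by one member `x` not commuting with `d`; `D` is one class.
-/

set_option autoImplicit false

namespace CfsgLib.RootInvol.OddPartner

open CfsgLib.RootInvol.OddTr

/-- The reduced situation. -/
structure Reduced {X : Type*} [Group X] (D A : Set X) (d x : X) : Prop where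
  ot : Cfsg.IsOddTranspositionSet D
  cls : ∀ a ∈ D, ∀ b ∈ D, ∃ g : X, g * a * g⁻¹ = b
  core : Cfsg.pCore 2 X = ⊥
  mem : d ∈ A
  sub : A ⊆ D
  same : ∀ a ∈ A, Same D a d
  mem_x : x ∈ D
  odd : ¬ Commute d x
  gen : Subgroup.closure (A ∪ {x}) = ⊤

/-- No two commuting members have their product in `D`. -/
def NoLine {X : Type*} [Group X] (D : Set X) : Prop := ∀ a ∈ D, ∀ b ∈ D, Commute a b → a * b ∉ D

end CfsgLib.RootInvol.OddPartner
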