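import Cfsg.Agent.Lib.RootSub.OddPartner.Sec

/-!
# Commutators of the stabiliser of `d` act trivially on the block of `f` at `d`

The stabiliser fixes `f` and a member `p` apart from it, so it acts on a torus of the group of that block and
`p`; the automorphisms of a cyclic group commute, and the torus is regular on the block.
-/

set_option autoImplicit false
set_option linter.style.haveILetI false
set_option linter.unusedSectionVars false

namespace CfsgLib.RootInvol.OddPartner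

open CfsgLib.RootInvol.OddTr Subgroup CfsgLib.Invol

universe u

variable {G : Type u} [Group G] {D : Set G}

/-- The elements permuting `T` and moving it only modulo the stabiliser of `S`. -/
def quiet (T S : Set G) : Subgroup G where
  carrier := {y | (∀ z, y * z * y⁻¹ ∈ T ↔ z ∈ T) ∧ ∀ c ∈ T, y * c * y⁻¹ * c⁻¹ ∈ setStab S}
  one_mem' := ⟨fun z => by simp, fun c _ => by simp⟩
  mul_mem' {y z} hy hz := by
    refine ⟨fun c => ?_, fun c hc => ?_⟩
    · rw [show y * z * c * (y * z)⁻¹ = y * (z * c * z⁻¹) * y⁻¹ by group]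
      exact (hy.1 _).trans (hz.1 c)
    · have h := mul_mem (hy.2 _ ((hz.1 c).2 hc)) (hz.2 c hc)
      rwa [show y * (z * c * z⁻¹) * y⁻¹ * (z * c * z⁻¹)⁻¹ * (z * c * z⁻¹ * c⁻¹) =
        y * z * c * (y * z)⁻¹ * c⁻¹ by group] at h
  inv_mem' {y} hy := by
    have h1 : ∀ z, y⁻¹ * z * y⁻¹⁻¹ ∈ T ↔ z ∈ T := fun z => by
      rw [← hy.1 (y⁻¹ * z * y⁻¹⁻¹), show y * (y⁻¹ * z * y⁻¹⁻¹) * y⁻¹ = z by group]
    refine ⟨h1, fun c hc => ?_⟩
    have h := inv_mem (hy.2 _ ((h1 c).2 hc))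
    rwa [show (y * (y⁻¹ * c * y⁻¹⁻¹) * y⁻¹ * (y⁻¹ * c * y⁻¹⁻¹)⁻¹)⁻¹ = y⁻¹ * c * y⁻¹⁻¹ * c⁻¹ by group] at h

variable [Finite G]

/-- What maps to one moves `x` to a member commuting with it. -/
theorem Seed.move_x {A : Set G} {d x : G} (S : Seed D A d x) {o : closure (A ∪ {x})}
    (ho : QuotientGroup.mk' (Cfsg.pCore 2 (closure (A ∪ {x}))) o = 1) :
    Commute x ((o : G) * x * (o : G)⁻¹) := by
  obtain ⟨kx, hkx, hkxe⟩ := S.exists_conj_x
  set π := QuotientGroup.mk' (Cfsg.pCore 2 (closure (A ∪ {x})))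
  set d0 : closure (A ∪ {x}) := ⟨d, S.memd⟩
  set k0 : closure (A ∪ {x}) := ⟨kx, hkx⟩
  have e : π (o * k0 * d0 * (o * k0)⁻¹) = π (k0 * d0 * k0⁻¹) := by
    simp only [map_mul, map_inv, ho, one_mul]
  have h1 := S.reflect (g := k0) (k := o * k0)
    ((congrArg (Commute (π (k0 * d0 * k0⁻¹))) e).mpr (Commute.refl _))
  have e2 : ((o * k0 : closure (A ∪ {x})) : G) * d * ((o * k0 : closure (A ∪ {x})) : G)⁻¹ =
      (o : G) * (kx * d * kx⁻¹) * (o : G)⁻¹ := by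
    show (o : G) * kx * d * ((o : G) * kx)⁻¹ = _
    group
  rw [e2, show (k0 : G) = kx from rfl, hkxe] at h1
  exact h1

theorem comp_conj_mem (hD : Cfsg.IsRootInvolutionSet D) {a b v : G} (hva : OddTr.Same D a (v * a * v⁻¹))
    (hvb : Commute v b) {z : G} (hz : z ∈ comp D a b) : v * z * v⁻¹ ∈ comp D a b := by
  obtain ⟨k, hk, rfl⟩ := hz
  have h1 : v * k * v⁻¹ ∈ closure (centre D a) := by
    have : closure (centre D a) ≤ (closure (centre D a)).comap (MulAut.conj v).toMonoidHom :=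
      (closure_le _).2 fun c hc => subset_closure
        ⟨hD.conj_mem c hc.1 v, (hva.iff (hD.conj_mem c hc.1 v)).2 ((commute_conj_iff v).2 hc.2)⟩
    exact this hk
  refine ⟨_, h1, ?_⟩
  rw [show v * k * v⁻¹ * b * (v * k * v⁻¹)⁻¹ = v * k * (v⁻¹ * b * v) * k⁻¹ * v⁻¹ by group,
    show v⁻¹ * b * v = b by rw [mul_assoc, ← hvb.eq, inv_mul_cancel_left]]
  group

namespace Cfg

variable {d x f g : G} (C : Cfg D d x f g) (M : Minimal D) {p : G}
  (hp : p ∈ D) (hdp : Commute d p) (hxp : Commute x p) (hfp : ¬ Commute f p)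
include C M hp hdp hxp hfp

theorem p_mem : p ∈ comp D d f := mem_comp_of_nc M.rooted.ot C.hf C.fd.symm hp hdp self_mem_comp hfp

theorem mem_stab {v : G} (hvd : Commute v d) (hvf : Commute v f) (h : Commute p (v * p * v⁻¹)) :
    v ∈ setStab (blockAt D d p) := by
  have hB := C.blocksR M
  have hcomp : comp D d p = comp D d f := comp_eq (C.p_mem M hp hdp hxp hfp)
  have hmv : ∀ {w z : G}, Commute w d → Commute w f → z ∈ comp D d f → w * z * w⁻¹ ∈ comp D d f :=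
    fun {w z} hwd hwf hz => comp_conj_mem M.rooted.ot.1
      (by rw [hwd.eq, mul_inv_cancel_right]; rfl) hwf hz
  have key : ∀ {w z : G}, Commute w d → Commute w f → Commute p (w * p * w⁻¹) → z ∈ blockAt D d p →
      w * z * w⁻¹ ∈ blockAt D d p := by
    rintro w z hwd hwf hw ⟨hz, hpz⟩
    rw [hcomp] at hz
    refine ⟨hcomp ▸ hmv hwd hwf hz, ?_⟩
    exact hB.clique (C.p_mem M hp hdp hxp hfp) (hmv hwd hwf (C.p_mem M hp hdp hxp hfp)) (hmv hwd hwf hz) hw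
      ((commute_conj_iff w).2 hpz)
  intro z
  refine ⟨fun hz => ?_, key hvd hvf h⟩
  have h' : Commute p (v⁻¹ * p * v⁻¹⁻¹) := by
    have := (commute_conj_iff v⁻¹).2 h
    rw [show v⁻¹ * (v * p * v⁻¹) * v⁻¹⁻¹ = p by group] at this
    exact this.symm
  have := key hvd.inv_left hvf.inv_left h' hz
  rwa [show v⁻¹ * (v * z * v⁻¹) * v⁻¹⁻¹ = z by group] at this

theorem seedR : Seed D (blockAt D d f) f p where
  ot := M.rooted.ot
  mem := ⟨self_mem_comp, Commute.refl f⟩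
  sub _ ha := (comp_sub M.rooted.ot.1 C.hf C.fd.symm ha.1).1
  mem_x := hp
  apart := hfp
  same a ha j hj := by
    have hB := C.blocksR M
    have hjY : j * f * j⁻¹ ∈ comp D d f := hB.inner.conj j
      (closure_mono (Set.union_subset (fun _ h => h.1)
        (Set.singleton_subset_iff.2 (C.p_mem M hp hdp hxp hfp))) hj) f self_mem_comp
    exact ⟨fun h => hB.clique self_mem_comp ha.1 hjY ha.2 h,
      fun h => hB.clique ha.1 self_mem_comp hjY ha.2.symm h⟩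

theorem gen_p {y : G} (hy : y ∈ genGroup D d x) : Commute f y ∧ Commute p y :=
  ⟨commute_of_mem_genGroup (fun _ ha => C.f_class M ha) C.fx hy,
    commute_of_mem_genGroup (fun _ ha => ((same_iff ha hp).2 hdp).symm) hxp.symm hy⟩

theorem blockR_conj {y z : G} (hy : y ∈ genGroup D d x) (h : Commute d (y * d * y⁻¹)) :
    y * z * y⁻¹ ∈ blockAt D d f ↔ z ∈ blockAt D d f := by
  have R := M.rooted
  have hs := same_conj_gen R.ot C.hd (R.lined_mem C.hd) C.hx C.nc hy h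
  have hs' : OddTr.Same D d (y⁻¹ * d * y⁻¹⁻¹) := by
    have := hs.conj R.ot.1 y⁻¹
    rw [show y⁻¹ * (y * d * y⁻¹) * y⁻¹⁻¹ = d by group] at this
    exact this.symm
  have key : ∀ {w u : G}, w ∈ genGroup D d x → OddTr.Same D d (w * d * w⁻¹) → u ∈ blockAt D d f →
      w * u * w⁻¹ ∈ blockAt D d f := fun {w u} hw hw' hu =>
    ⟨comp_conj_mem R.ot.1 hw' (C.gen_p M hp hdp hxp hfp hw).1.symm hu.1,
      conj_commute (C.gen_p M hp hdp hxp hfp hw).1 hu.2⟩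
  refine ⟨fun hz => ?_, key hy hs⟩
  have := key (inv_mem hy) hs' hz
  rwa [show y⁻¹ * (y * z * y⁻¹) * y⁻¹⁻¹ = z by group] at this

/-- **Commutators of the stabiliser are quiet.** -/
theorem commutator_quiet (hC : CfsgLib.SECrit.CritThm.{u}) {y₁ y₂ : G} (hy₁ : y₁ ∈ genGroup D d x)
    (hy₂ : y₂ ∈ genGroup D d x) (h₁ : Commute d (y₁ * d * y₁⁻¹)) (h₂ : Commute d (y₂ * d * y₂⁻¹)) :
    y₁ * y₂ * y₁⁻¹ * y₂⁻¹ ∈ quiet (blockAt D d f) (blockAt D d p) := by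
  haveI : Fact (Nat.Prime 2) := ⟨Nat.prime_two⟩
  have R := M.rooted
  have S := C.seedR M hp hdp hxp hfp
  have hT1 : ∀ z, y₁ * z * y₁⁻¹ ∈ blockAt D d f ↔ z ∈ blockAt D d f := fun z =>
    C.blockR_conj M hp hdp hxp hfp hy₁ h₁
  have hT2 : ∀ z, y₂ * z * y₂⁻¹ ∈ blockAt D d f ↔ z ∈ blockAt D d f := fun z =>
    C.blockR_conj M hp hdp hxp hfp hy₂ h₂
  have hl : ¬ NoLine (quotD (blockAt D d f) f p S.memd) := by
    obtain ⟨l, hl, hpl, hc⟩ := R.exists_line C.hf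
    exact S.not_noLine ⟨C.class_f_mem M hl, commute_sameClass C.hf hl⟩
      ⟨C.class_f_mem M hpl, commute_sameClass C.hf hpl⟩ hc
  obtain ⟨Q, K, s, r, Sh⟩ := S.reduced.exists_shape hl hC
  haveI := Sh.cyc
  set O := Cfsg.pCore 2 (closure (blockAt D d f ∪ {p})) with hO
  set π := QuotientGroup.mk' O
  set f0 : closure (blockAt D d f ∪ {p}) := ⟨f, S.memd⟩
  set p0 : closure (blockAt D d f ∪ {p}) := ⟨p, S.memx⟩
  -- conjugation on the quotient
  have hconj : ∀ {y : G}, y ∈ genGroup D d x → Commute d (y * d * y⁻¹) →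
      ∀ g : closure (blockAt D d f ∪ {p}), y * g * y⁻¹ ∈ closure (blockAt D d f ∪ {p}) := by
    intro y hy h g
    have : closure (blockAt D d f ∪ {p}) ≤
        (closure (blockAt D d f ∪ {p})).comap (MulAut.conj y).toMonoidHom := by
      refine (closure_le _).2 ?_
      rintro a (ha | ha)
      · exact subset_closure (Or.inl ((C.blockR_conj M hp hdp hxp hfp hy h).2 ha))
      · rw [Set.mem_singleton_iff] at ha
        refine subset_closure (Or.inr ?_)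
        show y * a * y⁻¹ = p
        rw [ha, (C.gen_p M hp hdp hxp hfp hy).2.symm.eq, mul_inv_cancel_right]
    exact this g.2
  have hinv : ∀ {y : G}, Commute d (y * d * y⁻¹) → Commute d (y⁻¹ * d * y⁻¹⁻¹) := by
    intro y h
    have := (commute_conj_iff y⁻¹).2 h
    rw [show y⁻¹ * (y * d * y⁻¹) * y⁻¹⁻¹ = d by group] at this
    exact this.symm
  have mkφ : ∀ {y : G}, y ∈ genGroup D d x → Commute d (y * d * y⁻¹) →
      ∃ φ : (closure (blockAt D d f ∪ {p}) ⧸ O) →* (closure (blockAt D d f ∪ {p}) ⧸ O),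
        ∀ g h : closure (blockAt D d f ∪ {p}), (h : G) = y * (g : G) * y⁻¹ → φ (π g) = π h := by
    intro y hy h
    let c : closure (blockAt D d f ∪ {p}) →* closure (blockAt D d f ∪ {p}) :=
      ((MulAut.conj y).toMonoidHom.comp (closure (blockAt D d f ∪ {p})).subtype).codRestrict _ (hconj hy h)
    let c' : closure (blockAt D d f ∪ {p}) →* closure (blockAt D d f ∪ {p}) :=
      ((MulAut.conj y⁻¹).toMonoidHom.comp (closure (blockAt D d f ∪ {p})).subtype).codRestrict _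
        (hconj (inv_mem hy) (hinv h))
    have hc' : Function.Injective c' := fun a b e =>
      Subtype.ext ((MulAut.conj y⁻¹).injective (congrArg Subtype.val e))
    haveI : O.Normal := CfsgLib.Coprime.pCore_normal' 2
    have hOle : O ≤ O.comap c := by
      intro o ho
      refine CfsgLib.Coprime.le_pCore (N := O.comap c') ((CfsgLib.Coprime.pCore_isPGroup
        (G := closure (blockAt D d f ∪ {p})) 2).comap_of_injective c' hc') ?_
      show c' (c o) ∈ O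
      rwa [show c' (c o) = o from Subtype.ext (show y⁻¹ * (y * (o : G) * y⁻¹) * y⁻¹⁻¹ = o by group)]
    exact ⟨QuotientGroup.map O O c hOle, fun g h e => congrArg π (Subtype.ext e.symm : c g = h)⟩
  obtain ⟨φ₁, hφ₁⟩ := mkφ hy₁ h₁
  obtain ⟨φ₂, hφ₂⟩ := mkφ hy₂ h₂
  -- the torus is invariant
  have hfix : ∀ {y : G}, y ∈ genGroup D d x →
      ∀ φ : (closure (blockAt D d f ∪ {p}) ⧸ O) →* (closure (blockAt D d f ∪ {p}) ⧸ O),
      (∀ g h : closure (blockAt D d f ∪ {p}), (h : G) = y * (g : G) * y⁻¹ → φ (π g) = π h) → φ (π f0) = π f0 ∧ ∀ k ∈ K, φ k ∈ K := by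
    intro y hy φ hφ
    obtain ⟨hfy, hpy⟩ := C.gen_p M hp hdp hxp hfp hy
    have hf0 : φ (π f0) = π f0 := hφ f0 f0 (by show f = y * f * y⁻¹; rw [hfy.symm.eq, mul_inv_cancel_right])
    have hp0 : φ (π p0) = π p0 := hφ p0 p0 (by show p = y * p * y⁻¹; rw [hpy.symm.eq, mul_inv_cancel_right])
    refine ⟨hf0, fun k hk => ?_⟩
    have hM : ∀ {a}, a ∈ Reduced.blockStab S.reduced hl → φ a ∈ Reduced.blockStab S.reduced hl := by
      intro a ha
      rw [Reduced.mem_blockStab] at ha ⊢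
      have := ha.map φ
      rwa [map_mul, map_mul, map_inv, hf0] at this
    refine Sh.mem_K (hM (Sh.leK hk)) ?_
    have := hM (Sh.leK (inv_mem hk))
    rw [← Sh.set'.inv k hk, map_mul, map_mul, hp0] at this
    exact this
  obtain ⟨hf₁, hK₁⟩ := hfix hy₁ φ₁ hφ₁
  obtain ⟨hf₂, hK₂⟩ := hfix hy₂ φ₂ hφ₂
  let ψ₁ : K →* K := (φ₁.comp K.subtype).codRestrict K fun k => hK₁ k k.2
  let ψ₂ : K →* K := (φ₂.comp K.subtype).codRestrict K fun k => hK₂ k k.2
  obtain ⟨m₁, hm₁⟩ := MonoidHom.map_cyclic ψ₁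
  obtain ⟨m₂, hm₂⟩ := MonoidHom.map_cyclic ψ₂
  have hcommK : ∀ k : K, ψ₁ (ψ₂ k) = ψ₂ (ψ₁ k) := fun k => by
    rw [hm₂ k, map_zpow, hm₂ (ψ₁ k)]
  have hdich : ∀ {a : G}, (ha : a ∈ blockAt D d f) →
      φ₁ (φ₂ (π ⟨a, subset_closure (Or.inl ha)⟩)) = φ₂ (φ₁ (π ⟨a, subset_closure (Or.inl ha)⟩)) := by
    intro a ha
    have hmem : ∀ {b : G} (hb : b ∈ blockAt D d f),
        π ⟨b, subset_closure (Or.inl hb)⟩ ∈ Reduced.block S.reduced hl ∧
          π ⟨b, subset_closure (Or.inl hb)⟩ ≠ 1 := by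
      intro b hb
      obtain ⟨k, hk, hke⟩ := S.exists_conj_A hb
      have e : (⟨k, hk⟩ : closure (blockAt D d f ∪ {p})) * f0 * (⟨k, hk⟩)⁻¹ =
          ⟨b, subset_closure (Or.inl hb)⟩ := Subtype.ext hke
      refine ⟨Or.inr ⟨⟨_, congrArg π e⟩,
        (show Commute f0 ⟨b, subset_closure (Or.inl hb)⟩ from Subtype.ext hb.2.eq).map π⟩, ?_⟩
      rw [← e]
      exact S.mk_ne_one _
    obtain ⟨ka, ⟨hka, hkae⟩, -⟩ := Sh.set'.reg _ (hmem ha).1 (hmem ha).2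
    obtain ⟨kf, ⟨hkf, hkfe⟩, -⟩ := Sh.set'.reg _ (hmem S.mem).1 (hmem S.mem).2
    have e : π ⟨a, subset_closure (Or.inl ha)⟩ = (ka * kf⁻¹) * π f0 * (ka * kf⁻¹)⁻¹ := by
      rw [← hkae, show π f0 = _ from hkfe.symm]
      group
    set k : K := ⟨ka * kf⁻¹, mul_mem hka (inv_mem hkf)⟩
    have hk' : φ₁ (φ₂ (k : closure (blockAt D d f ∪ {p}) ⧸ O)) = φ₂ (φ₁ k) := congrArg Subtype.val (hcommK k)
    rw [e]
    simp only [map_mul φ₁, map_mul φ₂, map_inv φ₁, map_inv φ₂, hf₁, hf₂]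
    simp only [show (k : closure (blockAt D d f ∪ {p}) ⧸ O) = ka * kf⁻¹ from rfl, map_mul φ₁, map_mul φ₂,
      map_inv φ₁, map_inv φ₂] at hk'
    rw [hk']
  -- read it off
  have hTw : ∀ z, y₁ * y₂ * y₁⁻¹ * y₂⁻¹ * z * (y₁ * y₂ * y₁⁻¹ * y₂⁻¹)⁻¹ ∈ blockAt D d f ↔
      z ∈ blockAt D d f := fun z => by
    have i1 := fun z => C.blockR_conj M hp hdp hxp hfp (z := z) (inv_mem hy₁) (hinv h₁)
    have i2 := fun z => C.blockR_conj M hp hdp hxp hfp (z := z) (inv_mem hy₂) (hinv h₂)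
    rw [show y₁ * y₂ * y₁⁻¹ * y₂⁻¹ * z * (y₁ * y₂ * y₁⁻¹ * y₂⁻¹)⁻¹ =
      y₁ * (y₂ * (y₁⁻¹ * (y₂⁻¹ * z * y₂⁻¹⁻¹) * y₁⁻¹⁻¹) * y₂⁻¹) * y₁⁻¹ by group, hT1, hT2, i1, i2]
  refine ⟨hTw, fun c hc => ?_⟩
  set a := y₁ * y₂ * y₁⁻¹ * y₂⁻¹ * c * (y₁ * y₂ * y₁⁻¹ * y₂⁻¹)⁻¹ with ha
  have haT : a ∈ blockAt D d f := (hTw c).2 hc
  set c' := y₁⁻¹ * (y₂⁻¹ * c * y₂⁻¹⁻¹) * y₁⁻¹⁻¹ with hc'def
  have hc2 : y₂⁻¹ * c * y₂⁻¹⁻¹ ∈ blockAt D d f :=
    (C.blockR_conj M hp hdp hxp hfp (inv_mem hy₂) (hinv h₂)).2 hc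
  have hc' : c' ∈ blockAt D d f := (C.blockR_conj M hp hdp hxp hfp (inv_mem hy₁) (hinv h₁)).2 hc2
  have e1 : φ₁ (φ₂ (π ⟨c', subset_closure (Or.inl hc')⟩)) = π ⟨a, subset_closure (Or.inl haT)⟩ := by
    rw [hφ₂ _ ⟨_, subset_closure (Or.inl ((hT2 _).2 hc'))⟩ rfl]
    exact hφ₁ _ _ (by show a = y₁ * (y₂ * c' * y₂⁻¹) * y₁⁻¹; rw [ha, hc'def]; group)
  have e2 : φ₂ (φ₁ (π ⟨c', subset_closure (Or.inl hc')⟩)) = π ⟨c, subset_closure (Or.inl hc)⟩ := by
    rw [hφ₁ _ ⟨_, subset_closure (Or.inl ((hT1 _).2 hc'))⟩ rfl]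
    exact hφ₂ _ _ (by show c = y₂ * (y₁ * c' * y₁⁻¹) * y₂⁻¹; rw [hc'def]; group)
  have heq := (e1.symm.trans (hdich hc')).trans e2
  have hcomm : ∀ {b : G}, b ∈ blockAt D d f → Commute b d ∧ Commute b f := fun hb =>
    ⟨(comp_sub R.ot.1 C.hf C.fd.symm hb.1).2.symm, hb.2.symm⟩
  refine C.mem_stab M hp hdp hxp hfp ((hcomm haT).1.mul_left (hcomm hc).1.inv_left)
    ((hcomm haT).2.mul_left (hcomm hc).2.inv_left) ?_
  exact S.move_x (o := ⟨a, subset_closure (Or.inl haT)⟩ * (⟨c, subset_closure (Or.inl hc)⟩)⁻¹)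
    (by rw [map_mul, map_inv, heq, mul_inv_cancel])

end Cfg

end CfsgLib.RootInvol.OddPartner
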